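import Cfsg.Agent.Lib.Components.SLPair.Pairs
import Cfsg.Agent.Lib.Components.SchreierBalance

/-!
# Perfect groups acting on a component; orders of the images
-/

set_option autoImplicit false
set_option linter.style.haveILetI false
set_option linter.unusedSectionVars false

namespace CfsgLib.SLPair

open Cfsg Subgroup CfsgLib.Components

universe u

theorem exists_minimal_perfect {X Y : Type*} [Group X] [Group Y] [Finite X] (f : X →* Y)
    (W : Subgroup X) {T : Subgroup Y} (hT : ⁅T, T⁆ = T) (hW : W.map f = T) :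
    ∃ V, V ≤ W ∧ ⁅V, V⁆ = V ∧ V.map f = T := by
  obtain ⟨V, ⟨hle, hV⟩, hmin⟩ :=
    Set.Finite.exists_minimal (s := {V : Subgroup X | V ≤ W ∧ V.map f = T}) (Set.toFinite _)
      ⟨W, le_rfl, hW⟩
  refine ⟨V, hle, ?_, hV⟩
  have h1 : ⁅V, V⁆ ≤ V := Subgroup.commutator_le.2 fun a ha b hb =>
    mul_mem (mul_mem (mul_mem ha hb) (inv_mem ha)) (inv_mem hb)
  exact le_antisymm h1 (hmin ⟨h1.trans hle, by rw [map_commutator, hV, hT]⟩ h1)

namespace IsUQ

variable {H : Type u} [Group H] [Finite H] {F : Subgroup H} {zb : H} (hF : IsUQ F zb)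
include hF

theorem card_center : Nat.card (center ↥F) = 2 := by
  have e : center ↥F = zpowers (⟨zb, hF.mem⟩ : ↥F) := by
    refine le_antisymm (fun c hc => ?_) (zpowers_le.2 (mem_center_iff.2 fun g =>
      Subtype.ext (hF.central g.2)))
    rcases (hF.mk_eq_one c.2).1 ((QuotientGroup.eq_one_iff _).2 hc) with h | h
    · rw [show c = 1 from Subtype.ext h]; exact one_mem _
    · rw [show c = (⟨zb, hF.mem⟩ : ↥F) from Subtype.ext h]; exact mem_zpowers _
  rw [e, Nat.card_zpowers, ← orderOf_coe, hF.ord]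

theorem card_quotient_mul : Nat.card (↥F ⧸ center ↥F) * 2 = Nat.card F := by
  rw [← hF.card_center, mul_comm, CfsgLib.Base.card_mul_card_quotient]

theorem eq_one_or_of_commute_mod {f : H} (hf : f ∈ F)
    (h : ∀ g ∈ F, f * g * f⁻¹ * g⁻¹ = 1 ∨ f * g * f⁻¹ * g⁻¹ = zb) : f = 1 ∨ f = zb := by
  haveI := hF.simple_quotient.1
  have hcen : QuotientGroup.mk' (center ↥F) ⟨f, hf⟩ ∈ center (↥F ⧸ center ↥F) :=
    mem_center_iff.2 fun g => by
      obtain ⟨a, rfl⟩ := QuotientGroup.mk'_surjective _ g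
      have h2 := (hF.mk_eq_one (mul_mem (mul_mem (mul_mem hf a.2) (inv_mem hf)) (inv_mem a.2))).2
        (h a a.2)
      have h3 : QuotientGroup.mk' (center ↥F) (⟨f, hf⟩ * a * (⟨f, hf⟩)⁻¹ * a⁻¹) = 1 := h2
      rw [map_mul, map_mul, map_mul, map_inv, map_inv, mul_inv_eq_one, mul_inv_eq_iff_eq_mul] at h3
      exact h3.symm
  rw [CfsgLib.Small.center_eq_bot hF.simple_quotient.2, mem_bot, QuotientGroup.mk'_apply] at hcen
  exact (hF.mk_eq_one hf).1 hcen

/-- A perfect group acting on a component `F` and commuting with a nontrivially acting element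
has small image. -/
theorem small_image (hcomp : IsComponent F) {t : H} (ht : cj t F = F)
    (hnt : ∃ f ∈ F, t * f ≠ f * t) {X : Type*} [Group X] [Finite X]
    (hperf : commutator X = ⊤) (θ : X →* H) (hN : ∀ x, θ x ∈ normalizer (F : Set H))
    (hc : ∀ x, θ x * t = t * θ x) {Q : Type*} [Group Q] (g : X →* Q) (hg : Function.Surjective g)
    (hker : ∀ x, θ x ∈ centralizer (F : Set H) → g x = 1) :
    Nat.card Q < Nat.card (↥F ⧸ center ↥F) := by
  have hle : θ.range ≤ F ⊔ centralizer (F : Set H) := by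
    refine le_sup_centralizer_of_perfect ?_ hcomp hF.isSolvable_out ?_
    · rw [MonoidHom.range_eq_map, ← map_commutator, ← _root_.commutator_def, hperf]
    · rintro _ ⟨x, rfl⟩; exact hN x
  have hcomm : ∀ (a : ↥F) (b : ↥(centralizer (F : Set H))),
      Commute (F.subtype a) ((centralizer (F : Set H)).subtype b) := fun a b =>
    mem_centralizer_iff.1 b.2 a a.2
  have htF : ∀ a ∈ F, t * a * t⁻¹ ∈ F := fun a ha => by
    have := conj_mem_cj t ha; rwa [ht] at this
  have htFi : ∀ a ∈ F, t⁻¹ * a * t ∈ F := fun a ha => by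
    rw [← mem_cj, ht]; exact ha
  let θN : X →* MulAut ↥F :=
    F.normalizerMonoidHom.comp (θ.codRestrict (normalizer (F : Set H)) hN)
  let tN : ↥(normalizer (F : Set H)) := ⟨t, cj_eq_self.1 ht⟩
  let P : Subgroup ↥F :=
    { carrier := {f | t * (f : H) * t⁻¹ * (f : H)⁻¹ = 1 ∨ t * (f : H) * t⁻¹ * (f : H)⁻¹ = zb}
      one_mem' := Or.inl (by simp)
      mul_mem' := by
        intro a b ha hb
        have e : t * ((a * b : ↥F) : H) * t⁻¹ * ((a * b : ↥F) : H)⁻¹ =
            (t * a * t⁻¹) * (t * b * t⁻¹ * (b : H)⁻¹) * (a : H)⁻¹ := by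
          rw [Subgroup.coe_mul]; group
        rw [Set.mem_ofPred_eq, e]
        have hta : t * a * t⁻¹ ∈ F := htF _ a.2
        rcases ha with ha | ha <;> rcases hb with hb | hb <;> rw [hb]
        · exact Or.inl (by rw [mul_one]; exact ha)
        · exact Or.inr (by rw [hF.central hta, mul_assoc, ha, mul_one])
        · exact Or.inr (by rw [mul_one]; exact ha)
        · exact Or.inl (by rw [hF.central hta, mul_assoc, ha, hF.mul_self])
      inv_mem' := by
        intro a ha
        have e : t * ((a⁻¹ : ↥F) : H) * t⁻¹ * ((a⁻¹ : ↥F) : H)⁻¹ =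
            (t * a * t⁻¹)⁻¹ * (t * a * t⁻¹ * (a : H)⁻¹)⁻¹ * (t * a * t⁻¹) := by
          rw [Subgroup.coe_inv]; group
        rw [Set.mem_ofPred_eq, e]
        have hta : t * a * t⁻¹ ∈ F := htF _ a.2
        rcases ha with ha | ha <;> rw [ha]
        · exact Or.inl (by rw [inv_one, mul_one, inv_mul_cancel])
        · exact Or.inr (by rw [hF.inv_eq, hF.central (inv_mem hta), inv_mul_cancel_right]) }
  have himg : θN.range ≤ P.map MulAut.conj := by
    rintro _ ⟨x, rfl⟩
    have hx := hle ⟨x, rfl⟩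
    have hsup : F ⊔ centralizer (F : Set H) =
        (F.subtype.noncommCoprod (centralizer (F : Set H)).subtype hcomm).range := by
      rw [MonoidHom.noncommCoprod_range, range_subtype, range_subtype]
    rw [hsup] at hx
    obtain ⟨⟨f, c⟩, hfc⟩ := hx
    have hfc' : (f : H) * c = θ x := hfc
    refine ⟨f, ?_, ?_⟩
    · have h1 := hc x
      rw [← hfc'] at h1
      have hmem : t * (f : H) * t⁻¹ * (f : H)⁻¹ ∈ F :=
        mul_mem (htF _ f.2) (inv_mem f.2)
      refine hF.center_cases hmem fun k hk => ?_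
      have hck : Commute (c : H) k := (mem_centralizer_iff.1 c.2 k hk).symm
      have htck : Commute (t * (c : H) * t⁻¹) k := by
        have hk' : t⁻¹ * k * t ∈ F := htFi _ hk
        have := (show Commute (c : H) (t⁻¹ * k * t) from (mem_centralizer_iff.1 c.2 _ hk').symm)
        calc t * (c : H) * t⁻¹ * k = t * ((c : H) * (t⁻¹ * k * t)) * t⁻¹ := by group
          _ = k * (t * (c : H) * t⁻¹) := by rw [this.eq]; group
      -- `t f t⁻¹ f⁻¹ = (t c t⁻¹)⁻¹ f c f⁻¹` up to the commuting of `t` with `f c`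
      have e2 : t * (f : H) * t⁻¹ * (t * (c : H) * t⁻¹) = f * c := by
        calc t * (f : H) * t⁻¹ * (t * (c : H) * t⁻¹) = t * ((f : H) * c) * t⁻¹ := by group
          _ = _ := by rw [← h1, mul_inv_cancel_right]
      have e3 : t * (f : H) * t⁻¹ = f * c * (t * (c : H) * t⁻¹)⁻¹ := eq_mul_inv_of_mul_eq e2
      have hfc2 : Commute (f : H) c := hcomm f c
      have e4 : t * (f : H) * t⁻¹ * (f : H)⁻¹ = (c : H) * ((f : H) * (t * (c : H) * t⁻¹)⁻¹ * (f : H)⁻¹) := by
        rw [e3, hfc2.eq]; group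
      have htcf : Commute (t * (c : H) * t⁻¹)⁻¹ (f : H) := by
        have hk' : t⁻¹ * (f : H) * t ∈ F := htFi _ f.2
        have := (show Commute (c : H) (t⁻¹ * f * t) from (mem_centralizer_iff.1 c.2 _ hk').symm)
        refine Commute.inv_left ?_
        calc t * (c : H) * t⁻¹ * f = t * ((c : H) * (t⁻¹ * f * t)) * t⁻¹ := by group
          _ = (f : H) * (t * (c : H) * t⁻¹) := by rw [this.eq]; group
      rw [htcf.symm.eq, mul_inv_cancel_right] at e4
      rw [e4]
      exact (hck.mul_left htck.inv_left).eq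
    · refine MulEquiv.ext fun k => Subtype.ext ?_
      show (f : H) * k * (f : H)⁻¹ = θ x * k * (θ x)⁻¹
      rw [← hfc']
      calc (f : H) * k * (f : H)⁻¹ = (f : H) * ((c : H) * k * (c : H)⁻¹) * (f : H)⁻¹ := by
            rw [← mem_centralizer_iff.1 c.2 k k.2, mul_inv_cancel_right]
        _ = _ := by group
  have hlt : P.map MulAut.conj < (⊤ : Subgroup ↥F).map MulAut.conj := by
    refine lt_of_le_of_ne (map_mono le_top) fun e => ?_
    have hcp : center ↥F ≤ P := fun c hcc => by
      rcases (hF.mk_eq_one c.2).1 ((QuotientGroup.eq_one_iff _).2 hcc) with h | h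
      · exact Or.inl (by rw [h, mul_one, mul_inv_cancel, inv_one, mul_one])
      · refine Or.inl ?_
        have hzt : t * zb * t⁻¹ = zb := by
          have hm : t * zb * t⁻¹ ∈ F := htF _ hF.mem
          refine (hF.eq_of_sq hm ?_).resolve_left fun h1 => hF.ne_one (conj_eq_one_iff.1 h1)
          calc t * zb * t⁻¹ * (t * zb * t⁻¹) = t * (zb * zb) * t⁻¹ := by group
            _ = 1 := by rw [hF.mul_self, mul_one, mul_inv_cancel]
        rw [h, hzt, mul_inv_cancel]
    have hP : P = ⊤ := by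
      rw [eq_top_iff]
      intro f _
      obtain ⟨f', hf', hff⟩ : MulAut.conj f ∈ P.map MulAut.conj := by
        rw [e]; exact mem_map_of_mem MulAut.conj (mem_top f)
      have hk : f'⁻¹ * f ∈ center ↥F := mem_center_iff.2 fun k => by
        have h1 := DFunLike.congr_fun hff k
        simp only [MulAut.conj_apply] at h1
        calc k * (f'⁻¹ * f) = f'⁻¹ * (f' * k * f'⁻¹) * f := by group
          _ = f'⁻¹ * f * k := by rw [h1]; group
      simpa using mul_mem hf' (hcp hk)
    obtain ⟨f, hf, hne⟩ := hnt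
    apply hne
    refine mul_inv_eq_iff_eq_mul.1 ?_
    exact congrArg Subtype.val (eq_self_of_mod_center hF.qs.1.commutator_eq_top
      (F.normalizerMonoidHom tN) (fun a => by
        have ha : a ∈ P := hP ▸ mem_top a
        have hm : t * (a : H) * t⁻¹ * (a : H)⁻¹ ∈ F := mul_mem (htF _ a.2) (inv_mem a.2)
        exact (QuotientGroup.eq_one_iff _).1 ((hF.mk_eq_one hm).2 ha)) ⟨f, hf⟩)
  have h1 : Nat.card θN.range < Nat.card (↥F ⧸ center ↥F) := by
    have hker' : (MulAut.conj : ↥F →* MulAut ↥F).ker = center ↥F := by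
      ext a
      rw [MonoidHom.mem_ker, mem_center_iff]
      constructor
      · intro h k
        have := DFunLike.congr_fun h k
        rw [MulAut.conj_apply, MulAut.one_apply, mul_inv_eq_iff_eq_mul] at this
        exact this.symm
      · intro h
        refine MulEquiv.ext fun k => ?_
        rw [MulAut.conj_apply, MulAut.one_apply, ← h k, mul_inv_cancel_right]
    rw [← hker', Nat.card_congr (QuotientGroup.quotientKerEquivRange _).toEquiv,
      MonoidHom.range_eq_map (MulAut.conj : ↥F →* MulAut ↥F)]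
    refine lt_of_le_of_lt (Nat.le_of_dvd Nat.card_pos (card_dvd_of_le himg)) ?_
    exact lt_of_le_of_ne (Nat.le_of_dvd Nat.card_pos (card_dvd_of_le hlt.le))
      fun e => hlt.ne (Subgroup.eq_of_le_of_card_ge hlt.le e.ge)
  refine lt_of_le_of_lt ?_ h1
  rw [← index_ker, ← Nat.card_congr (QuotientGroup.quotientKerEquivOfSurjective g hg).toEquiv,
    ← index_eq_card]
  refine Nat.le_of_dvd (Nat.pos_of_ne_zero index_ne_zero_of_finite) (index_dvd_of_le fun x hx => ?_)
  rw [MonoidHom.mem_ker] at hx ⊢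
  refine hker x (mem_centralizer_iff.2 fun k hk => ?_)
  have := congrArg Subtype.val (DFunLike.congr_fun hx (⟨k, hk⟩ : ↥F))
  exact (mul_inv_eq_iff_eq_mul.1 (show θ x * k * (θ x)⁻¹ = k from this)).symm

end IsUQ

theorem Intrinsic.card_img {G : Type u} [Group G] [Finite G] {z : G} {J : Subgroup G}
    (c : Intrinsic z J) : Nat.card (img z J) = Nat.card (↥J ⧸ oddCore ↥J) := by
  set C := centralizer ({z} : Set G)
  let f : ↥(J.subgroupOf C) →* ↥(img z J) :=
    (QuotientGroup.mk' (pPrimeCore 2 ↥C)).subgroupMap (J.subgroupOf C)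
  have hf : Function.Surjective f := MonoidHom.subgroupMap_surjective _ _
  have hker : f.ker = pPrimeCore 2 ↥(J.subgroupOf C) := by
    apply map_injective (J.subgroupOf C).subtype_injective
    rw [map_pPrimeCore_pComponent c.comp]
    ext x
    simp only [Subgroup.mem_map, MonoidHom.mem_ker, mem_inf]
    constructor
    · rintro ⟨y, hy, rfl⟩
      exact ⟨y.2, (QuotientGroup.eq_one_iff _).mp (congrArg Subtype.val hy)⟩
    · rintro ⟨hx, hxN⟩
      exact ⟨⟨x, hx⟩, Subtype.ext ((QuotientGroup.eq_one_iff _).mpr hxN), rfl⟩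
  rw [← Nat.card_congr (QuotientGroup.quotientKerEquivOfSurjective f hf).toEquiv, hker]
  exact Nat.card_congr (QuotientGroup.congr _ _ (subgroupOfEquivOfLe c.le)
    (CfsgLib.Base.map_pPrimeCore_mulEquiv _)).toEquiv

end CfsgLib.SLPair
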