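import Cfsg.Agent.Lib.Components.SLPair.Pairs

/-!
# A 2-element of `B` centralising `zA` and moving `A` forces `zB` to act on `A`
-/

set_option autoImplicit false
set_option linter.style.haveILetI false
set_option linter.unusedSectionVars false

namespace CfsgLib.SLPair

open Cfsg Subgroup CfsgLib.Components

universe u

variable {G : Type u} [Group G] [Finite G] {zA zB : G} {A B : Subgroup G}

namespace Pair

variable (p : Pair zA A zB B) {y : G}
include p

/-- The core lemma: a diagonal quasisimple subgroup centralised by `σ` which `Y` moves to a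
commuting one contains `σ`. -/
theorem sigma_mem (hyB : y ∈ B) (hyA : y ∈ centralizer ({zA} : Set G))
    {T : Subgroup (Hb zA)} (hqs : IsQuasisimple ↥T) (h2 : 2 ∣ Nat.card T)
    (hZ : ∀ a ∈ T, (∀ b ∈ T, a * b = b * a) → a * a = 1)
    (hσ : ∀ a ∈ T, a * q zA zB = q zA zB * a)
    (hT' : ∀ a ∈ T, ∀ b ∈ T, Commute (q zA y * a * (q zA y)⁻¹) b)
    (hT'' : (∀ a ∈ T, q zA y * (q zA y * a * (q zA y)⁻¹) * (q zA y)⁻¹ ∈ T) ∨
      ∀ a ∈ T, ∀ b ∈ T, Commute (q zA y * (q zA y * a * (q zA y)⁻¹) * (q zA y)⁻¹) b) :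
    q zA zB ∈ T := by
  set Y := q zA y with hY
  have hyC : y ∈ centralizer ({zB} : Set G) := p.cB.le hyB
  let D : Subgroup G := centralizer ({zA} : Set G) ⊓ centralizer ({zB} : Set G) ⊓
    normalizer (B : Set G)
  let U : Subgroup (Hb zA) :=
    ((D.subgroupOf (centralizer ({zA} : Set G))).map (QuotientGroup.mk' _)) ⊓ T
  have hmemU : ∀ x ∈ centralizer ({zA} : Set G), x ∈ centralizer ({zB} : Set G) →
      x ∈ normalizer (B : Set G) → q zA x ∈ T → q zA x ∈ U := fun x h1 h2 h3 h4 =>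
    ⟨⟨⟨x, h1⟩, mem_subgroupOf.2 ⟨⟨h1, h2⟩, h3⟩, (q_eq h1).symm⟩, h4⟩
  have lift : ∀ a ∈ T, ∃ x ∈ centralizer ({zA} : Set G), x ∈ centralizer ({zB} : Set G) ∧
      q zA x = a := fun a ha => p.exists_lift (hσ a ha)
  -- outside `U`, the element `w` below is central in `T`
  have moved : ∀ a ∈ T, a ∉ U → ∀ u w : Hb zA, w ∈ T → (∀ b ∈ T, Commute u b) →
      Y * a * Y⁻¹ * (Y * (Y * a * Y⁻¹) * Y⁻¹)⁻¹ * (Y * a * Y⁻¹) * a⁻¹ = u * w →
      ∀ b ∈ T, w * b = b * w := by
    intro a ha haU u w hw hu hv b hb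
    obtain ⟨x, hxA, hxB, hxq⟩ := lift a ha
    subst hxq
    have hx : x ∉ normalizer (B : Set G) := fun h => haU (hmemU x hxA hxB h ha)
    have hvN := p.comm_of_moves hxA hxB hx hyB hyA hyB hyA
    have h1 : x * y * x⁻¹ ∈ centralizer ({zA} : Set G) :=
      mul_mem (mul_mem hxA hyA) (inv_mem hxA)
    rw [q_mul (mul_mem (mul_mem hyA h1) (inv_mem hyA)) (inv_mem h1), q_conj hyA h1, q_inv h1,
      q_conj hxA hyA, ← hY] at hvN
    have he : Y * (q zA x * Y * (q zA x)⁻¹) * Y⁻¹ * (q zA x * Y * (q zA x)⁻¹)⁻¹ = u * w := by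
      rw [← hv]; group
    rw [he] at hvN
    -- the subgroup `N ⊓ T` is normal in `T` of odd order
    haveI hnorm : ((coreImg zB zA).subgroupOf T).Normal := ⟨fun n hn g => by
      rw [mem_subgroupOf] at hn ⊢
      obtain ⟨g', hg1, hg2, hgq⟩ := lift g g.2
      have := coreImg_conj hg1 hg2 hn
      rw [hgq] at this
      exact this⟩
    have hle : (coreImg zB zA).subgroupOf T ≤ center ↥T := by
      refine (quasisimple_normal_eq_top_or_le_center hqs _).resolve_left fun htop => ?_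
      rw [subgroupOf_eq_top] at htop
      exact ((coreImg_odd zB zA).of_dvd_nat (card_dvd_of_le htop)).not_two_dvd_nat h2
    obtain ⟨b', hb1, hb2, hbq⟩ := lift b hb
    have hmem : w * b * w⁻¹ * b⁻¹ ∈ coreImg zB zA := by
      have := mul_mem hvN (coreImg_conj hb1 hb2 (inv_mem hvN))
      rw [hbq] at this
      have e : u * w * (b * (u * w)⁻¹ * b⁻¹) = w * b * w⁻¹ * b⁻¹ := by
        calc u * w * (b * (u * w)⁻¹ * b⁻¹) = u * (w * b * w⁻¹) * u⁻¹ * b⁻¹ := by group
          _ = _ := by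
            rw [(hu _ (mul_mem (mul_mem hw hb) (inv_mem hw))).eq, mul_inv_cancel_right]
      rwa [e] at this
    have hmT : w * b * w⁻¹ * b⁻¹ ∈ T := mul_mem (mul_mem (mul_mem hw hb) (inv_mem hw)) (inv_mem hb)
    have hc := hle (show (⟨_, hmT⟩ : ↥T) ∈ (coreImg zB zA).subgroupOf T from hmem)
    have h11 := hZ _ hmT fun b hb =>
      (congrArg Subtype.val (mem_center_iff.1 hc ⟨b, hb⟩)).symm
    have h12 := eq_one_of_odd_of_sq (odd_orderOf_of_mem (coreImg_odd zB zA) hmem) h11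
    exact mul_inv_eq_iff_eq_mul.1 (mul_inv_eq_one.1 h12)
  have hcen : ∀ a ∈ T, ∀ b ∈ T, Commute (Y * a * Y⁻¹) b := hT'
  have hU : T ≤ U := by
    haveI := hqs.2
    set π := QuotientGroup.mk' (center ↥T)
    have hna : ¬ IsMulCommutative (↥T ⧸ center ↥T) := fun hc => by
      apply quasisimple_center_ne_top hqs
      rw [eq_top_iff, ← hqs.1.commutator_eq_top, _root_.commutator_def, Subgroup.commutator_le]
      intro a _ b _
      rw [← QuotientGroup.eq_one_iff, ← QuotientGroup.mk'_apply, map_commutatorElement,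
        commutatorElement_eq_one_iff_mul_comm]
      exact hc.is_comm.comm _ _
    rcases hT'' with hin | hout
    · let φ₀ : ↥T →* ↥T := MonoidHom.mk'
        (fun a => ⟨Y * (Y * a * Y⁻¹) * Y⁻¹, hin a a.2⟩) fun a b => Subtype.ext (by
          simp only [Subgroup.coe_mul]; group)
      have hinj : Function.Injective φ₀ := fun a b h => by
        have := congrArg Subtype.val h
        simpa [φ₀] using this
      let φ : ↥T ≃* ↥T := MulEquiv.ofBijective φ₀ (Finite.injective_iff_bijective.1 hinj)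
      let ψ : ↥T ⧸ center ↥T ≃* ↥T ⧸ center ↥T := QuotientGroup.congr _ _ φ
        (characteristic_iff_map_eq.1 inferInstance φ)
      have htop : (U.subgroupOf T).map π = ⊤ := by
        refine eq_top_of_inverting (CfsgLib.Small.center_eq_bot hna)
          (fun h => CfsgLib.Small.five_le_index hna h) ψ.toMonoidHom fun l hl => ?_
        obtain ⟨⟨a, ha⟩, rfl⟩ := QuotientGroup.mk'_surjective _ l
        have haU : a ∉ U := fun h => hl ⟨⟨a, ha⟩, h, rfl⟩
        have hc := moved a ha haU ((Y * a * Y⁻¹) * (Y * a * Y⁻¹))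
          ((Y * (Y * a * Y⁻¹) * Y⁻¹)⁻¹ * a⁻¹) (mul_mem (inv_mem (hin a ha)) (inv_mem ha))
          (fun b hb => (hT' a ha b hb).mul_left (hT' a ha b hb)) (by
            have e := (hcen a ha _ (hin a ha)).inv_right.eq
            generalize (Y * (Y * a * Y⁻¹) * Y⁻¹)⁻¹ = a2 at e ⊢
            calc Y * a * Y⁻¹ * a2 * (Y * a * Y⁻¹) * a⁻¹
                = Y * a * Y⁻¹ * (a2 * (Y * a * Y⁻¹)) * a⁻¹ := by group
              _ = _ := by rw [← e]; group)
        have h1 : π (φ ⟨a, ha⟩)⁻¹ * π (⟨a, ha⟩ : ↥T)⁻¹ = 1 := by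
          rw [← map_mul]
          exact (QuotientGroup.eq_one_iff _).2 (mem_center_iff.2 fun g => Subtype.ext (hc g g.2).symm)
        rw [map_inv, map_inv] at h1
        show π (φ ⟨a, ha⟩) = (π (⟨a, ha⟩ : ↥T))⁻¹
        simpa using inv_eq_of_mul_eq_one_right h1
      have htop2 : U.subgroupOf T ⊔ center ↥T = ⊤ := by
        have := congrArg (Subgroup.comap π) htop
        rwa [comap_map_eq, comap_top, QuotientGroup.ker_mk'] at this
      intro a ha
      have : (⟨a, ha⟩ : ↥T) ∈ U.subgroupOf T := by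
        have hn : (U.subgroupOf T).Normal := by
          refine normalizer_eq_top_iff.1 (eq_top_iff.2 ?_)
          rw [← htop2]
          exact sup_le le_normalizer fun c hc => mem_normalizer_iff.2 fun n => by
            rw [← mem_center_iff.1 hc n, mul_inv_cancel_right]
        have hcomm : commutator ↥T ≤ U.subgroupOf T :=
          Normal.commutator_le_of_self_sup_commutative_eq_top htop2
            (le_centralizer_iff_isMulCommutative.mp (center_le_centralizer _))
        exact hcomm (hqs.1.commutator_eq_top ▸ mem_top _)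
      exact this
    · refine (le_or_le_of_forall (U := U) (V := T ⊓ centralizer (T : Set (Hb zA))) (W := T)
        fun a ha => ?_).resolve_right fun h => ?_
      · by_cases haU : a ∈ U
        · exact Or.inl haU
        refine Or.inr ⟨ha, mem_centralizer_iff.2 fun b hb => ?_⟩
        have hc := moved a ha haU ((Y * a * Y⁻¹) * (Y * (Y * a * Y⁻¹) * Y⁻¹)⁻¹ * (Y * a * Y⁻¹))
          a⁻¹ (inv_mem ha)
          (fun b hb => ((hT' a ha b hb).mul_left (hout a ha b hb).inv_left).mul_left (hT' a ha b hb))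
          rfl b hb
        exact (Commute.inv_left_iff.1 (show Commute a⁻¹ b from hc)).eq.symm
      · apply quasisimple_center_ne_top hqs
        rw [eq_top_iff]
        exact fun a _ => mem_center_iff.2 fun b =>
          Subtype.ext (mem_centralizer_iff.1 (h a.2).2 b b.2)
  -- now `T` lies in the image of `B ∩ C(zA)`
  set R : Subgroup (Hb zA) :=
    ((B.subgroupOf (centralizer ({zA} : Set G))).map (QuotientGroup.mk' _)) with hR
  have hmemR : ∀ x ∈ centralizer ({zA} : Set G), x ∈ B → q zA x ∈ R :=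
    fun x h1 h2 => ⟨⟨x, h1⟩, h2, (q_eq h1).symm⟩
  have key : ∀ a ∈ T, ∀ b ∈ T, a * b * a⁻¹ * b⁻¹ ∈ R := by
    intro a ha b hb
    obtain ⟨⟨⟨xa, hxa1⟩, hxa, rfl⟩, -⟩ := hU ha
    obtain ⟨⟨⟨xb, hxb1⟩, hxb, rfl⟩, -⟩ := hU hb
    obtain ⟨-, hna⟩ := mem_subgroupOf.1 hxa
    obtain ⟨-, hnb⟩ := mem_subgroupOf.1 hxb
    simp only [QuotientGroup.mk'_apply, ← q_eq hxa1, ← q_eq hxb1] at ha hb ⊢
    have hc : xa * y * xa⁻¹ * y⁻¹ ∈ B := mul_mem ((mem_normalizer_iff.1 hna y).1 hyB) (inv_mem hyB)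
    have hcA : xa * y * xa⁻¹ * y⁻¹ ∈ centralizer ({zA} : Set G) :=
      mul_mem (mul_mem (mul_mem hxa1 hyA) (inv_mem hxa1)) (inv_mem hyA)
    have h3 := mul_mem (hmemR _ hcA hc) (hmemR _
      (mul_mem (mul_mem hxb1 (inv_mem hcA)) (inv_mem hxb1))
      ((mem_normalizer_iff.1 hnb _).1 (inv_mem hc)))
    have hcq : q zA (xa * y * xa⁻¹ * y⁻¹) = q zA xa * (Y * q zA xa * Y⁻¹)⁻¹ := by
      rw [q_mul (mul_mem (mul_mem hxa1 hyA) (inv_mem hxa1)) (inv_mem hyA), q_conj hxa1 hyA,
        q_inv hyA, ← hY]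
      group
    rw [q_conj hxb1 (inv_mem hcA), q_inv hcA, hcq] at h3
    have e := (hT' _ ha _ hb).eq
    convert h3 using 1
    generalize Y * q zA xa * Y⁻¹ = a' at e
    calc q zA xa * q zA xb * (q zA xa)⁻¹ * (q zA xb)⁻¹
        = q zA xa * (a'⁻¹ * (q zA xb * a')) * (q zA xa)⁻¹ * (q zA xb)⁻¹ := by rw [← e]; group
      _ = _ := by group
  have hTR : T ≤ R := by
    intro a ha
    have h1 : commutator ↥T ≤ R.subgroupOf T := by
      rw [_root_.commutator_def, Subgroup.commutator_le]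
      exact fun a _ b _ => key a a.2 b b.2
    exact h1 (hqs.1.commutator_eq_top ▸ mem_top (⟨a, ha⟩ : ↥T))
  haveI : Fact (Nat.Prime 2) := ⟨Nat.prime_two⟩
  obtain ⟨t, ht⟩ := exists_prime_orderOf_dvd_card' (G := ↥T) 2 h2
  obtain ⟨⟨x, hx⟩, hxB, hxt⟩ := hTR t.2
  rw [QuotientGroup.mk'_apply, ← q_eq hx] at hxt
  have hsq : q zA x * q zA x = 1 := by
    rw [hxt, ← Subgroup.coe_mul, ← sq, orderOf_dvd_iff_pow_eq_one.1 (dvd_of_eq ht)]; rfl
  rcases p.eq_sigma (show x ∈ B from hxB) hx hsq with h | h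
  · exfalso
    rw [hxt] at h
    have : t = 1 := Subtype.ext h
    rw [this, orderOf_one] at ht
    omega
  · rw [← h, hxt]; exact t.2

/-- `zB` normalises `A` when a 2-element of `B` centralising `zA` of order at least four moves
`A`. -/
theorem zB_normalizes (hyB : y ∈ B) (hyA : y ∈ centralizer ({zA} : Set G)) {m : ℕ} (hm : 2 ≤ m)
    (hy : orderOf y = 2 ^ m) (hn : y ∉ normalizer (A : Set G)) :
    zB ∈ normalizer (A : Set G) := by
  by_contra hN
  set Y := q zA y with hYdef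
  set s := q zA zB with hs
  set E := img zA A with hE
  have hsE : cj s E ≠ E := fun h => hN (p.cA.normalizes p.comm h)
  have hYE : cj Y E ≠ E := fun h => hn (p.cA.normalizes hyA h)
  have hsz : s * q zA zA * s⁻¹ = q zA zA := by rw [p.cA.q_central, mul_inv_cancel_right]
  have hYs : Commute Y s := p.sigma_commute hyA (p.cB.le hyB)
  have hpow : y ^ 2 ^ (m - 1) = zB := by
    refine p.cB.uniq _ (pow_mem hyB _) ?_
    rw [orderOf_pow_of_dvd (by positivity) (hy ▸ pow_dvd_pow 2 (by omega)), hy,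
      Nat.pow_div (by omega) two_pos, show m - (m - 1) = 1 by omega, pow_one]
  have hsY : s = (Y * Y) ^ 2 ^ (m - 2) := by
    rw [hs, hYdef, ← hpow, q_pow hyA, ← sq, ← pow_mul, ← pow_succ', show m - 2 + 1 = m - 1 by omega]
  have hYsE : cj Y E ≠ cj s E := by
    intro h
    apply hsE
    have h2 : cj (Y * Y) E = E := by
      rw [← cj_cj, h, cj_cj, hYs.eq, ← cj_cj, h, cj_cj, p.sigma_mul_self, cj_one]
    rw [cj_eq_self] at h2 ⊢
    rw [hsY]
    exact pow_mem h2 _
  -- the diagonal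
  have hcomm : ∀ a ∈ E, ∀ b ∈ E, Commute a (s * b * s⁻¹) := fun a ha b hb =>
    p.cA.commute_of_ne hsE ha (conj_mem_cj s hb)
  let φ : ↥E →* Hb zA := MonoidHom.mk' (fun a => (a : Hb zA) * (s * a * s⁻¹)) fun a b => by
    simp only [Subgroup.coe_mul]
    calc (a : Hb zA) * b * (s * (a * b) * s⁻¹)
        = a * (b * (s * a * s⁻¹)) * (s * b * s⁻¹) := by group
      _ = a * ((s * a * s⁻¹) * b) * (s * b * s⁻¹) := by rw [(hcomm _ b.2 _ a.2).eq]
      _ = a * (s * a * s⁻¹) * (b * (s * b * s⁻¹)) := by group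
  have hU := p.cA.isUQ
  have hker : ∀ a : ↥E, φ a = 1 ↔ ((a : Hb zA) = 1 ∨ (a : Hb zA) = q zA zA) := by
    intro a
    constructor
    · intro h
      refine p.cA.inter_of_ne hsE a.2 ?_
      rw [show (a : Hb zA) = (s * a * s⁻¹)⁻¹ from eq_inv_of_mul_eq_one_left h]
      exact inv_mem (conj_mem_cj s a.2)
    · intro h
      show (a : Hb zA) * (s * a * s⁻¹) = 1
      rcases h with h | h <;> rw [h]
      · group
      · rw [hsz, p.cA.q_mul_self]
  obtain ⟨b, hb, hbb⟩ := hU.exists_sq_eq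
  have hb1 : φ ⟨b, hb⟩ ≠ 1 := fun h => by
    rcases (hker _).1 h with h | h <;> simp only at h <;> subst h
    · exact hU.ne_one (by rw [← hbb, one_mul])
    · exact hU.ne_one (hbb.symm.trans hU.mul_self)
  haveI : Nontrivial ↥φ.range := (nontrivial_iff_ne_bot _).2 fun h => hb1 (by
    have := h ▸ (show φ ⟨b, hb⟩ ∈ φ.range from ⟨_, rfl⟩)
    simpa using this)
  have hqs : IsQuasisimple ↥φ.range :=
    isQuasisimple_of_surjective hU.qs φ.rangeRestrict φ.rangeRestrict_surjective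
  have h2 : 2 ∣ Nat.card φ.range := by
    have : φ ⟨b, hb⟩ * φ ⟨b, hb⟩ = 1 := by
      rw [← map_mul, hker]; exact Or.inr hbb
    have hd := orderOf_dvd_natCard φ.range (show φ ⟨b, hb⟩ ∈ φ.range from ⟨_, rfl⟩)
    rwa [orderOf_eq_prime (p := 2) (by rw [sq, this]) hb1] at hd
  have hZ : ∀ a ∈ φ.range, (∀ c ∈ φ.range, a * c = c * a) → a * a = 1 := by
    rintro _ ⟨a, rfl⟩ hc
    have hcen : ∀ c : ↥E, φ (a * c * a⁻¹ * c⁻¹) = 1 := fun c => by
      rw [map_mul, map_mul, map_mul, hc _ ⟨c, rfl⟩, map_inv, map_inv, mul_inv_cancel_right,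
        mul_inv_cancel]
    have hmem : ∀ c : ↥E, a * c * a⁻¹ * c⁻¹ ∈ center ↥E := fun c =>
      (QuotientGroup.eq_one_iff _).1 ((hU.mk_eq_one (Subtype.coe_prop _)).2 ((hker _).1 (hcen c)))
    have hacen : (QuotientGroup.mk' (center ↥E)) a ∈ center (↥E ⧸ center ↥E) :=
      mem_center_iff.2 fun l => by
        obtain ⟨c, rfl⟩ := QuotientGroup.mk'_surjective _ l
        refine (mul_inv_eq_one.1 ?_).symm
        rw [← map_mul, ← map_mul, ← map_inv, ← map_mul, QuotientGroup.mk'_apply]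
        refine Eq.trans ?_ ((QuotientGroup.eq_one_iff _).2 (hmem c))
        congr 1
        group
    haveI := hU.simple_quotient.1
    rw [CfsgLib.Small.center_eq_bot hU.simple_quotient.2, mem_bot, QuotientGroup.mk'_apply] at hacen
    have := (hker a).2 ((hU.mk_eq_one a.2).1 hacen)
    rw [this, mul_one]
  have hσ : ∀ a ∈ φ.range, a * s = s * a := by
    rintro _ ⟨a, rfl⟩
    show (a : Hb zA) * (s * a * s⁻¹) * s = s * (a * (s * a * s⁻¹))
    calc (a : Hb zA) * (s * a * s⁻¹) * s = a * (s * a * s⁻¹) * s := rfl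
      _ = s * ((s⁻¹ * a * s) * a) := by group
      _ = s * ((s * a * s⁻¹) * a) := by rw [p.sigma_inv]
      _ = s * (a * (s * a * s⁻¹)) := by rw [(hcomm _ a.2 _ a.2).eq]
  -- images under conjugation
  have hconj : ∀ (g : Hb zA) (a : ↥E), Commute g s → g * φ a * g⁻¹ =
      (g * a * g⁻¹) * (s * (g * a * g⁻¹) * s⁻¹) := by
    intro g a hg
    show g * ((a : Hb zA) * (s * a * s⁻¹)) * g⁻¹ = _
    calc g * ((a : Hb zA) * (s * a * s⁻¹)) * g⁻¹
        = g * a * g⁻¹ * ((g * s) * a * (g * s)⁻¹) := by group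
      _ = _ := by rw [hg.eq]; group
  have hmem_cj : ∀ (g : Hb zA) (a : ↥E), Commute g s → (g * a * g⁻¹ ∈ cj g E) ∧
      s * (g * a * g⁻¹) * s⁻¹ ∈ cj (s * g) E := fun g a _ =>
    ⟨conj_mem_cj g a.2, by rw [← cj_cj]; exact conj_mem_cj s (conj_mem_cj g a.2)⟩
  have hcommT : ∀ g : Hb zA, Commute g s → cj g E ≠ E → cj g E ≠ cj s E → ∀ a b : ↥E,
      Commute (g * φ a * g⁻¹) (φ b) := by
    intro g hg h1 h2 a b
    rw [hconj g a hg]
    have h3 : cj (s * g) E ≠ E := fun h => h2 (by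
      apply cj_injective s
      rw [cj_cj, cj_cj, p.sigma_mul_self, cj_one, h])
    have h4 : cj (s * g) E ≠ cj s E := fun h => h1 (by
      rw [← cj_cj] at h
      exact cj_injective s h)
    have hA := fun (k : Hb zA) (hk : cj k E ≠ E) (hk' : cj k E ≠ cj s E) (x : Hb zA)
        (hx : x ∈ cj k E) =>
      show Commute x ((b : Hb zA) * (s * b * s⁻¹)) from
        Commute.mul_right (p.cA.commute_of_ne hk b.2 hx).symm
          (p.cA.commute_cj hk' hx (conj_mem_cj s b.2))
    exact (hA g h1 h2 _ (hmem_cj g a hg).1).mul_left (hA (s * g) h3 h4 _ (hmem_cj g a hg).2)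
  have hT' : ∀ a ∈ φ.range, ∀ c ∈ φ.range, Commute (Y * a * Y⁻¹) c := by
    rintro _ ⟨a, rfl⟩ _ ⟨c, rfl⟩
    exact hcommT Y hYs hYE hYsE a c
  have hT'' : (∀ a ∈ φ.range, Y * (Y * a * Y⁻¹) * Y⁻¹ ∈ φ.range) ∨
      ∀ a ∈ φ.range, ∀ c ∈ φ.range, Commute (Y * (Y * a * Y⁻¹) * Y⁻¹) c := by
    have e : ∀ a, Y * (Y * a * Y⁻¹) * Y⁻¹ = Y * Y * a * (Y * Y)⁻¹ := fun a => by group
    have hYY : Commute (Y * Y) s := hYs.mul_left hYs
    by_cases h1 : cj (Y * Y) E = E
    · refine Or.inl ?_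
      rintro _ ⟨a, rfl⟩
      rw [e, hconj _ a hYY]
      exact ⟨⟨_, (by have := conj_mem_cj (Y * Y) a.2; rwa [h1] at this)⟩, rfl⟩
    by_cases h2 : cj (Y * Y) E = cj s E
    · refine Or.inl ?_
      rintro _ ⟨a, rfl⟩
      rw [e, hconj _ a hYY]
      have hm : Y * Y * a * (Y * Y)⁻¹ ∈ cj s E := by
        have := conj_mem_cj (Y * Y) a.2
        rwa [h2] at this
      rw [mem_cj, p.sigma_inv] at hm
      refine ⟨⟨_, hm⟩, ?_⟩
      generalize Y * Y * (a : Hb zA) * (Y * Y)⁻¹ = e' at hm ⊢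
      show s * e' * s * (s * (s * e' * s) * s⁻¹) = e' * (s * e' * s⁻¹)
      rw [(hcomm _ hm _ hm).eq, p.sigma_inv]
      calc s * (s * e' * s) * s * (s * e' * s) = (s * s) * e' * (s * s) * (s * e' * s) := by group
        _ = e' * (s * e' * s) := by rw [p.sigma_mul_self, one_mul, mul_one]
    refine Or.inr ?_
    rintro _ ⟨a, rfl⟩ _ ⟨c, rfl⟩
    rw [e]
    exact hcommT _ hYY h1 h2 a c
  obtain ⟨a, ha⟩ := p.sigma_mem hyB hyA hqs h2 hZ hσ hT' hT''
  apply hsE
  rw [cj_eq_self]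
  show q zA zB ∈ _
  rw [← ha]
  refine mul_mem (le_normalizer a.2) (mem_normalizer_iff.2 fun e => ?_)
  set k := s * (a : Hb zA) * s⁻¹
  constructor
  · intro he
    rwa [← (hcomm _ he _ a.2).eq, mul_inv_cancel_right]
  · intro he
    have := (hcomm _ he _ a.2).eq
    have he' : e = k * e * k⁻¹ := by
      have h2 : e = k⁻¹ * (k * e * k⁻¹) * k := by group
      rw [mul_assoc, this, inv_mul_cancel_left] at h2
      exact h2
    rw [he']; exact he

/-- `zB` does not centralise `A` modulo the core. -/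
theorem sigma_acts (hyB : y ∈ B) (hyA : y ∈ centralizer ({zA} : Set G))
    (hn : y ∉ normalizer (A : Set G)) (hy2 : y * y ∈ normalizer (A : Set G)) :
    ∃ e ∈ img zA A, e * q zA zB ≠ q zA zB * e := by
  by_contra hcon
  simp only [not_exists, not_and, not_not] at hcon
  set Y := q zA y
  have hU := p.cA.isUQ
  have hYE : cj Y (img zA A) ≠ img zA A := fun h => hn (p.cA.normalizes hyA h)
  have hY2 : cj (Y * Y) (img zA A) = img zA A := by
    rw [← q_mul hyA hyA]; exact p.cA.cj_img_of_normalizes (mul_mem hyA hyA) hy2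
  have h2 := hU.two_dvd_card
  have hmem := p.sigma_mem hyB hyA hU.qs h2
    (fun a ha hc => by rcases hU.center_cases ha hc with h | h <;> rw [h]
                       · rw [mul_one]
                       · exact hU.mul_self)
    hcon (fun a ha b hb => (p.cA.commute_of_ne hYE hb (conj_mem_cj Y ha)).symm)
    (Or.inl fun a ha => by
      have := conj_mem_cj (Y * Y) ha
      rw [hY2] at this
      convert this using 1
      show Y * (Y * a * Y⁻¹) * Y⁻¹ = Y * Y * a * (Y * Y)⁻¹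
      group)
  rcases hU.eq_of_sq hmem p.sigma_mul_self with h | h
  · exact p.sigma_ne_one h
  · exact p.sigma_ne_central h

end Pair

end CfsgLib.SLPair
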