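import Mathlib

/-!
# Odd-order lemmas for commutators with involutions, and a counting lemma in simple groups
-/

set_option autoImplicit false

namespace CfsgLib.SLPair

variable {G : Type*} [Group G]

theorem exists_two_mul_zpow {r : G} (hr : Odd (orderOf r)) : ∃ k : ℤ, r ^ (2 * k) = r := by
  obtain ⟨m, hm⟩ := hr
  refine ⟨m + 1, ?_⟩
  rw [show (2 : ℤ) * (↑m + 1) = ↑(orderOf r) + 1 by rw [hm]; push_cast; ring, zpow_add_one,
    zpow_natCast, pow_orderOf_eq_one, one_mul]

theorem conj_zpow_invol {s t : G} (hs : s * s = 1) (ht : t * t = 1) (j : ℤ) :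
    (s * t) ^ j * t * ((s * t) ^ j)⁻¹ = (s * t) ^ (2 * j) * t := by
  have hinv : (s * t)⁻¹ = t * (s * t) * t⁻¹ := by
    rw [mul_inv_rev, inv_eq_of_mul_eq_one_right ht, inv_eq_of_mul_eq_one_right hs]
    calc t * s = t * s * (t * t) := by rw [ht, mul_one]
      _ = t * (s * t) * t := by group
  have h : ((s * t) ^ j)⁻¹ = t * (s * t) ^ j * t⁻¹ := by rw [← inv_zpow, hinv, conj_zpow]
  rw [h, inv_eq_of_mul_eq_one_right ht, two_mul, zpow_add]
  calc (s * t) ^ j * t * (t * (s * t) ^ j * t) = (s * t) ^ j * (t * t) * (s * t) ^ j * t := by group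
    _ = (s * t) ^ j * (s * t) ^ j * t := by rw [ht, mul_one]

/-- Involutions with product of odd order are conjugate under that product. -/
theorem exists_conj_of_odd {s t : G} (hs : s * s = 1) (ht : t * t = 1)
    (h : Odd (orderOf (s * t))) :
    ∃ o ∈ Subgroup.zpowers (s * t), o * t * o⁻¹ = s := by
  obtain ⟨k, hk⟩ := exists_two_mul_zpow h
  refine ⟨(s * t) ^ k, ⟨k, rfl⟩, ?_⟩
  rw [conj_zpow_invol hs ht, hk, mul_assoc, ht, mul_one]

/-- Involutions whose product has square of odd order: one can be moved to commute with the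
other. -/
theorem exists_commute_of_odd {s t : G} (hs : s * s = 1) (ht : t * t = 1)
    (h : Odd (orderOf ((s * t) ^ 2))) :
    ∃ o ∈ Subgroup.zpowers ((s * t) ^ 2), Commute (o * t * o⁻¹) s := by
  obtain ⟨k, hk⟩ := exists_two_mul_zpow h
  have h2 : ((s * t) ^ 2) ^ (4 * (k * k)) = (s * t) ^ 2 := by
    rw [show (4 : ℤ) * (k * k) = 2 * k * (2 * k) by ring, zpow_mul, hk, hk]
  refine ⟨((s * t) ^ 2) ^ (k * k), ⟨k * k, rfl⟩, ?_⟩
  have ho : ((s * t) ^ 2) ^ (k * k) = (s * t) ^ (2 * (k * k)) := by
    rw [← zpow_natCast, ← zpow_mul]; norm_num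
  have e : (s * t) ^ (4 * (2 * (k * k))) = (s * t) ^ (2 : ℤ) := by
    rw [← zpow_natCast (s * t) 2, ← zpow_mul] at h2
    convert h2 using 2 <;> push_cast <;> ring
  rw [ho, conj_zpow_invol hs ht]
  have hw : ((s * t) ^ (2 * (2 * (k * k))) * t * s) * ((s * t) ^ (2 * (2 * (k * k))) * t * s) = 1 := by
    have hts : t * s = (s * t)⁻¹ := by
      rw [mul_inv_rev, inv_eq_of_mul_eq_one_right ht, inv_eq_of_mul_eq_one_right hs]
    rw [mul_assoc _ t s, hts, ← zpow_sub_one, ← zpow_add,
      show 2 * (2 * (k * k)) - 1 + (2 * (2 * (k * k)) - 1) = 4 * (2 * (k * k)) + -2 by ring,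
      zpow_add, e, ← zpow_add]
    simp
  have hu : ((s * t) ^ (2 * (2 * (k * k))) * t) * ((s * t) ^ (2 * (2 * (k * k))) * t) = 1 := by
    rw [← conj_zpow_invol hs ht]
    generalize (s * t) ^ (2 * (k * k)) = o
    calc o * t * o⁻¹ * (o * t * o⁻¹) = o * (t * t) * o⁻¹ := by group
      _ = 1 := by rw [ht, mul_one, mul_inv_cancel]
  generalize (s * t) ^ (2 * (2 * (k * k))) * t = u at hw hu
  have := inv_eq_of_mul_eq_one_right hw
  rw [mul_inv_rev, inv_eq_of_mul_eq_one_right hu, inv_eq_of_mul_eq_one_right hs] at this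
  exact this.symm

theorem odd_orderOf_of_mem {N : Subgroup G} (hN : Odd (Nat.card N)) {x : G} (hx : x ∈ N) :
    Odd (orderOf x) :=
  hN.of_dvd_nat (Subgroup.orderOf_dvd_natCard N hx)

theorem odd_orderOf_of_pow {x : G} {n : ℕ} (hn : Odd n) (h : Odd (orderOf (x ^ n))) :
    Odd (orderOf x) := by
  refine (hn.mul h).of_dvd_nat (orderOf_dvd_of_pow_eq_one ?_)
  rw [pow_mul, pow_orderOf_eq_one]

theorem eq_one_of_odd_of_sq {x : G} (h : Odd (orderOf x)) (h2 : x * x = 1) : x = 1 := by
  have hd : orderOf x ∣ 2 := orderOf_dvd_of_pow_eq_one (by rw [sq, h2])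
  rcases (Nat.dvd_prime Nat.prime_two).1 hd with h1 | h1
  · exact orderOf_eq_one_iff.1 h1
  · rw [h1] at h; exact absurd h (by decide)

theorem eq_one_of_odd_of_pow {x : G} (h : Odd (orderOf x)) {k : ℕ} (h2 : x ^ 2 ^ k = 1) :
    x = 1 := by
  obtain ⟨j, -, hj⟩ := (Nat.dvd_prime_pow Nat.prime_two).1 (orderOf_dvd_of_pow_eq_one h2)
  rcases j with _ | j
  · exact orderOf_eq_one_iff.1 hj
  · rw [hj] at h
    exact absurd h (by simp [Nat.odd_iff, pow_succ, Nat.mul_mod_left])

/-- In a nonabelian simple group, a homomorphism inverting everything outside a subgroup of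
index at least five forces that subgroup to be everything. -/
theorem eq_top_of_inverting [Finite G] (hc : Subgroup.center G = ⊥) {U : Subgroup G}
    (hidx : U ≠ ⊤ → 5 ≤ U.index) (ψ : G →* G) (h : ∀ l, l ∉ U → ψ l = l⁻¹) : U = ⊤ := by
  classical
  by_contra hU
  haveI : Fintype G := Fintype.ofFinite G
  have h5 := hidx hU
  obtain ⟨l, hl⟩ : ∃ l, l ∉ U := by
    by_contra hcon
    simp only [not_exists, not_not] at hcon
    exact hU (eq_top_iff.2 fun x _ => hcon x)
  have hcard := U.card_mul_index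
  have key : ∀ m, m ∉ U → l * m ∉ U → m * l = l * m := by
    intro m hm hlm
    have e := h _ hlm
    rw [map_mul, h l hl, h m hm, mul_inv_rev] at e
    calc m * l = (l⁻¹ * m⁻¹)⁻¹ := by group
      _ = l * m := by rw [e]; group
  -- the elements to which `key` applies generate more than half of the group
  have hsub : Finset.univ.filter (fun m : G => m ∉ Subgroup.centralizer ({l} : Set G)) ⊆
      Finset.univ.filter (fun m : G => m ∈ U) ∪
        (Finset.univ.filter (fun m : G => m ∈ U)).image (fun u => l⁻¹ * u) := by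
    intro m hm
    simp only [Finset.mem_filter, Finset.mem_univ, true_and, Subgroup.mem_centralizer_singleton_iff]
      at hm
    simp only [Finset.mem_union, Finset.mem_filter, Finset.mem_univ, true_and, Finset.mem_image]
    by_contra hcon
    obtain ⟨h1, h2⟩ := not_or.1 hcon
    exact hm (key m h1 fun h3 => h2 ⟨l * m, h3, inv_mul_cancel_left l m⟩)
  have h1 := (Finset.card_le_card hsub).trans (Finset.card_union_le _ _)
  have h2 := (Finset.card_image_le (s := Finset.univ.filter (fun m : G => m ∈ U))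
    (f := fun u => l⁻¹ * u))
  have hUc : (Finset.univ.filter (fun m : G => m ∈ U)).card = Nat.card U := by
    rw [Nat.card_eq_fintype_card, Fintype.card_subtype]
  have hCc : (Finset.univ.filter (fun m : G => m ∈ Subgroup.centralizer ({l} : Set G))).card =
      Nat.card (Subgroup.centralizer ({l} : Set G)) := by
    rw [Nat.card_eq_fintype_card, Fintype.card_subtype]
  have hsum := Finset.card_filter_add_card_filter_not
    (s := (Finset.univ : Finset G)) (fun m : G => m ∈ Subgroup.centralizer ({l} : Set G))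
  rw [hCc, Finset.card_univ, ← Nat.card_eq_fintype_card] at hsum
  rw [hUc] at h1 h2
  have hle : 5 * Nat.card U ≤ Nat.card G := by
    rw [← hcard, mul_comm 5]; exact Nat.mul_le_mul_left _ h5
  have hpos := Nat.card_pos (α := U)
  have hgt : Nat.card G < 2 * Nat.card (Subgroup.centralizer ({l} : Set G)) := by omega
  have hci := (Subgroup.centralizer ({l} : Set G)).card_mul_index
  have hi1 : (Subgroup.centralizer ({l} : Set G)).index = 1 := by
    rcases Nat.lt_or_ge (Subgroup.centralizer ({l} : Set G)).index 2 with hh | hh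
    · have := Subgroup.index_ne_zero_of_finite (H := Subgroup.centralizer ({l} : Set G))
      omega
    · have := Nat.mul_le_mul_left (Nat.card (Subgroup.centralizer ({l} : Set G))) hh
      omega
  have htop := Subgroup.index_eq_one.1 hi1
  have hlc : l ∈ Subgroup.center G := Subgroup.mem_center_iff.2 fun g =>
    Subgroup.mem_centralizer_singleton_iff.1 (htop ▸ Subgroup.mem_top g)
  rw [hc, Subgroup.mem_bot] at hlc
  exact hl (hlc ▸ U.one_mem)

end CfsgLib.SLPair
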