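import Cfsg.Agent.Lib.Components.SLPair.Setting

/-!
# Two intrinsic components whose involutions commute: auxiliary facts
-/

set_option autoImplicit false
set_option linter.style.haveILetI false
set_option linter.unusedSectionVars false

namespace CfsgLib.SLPair

open Cfsg Subgroup CfsgLib.Components

universe u

theorem two_power_mul {X : Type*} [Group X] {a b : X} (hab : Commute a b)
    (ha : ∃ k : ℕ, a ^ 2 ^ k = 1) (hb : ∃ k : ℕ, b ^ 2 ^ k = 1) :
    ∃ k : ℕ, (a * b) ^ 2 ^ k = 1 := by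
  obtain ⟨i, hi⟩ := ha
  obtain ⟨j, hj⟩ := hb
  refine ⟨i + j, ?_⟩
  rw [hab.mul_pow, pow_add, pow_mul, hi, one_pow, one_mul, mul_comm (2 ^ i), pow_mul, hj, one_pow]

theorem eq_of_commuting_involutions {X : Type*} [Group X] {a b : X} (hab : Commute a b)
    (ha : a * a = 1) (hb : b * b = 1) (h : Odd (orderOf (a * b))) : a = b := by
  have h1 : a * b * (a * b) = 1 := by
    rw [hab.symm.mul_mul_mul_comm, ha, hb, one_mul]
  have h2 := eq_one_of_odd_of_sq h h1
  rw [← inv_eq_of_mul_eq_one_right h2, inv_eq_of_mul_eq_one_right ha]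

/-- A group is not the union of a proper subgroup and a proper subgroup. -/
theorem le_or_le_of_forall {X : Type*} [Group X] {U V W : Subgroup X}
    (h : ∀ x ∈ W, x ∈ U ∨ x ∈ V) : W ≤ U ∨ W ≤ V := by
  by_contra hcon
  obtain ⟨h1, h2⟩ := not_or.1 hcon
  obtain ⟨a, ha, haU⟩ := SetLike.not_le_iff_exists.1 h1
  obtain ⟨b, hb, hbV⟩ := SetLike.not_le_iff_exists.1 h2
  have haV := (h a ha).resolve_left haU
  have hbU := (h b hb).resolve_right hbV
  rcases h _ (mul_mem ha hb) with h3 | h3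
  · exact haU (by simpa using mul_mem h3 (inv_mem hbU))
  · exact hbV (by simpa using mul_mem (inv_mem haV) h3)

variable {G : Type u} [Group G] [Finite G]

/-- A Sylow 2-subgroup of `E` invariant under a 2-group normalising `E`. -/
theorem exists_invariant_syl {X : Type u} [Group X] [Finite X] {E Q : Subgroup X}
    (hQ : IsPGroup 2 Q) (hQE : Q ≤ normalizer (E : Set X)) :
    ∃ P, IsUQ.IsSyl E P ∧ Q ≤ normalizer (P : Set X) := by
  haveI : Fact (Nat.Prime 2) := ⟨Nat.prime_two⟩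
  set N := normalizer (E : Set X)
  obtain ⟨S, hS⟩ := (hQ.of_equiv (subgroupOfEquivOfLe hQE).symm).exists_le_sylow
  set S' := (S : Subgroup ↥N).map N.subtype with hS'
  have hQS : Q ≤ S' := by
    rw [hS', ← map_subgroupOf_eq_of_le hQE]; exact map_mono hS
  refine ⟨E ⊓ S', ⟨inf_le_left, (S.isPGroup'.map _).to_le inf_le_right, ?_⟩, ?_⟩
  · have hEN : E ≤ N := le_normalizer
    haveI : (E.subgroupOf N).Normal := normal_subgroupOf_of_le_normalizer le_rfl
    have hc := CfsgLib.Base.card_sup_mul_card_inf (S : Subgroup ↥N) (E.subgroupOf N)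
    have hinf : Nat.card ↥((S : Subgroup ↥N) ⊓ E.subgroupOf N) = Nat.card ↥(E ⊓ S') := by
      rw [← CfsgLib.Base.card_map_subtype, map_inf _ _ _ N.subtype_injective,
        map_subgroupOf_eq_of_le hEN, inf_comm]
    have hrel := Subgroup.card_mul_index ((E ⊓ S').subgroupOf E)
    rw [CfsgLib.Base.card_subgroupOf inf_le_left] at hrel
    rw [hinf, CfsgLib.Base.card_subgroupOf hEN, ← hrel,
      mul_comm (Nat.card ↥(E ⊓ S')) ((E ⊓ S').subgroupOf E).index, ← mul_assoc] at hc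
    have hc' := Nat.eq_of_mul_eq_mul_right Nat.card_pos hc
    have h1 := card_dvd_of_le (le_top : ((S : Subgroup ↥N) ⊔ E.subgroupOf N) ≤ ⊤)
    rw [card_top, ← (S : Subgroup ↥N).card_mul_index, hc'] at h1
    have h2 := Nat.dvd_of_mul_dvd_mul_left Nat.card_pos h1
    have h3 : Odd (S : Subgroup ↥N).index :=
      Nat.not_even_iff_odd.1 fun he => S.not_dvd_index he.two_dvd
    exact h3.of_dvd_nat h2
  · intro g hg
    have h1 : g ∈ S' := hQS hg
    exact inf_normalizer_le_normalizer_inf ⟨hQE hg, le_normalizer h1⟩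

namespace IsUQ

variable {X : Type u} [Group X] [Finite X] {E : Subgroup X} {z : X} (h : IsUQ E z)
include h

/-- A quaternion pair. -/
theorem exists_ij {P : Subgroup X} (hP : IsSyl E P) :
    ∃ i ∈ P, ∃ j ∈ P, i * i = z ∧ j * j = z ∧ j * i * j⁻¹ = i⁻¹ := by
  obtain ⟨n, hn, ⟨φ⟩, -⟩ := h.exists_quaternion hP
  haveI : NeZero (2 ^ n) := ⟨by positivity⟩
  obtain ⟨m, rfl⟩ : ∃ m, n = m + 1 := ⟨n - 1, by omega⟩
  have hsq : ∀ g : QuaternionGroup (2 ^ (m + 1)), g * g ≠ 1 → g ^ 4 = 1 →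
      ((φ.symm g : ↥P) : X) * (φ.symm g : ↥P) = z := fun g h1 h2 => by
    refine h.mul_self_of_four (hP.le (Subtype.coe_prop _)) ?_ ?_
    · rw [← SubmonoidClass.coe_pow, ← map_pow, h2, map_one, OneMemClass.coe_one]
    · intro h3
      apply h1
      have : φ.symm (g * g) = 1 := Subtype.ext (by rw [map_mul, Subgroup.coe_mul, h3]; rfl)
      exact φ.symm.injective (this.trans (map_one _).symm)
  have hne : (((2 ^ m + 2 ^ m : ℕ) : ZMod (2 * 2 ^ (m + 1)))) ≠ 0 := by
    rw [Ne, ZMod.natCast_eq_zero_iff]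
    intro hd
    have := Nat.le_of_dvd (by positivity) hd
    have := Nat.one_le_two_pow (n := m)
    rw [pow_succ] at *
    omega
  refine ⟨_, Subtype.coe_prop (φ.symm (.a ((2 ^ m : ℕ) : ZMod (2 * 2 ^ (m + 1))))), _,
    Subtype.coe_prop (φ.symm (.xa 0)), hsq _ ?_ ?_, hsq _ ?_ (QuaternionGroup.xa_pow_four 0), ?_⟩
  · rw [QuaternionGroup.a_mul_a, QuaternionGroup.one_def, ← Nat.cast_add]
    exact fun h1 => hne (QuaternionGroup.a.inj h1)
  · rw [← QuaternionGroup.a_one_pow, ← pow_mul, QuaternionGroup.a_one_pow, QuaternionGroup.one_def]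
    congr 1
    rw [show 2 ^ m * 4 = 2 * 2 ^ (m + 1) by ring, ZMod.natCast_self]
  · intro h1
    have h4 := QuaternionGroup.orderOf_xa (n := 2 ^ (m + 1)) 0
    have := orderOf_dvd_of_pow_eq_one (n := 2)
      (x := (QuaternionGroup.xa 0 : QuaternionGroup (2 ^ (m + 1)))) (by rw [sq, h1])
    rw [h4] at this
    omega
  · have h1 : (QuaternionGroup.xa 0 : QuaternionGroup (2 ^ (m + 1))) *
        .a ((2 ^ m : ℕ) : ZMod (2 * 2 ^ (m + 1))) * (.xa 0)⁻¹ =
          (.a ((2 ^ m : ℕ) : ZMod (2 * 2 ^ (m + 1))))⁻¹ := by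
      rw [mul_inv_eq_iff_eq_mul, QuaternionGroup.xa_mul_a,
        show ((QuaternionGroup.a ((2 ^ m : ℕ) : ZMod (2 * 2 ^ (m + 1)))))⁻¹ =
          QuaternionGroup.a (-((2 ^ m : ℕ) : ZMod (2 * 2 ^ (m + 1)))) from rfl,
        QuaternionGroup.a_mul_xa]
      simp
    have h2 := congrArg (fun g => ((φ.symm g : ↥P) : X)) h1
    simp only [map_mul, map_inv, Subgroup.coe_mul, Subgroup.coe_inv] at h2
    exact h2

theorem exists_sq_eq : ∃ b ∈ E, b * b = z := by
  haveI : Fact (Nat.Prime 2) := ⟨Nat.prime_two⟩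
  obtain ⟨S⟩ : Nonempty (Sylow 2 ↥E) := inferInstance
  obtain ⟨i, hi, j, -, hiz, -⟩ := h.exists_ij (isSyl_of_sylow S)
  exact ⟨i, map_subtype_le _ hi, hiz⟩

end IsUQ

theorem Intrinsic.commute_img {z : G} {J J' : Subgroup G} (c : Intrinsic z J) (c' : Intrinsic z J')
    (hne : img z J ≠ img z J') {a b : Hb z} (ha : a ∈ img z J) (hb : b ∈ img z J') :
    a * b = b * a :=
  commutatorElement_eq_one_iff_mul_comm.1 (mem_bot.1
    ((components_commute c.isComponent c'.isComponent hne) ▸ commutator_mem_commutator ha hb))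

theorem Intrinsic.ext_img {z : G} {J J' : Subgroup G} (c : Intrinsic z J) (c' : Intrinsic z J')
    (h : img z J = img z J') : J = J' := by
  have := pComponent_eq_of_map_eq c.comp c'.comp h
  rw [← map_subgroupOf_eq_of_le c.le, this, map_subgroupOf_eq_of_le c'.le]

/-- Correct an element so that it conjugates the involution `t` to the involution `s`. -/
theorem exists_conj_involution {z s t g : G} (hs : s ∈ centralizer ({z} : Set G))
    (ht : t ∈ centralizer ({z} : Set G)) (hs2 : s * s = 1) (ht2 : t * t = 1)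
    (hg : g ∈ centralizer ({z} : Set G)) (h : q z g * q z t * (q z g)⁻¹ = q z s) :
    ∃ g' ∈ centralizer ({z} : Set G), q z g' = q z g ∧ g' * t * g'⁻¹ = s := by
  have hgt : g * t * g⁻¹ ∈ centralizer ({z} : Set G) := mul_mem (mul_mem hg ht) (inv_mem hg)
  have ht' : g * t * g⁻¹ * (g * t * g⁻¹) = 1 := by
    calc g * t * g⁻¹ * (g * t * g⁻¹) = g * (t * t) * g⁻¹ := by group
      _ = 1 := by rw [ht2, mul_one, mul_inv_cancel]
  have hm := mul_mem hs hgt
  have hq : q z (s * (g * t * g⁻¹)) = 1 := by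
    rw [q_mul hs hgt, q_conj hg ht, h, ← q_mul hs hs, hs2, q_one]
  obtain ⟨o, ⟨i, rfl⟩, ho⟩ := exists_conj_of_odd hs2 ht' (odd_of_q_eq_one hm hq)
  refine ⟨(s * (g * t * g⁻¹)) ^ i * g, mul_mem (zpow_mem hm i) hg, ?_, ?_⟩
  · rw [q_mul (zpow_mem hm i) hg, q_zpow hm, hq, one_zpow, one_mul]
  · simp only at ho
    generalize (s * (g * t * g⁻¹)) ^ i = o at ho ⊢
    calc o * g * t * (o * g)⁻¹ = o * (g * t * g⁻¹) * o⁻¹ := by group
      _ = s := ho

/-- Two intrinsic components with commuting involutions. -/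
structure Pair (zA : G) (A : Subgroup G) (zB : G) (B : Subgroup G) : Prop where
  cA : Intrinsic zA A
  cB : Intrinsic zB B
  comm : zB ∈ centralizer ({zA} : Set G)
  ne : zA ≠ zB

namespace Pair

variable {zA zB : G} {A B : Subgroup G} (p : Pair zA A zB B)
include p

theorem comm_symm : zA ∈ centralizer ({zB} : Set G) :=
  mem_centralizer_singleton_iff.2 (mem_centralizer_singleton_iff.1 p.comm).symm

theorem symm : Pair zB B zA A := ⟨p.cB, p.cA, p.comm_symm, p.ne.symm⟩

theorem sigma_mul_self : q zA zB * q zA zB = 1 := by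
  rw [← q_mul p.comm p.comm, p.cB.mul_self, q_one]

theorem sigma_inv : (q zA zB)⁻¹ = q zA zB := inv_eq_of_mul_eq_one_right p.sigma_mul_self

theorem sigma_ne_one : q zA zB ≠ 1 := fun h => by
  have := odd_of_q_eq_one p.comm h
  rw [p.cB.ord] at this
  exact absurd this (by decide)

theorem sigma_ne_central : q zA zB ≠ q zA zA := fun h => by
  apply p.ne
  refine eq_of_commuting_involutions (mem_centralizer_singleton_iff.1 p.comm_symm) p.cA.mul_self
    p.cB.mul_self (odd_of_q_eq_one (mul_mem p.cA.mem_C p.comm) ?_)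
  rw [q_mul p.cA.mem_C p.comm, h, p.cA.q_mul_self]

theorem sigma_commute {x : G} (hxA : x ∈ centralizer ({zA} : Set G))
    (hxB : x ∈ centralizer ({zB} : Set G)) : q zA x * q zA zB = q zA zB * q zA x :=
  q_commute hxA p.comm (mem_centralizer_singleton_iff.1 hxB)

/-- An element of `B` with involutory image has the image of `zB`. -/
theorem eq_sigma {x : G} (hxB : x ∈ B) (hxA : x ∈ centralizer ({zA} : Set G))
    (h : q zA x * q zA x = 1) : q zA x = 1 ∨ q zA x = q zA zB := by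
  obtain ⟨n, hn⟩ := odd_of_q_eq_one (pow_mem hxA 2) (by rw [q_pow hxA, sq, h])
  set m := orderOf (x ^ 2) with hm
  have hq : q zA (x ^ m) = q zA x := by
    rw [q_pow hxA, hn, pow_succ, pow_mul, sq, h, one_pow, one_mul]
  rcases p.cB.eq_of_sq (pow_mem hxB m) (by
    rw [← pow_add, ← two_mul, pow_mul, hm, pow_orderOf_eq_one]) with h1 | h1
  · exact Or.inl (by rw [← hq, h1, q_one])
  · exact Or.inr (by rw [← hq, h1])

/-- Images of commutators in the core of `C(zB)`. -/
theorem q_mem_core {g : G} (hgA : g ∈ centralizer ({zA} : Set G))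
    (hgB : g ∈ centralizer ({zB} : Set G)) (h : q zB g = 1) : q zA g ∈ coreImg zB zA :=
  q_mem_coreImg hgA hgB h

/-- If `x` moves `B`, then `B` and its conjugate commute modulo the core. -/
theorem comm_of_moves {x b b' : G} (hxA : x ∈ centralizer ({zA} : Set G))
    (hxB : x ∈ centralizer ({zB} : Set G)) (hx : x ∉ normalizer (B : Set G)) (hb : b ∈ B)
    (hbA : b ∈ centralizer ({zA} : Set G)) (hb' : b' ∈ B)
    (hbA' : b' ∈ centralizer ({zA} : Set G)) :
    q zA (b' * (x * b * x⁻¹) * b'⁻¹ * (x * b * x⁻¹)⁻¹) ∈ coreImg zB zA := by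
  have hB := p.cB.le
  have h1 : x * b * x⁻¹ ∈ centralizer ({zA} : Set G) := mul_mem (mul_mem hxA hbA) (inv_mem hxA)
  have h2 : x * b * x⁻¹ ∈ centralizer ({zB} : Set G) := mul_mem (mul_mem hxB (hB hb)) (inv_mem hxB)
  have h3 : q zB (x * b * x⁻¹) ∈ cj (q zB x) (img zB B) := by
    rw [q_conj hxB (hB hb)]; exact conj_mem_cj _ (p.cB.q_mem hb)
  refine p.q_mem_core (mul_mem (mul_mem (mul_mem hbA' h1) (inv_mem hbA')) (inv_mem h1))
    (mul_mem (mul_mem (mul_mem (hB hb') h2) (inv_mem (hB hb'))) (inv_mem h2)) ?_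
  rw [q_mul (mul_mem (mul_mem (hB hb') h2) (inv_mem (hB hb'))) (inv_mem h2), q_conj (hB hb') h2,
    q_inv h2, p.cB.commute_of_ne (fun h => hx (p.cB.normalizes hxB h)) (p.cB.q_mem hb') h3,
    mul_inv_cancel_right, mul_inv_cancel]

/-- Lift of an element commuting with the image of `zB`. -/
theorem exists_lift {e : Hb zA} (he : e * q zA zB = q zA zB * e) :
    ∃ x ∈ centralizer ({zA} : Set G), x ∈ centralizer ({zB} : Set G) ∧ q zA x = e := by
  obtain ⟨g, hg, rfl⟩ := q_surj e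
  obtain ⟨o, -, hoC, -, hx, hxq⟩ := exists_lift_commute p.comm p.cB.mul_self hg he
  exact ⟨o⁻¹ * g, mul_mem (inv_mem hoC) hg, hx, hxq⟩

/-- Lift into `A` of a `2`-element of its image commuting with the image of `zB`. -/
theorem exists_lift_mem (hN : zB ∈ normalizer (A : Set G)) {e : Hb zA} (heE : e ∈ img zA A)
    (he : e * q zA zB = q zA zB * e) {k : ℕ} (hk : e ^ 2 ^ k = 1) :
    ∃ x ∈ A, x ∈ centralizer ({zB} : Set G) ∧ (∃ a : ℕ, x ^ 2 ^ a = 1) ∧ q zA x = e := by
  obtain ⟨g, hg, rfl⟩ := p.cA.exists_of_mem heE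
  obtain ⟨o, ⟨i, rfl⟩, hoC, -, hx, hxq⟩ := exists_lift_commute p.comm p.cB.mul_self (p.cA.le hg) he
  have hmem : g * zB * g⁻¹ * zB ∈ A := by
    have h1 := (mem_normalizer_iff.1 hN g⁻¹).1 (inv_mem hg)
    rw [inv_eq_of_mul_eq_one_right p.cB.mul_self] at h1
    simpa [mul_assoc] using mul_mem hg h1
  have hxA : ((g * zB * g⁻¹ * zB) ^ i)⁻¹ * g ∈ A := mul_mem (inv_mem (zpow_mem hmem i)) hg
  obtain ⟨n, hn, hnq⟩ := exists_two_power (p.cA.le hxA) (k := k) (by rw [hxq]; exact hk)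
  exact ⟨_, pow_mem hxA n, pow_mem hx n, hn, hnq.trans hxq⟩

end Pair

end CfsgLib.SLPair
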