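import Cfsg.Agent.Lib.Components.SLPair.Steps

/-!
# A 2-element of order at least four of `B` centralising `zA` normalises `A`
-/

set_option autoImplicit false
set_option linter.style.haveILetI false
set_option linter.unusedSectionVars false

namespace CfsgLib.SLPair

open Cfsg Subgroup CfsgLib.Components

universe u

theorem Intrinsic.normalizes_comp {G : Type u} [Group G] [Finite G] {z : G} {J J' : Subgroup G}
    (c : Intrinsic z J) (c' : Intrinsic z J') (h : Hb z) {a : Hb z} (ha : a ∈ img z J') :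
    a ∈ normalizer ((cj h (img z J) : Subgroup (Hb z)) : Set (Hb z)) := by
  by_cases heq : cj h (img z J) = img z J'
  · rw [heq]; exact le_normalizer ha
  have hc : ∀ e ∈ cj h (img z J), Commute a e := fun e he =>
    (commutatorElement_eq_one_iff_mul_comm.1 (mem_bot.1
      ((components_commute (isComponent_conj c.isComponent h) c'.isComponent heq) ▸
        commutator_mem_commutator he ha))).symm
  refine mem_normalizer_iff.2 fun e => ⟨fun he => ?_, fun he => ?_⟩
  · rwa [(hc e he).eq, mul_inv_cancel_right]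
  · have := (hc _ he).eq
    have e' : a * e * a⁻¹ = e := by
      refine mul_left_cancel (a := a) ?_
      rw [this]; group
    rwa [e'] at he

variable {G : Type u} [Group G] [Finite G] {zA zB : G} {A B : Subgroup G}

namespace Pair

variable (p : Pair zA A zB B) {y : G}
include p

/-- A moved lift `c` and an involution `h` whose commutator is `zB` modulo the core: `h` moves
`A`, and `σ` is the diagonal element it defines. -/
theorem diag_of_comm {c h : G} (hc : c ∈ A) (hcB : c ∈ centralizer ({zB} : Set G))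
    (hcc : c * c = zA) (hhA : h ∈ centralizer ({zA} : Set G))
    (hhB : h ∈ centralizer ({zB} : Set G)) (hh : h * h = 1)
    (hq : q zB (c * h * c⁻¹) = q zB zB * q zB h) :
    cj (q zA h) (img zA A) ≠ img zA A ∧
      q zA zB = q zA c * (q zA h * (q zA c)⁻¹ * q zA h) := by
  set s := q zA zB with hs
  set C := q zA c with hC
  set η := q zA h with hη
  have hcA := p.cA.le hc
  have hch : c * h * c⁻¹ ∈ centralizer ({zA} : Set G) := mul_mem (mul_mem hcA hhA) (inv_mem hcA)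
  have hchB : c * h * c⁻¹ ∈ centralizer ({zB} : Set G) := mul_mem (mul_mem hcB hhB) (inv_mem hcB)
  have hn : q zA (c * h * c⁻¹ * h * zB) ∈ coreImg zB zA := by
    refine p.q_mem_core (mul_mem (mul_mem hch hhA) p.comm) (mul_mem (mul_mem hchB hhB) p.cB.mem_C) ?_
    rw [q_mul (mul_mem hchB hhB) p.cB.mem_C, q_mul hchB hhB, hq, mul_assoc (q zB zB), ← q_mul hhB hhB,
      hh, q_one, mul_one, p.cB.q_mul_self]
  have hodd := odd_orderOf_of_mem (coreImg_odd zB zA) hn
  rw [q_mul (mul_mem hch hhA) p.comm, q_mul hch hhA, q_conj hcA hhA, ← hC, ← hη, ← hs] at hodd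
  have hηη : η * η = 1 := by rw [hη, ← q_mul hhA hhA, hh, q_one]
  have hr : C * η * C⁻¹ * η = C * (η * C⁻¹ * η) := by group
  rw [hr] at hodd
  set r := C * (η * C⁻¹ * η) with hrdef
  have hrs : Commute r s := by
    have h1 : Commute C s := p.sigma_commute hcA hcB
    have h2 : Commute η s := p.sigma_commute hhA hhB
    exact h1.mul_left ((h2.mul_left h1.inv_left).mul_left h2)
  have hU := p.cA.isUQ
  have hCE : C ∈ img zA A := p.cA.q_mem hc
  have hmove : cj η (img zA A) ≠ img zA A := by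
    intro e
    have hrE : r ∈ img zA A := by
      refine mul_mem hCE ?_
      have := conj_mem_cj η (inv_mem hCE)
      rw [e, inv_eq_of_mul_eq_one_right hηη] at this
      exact this
    obtain ⟨N, hN⟩ := hodd
    have h1 := pow_orderOf_eq_one (r * s)
    rw [hN, hrs.mul_pow] at h1
    have hsN : s ^ (2 * N + 1) = s := by
      rw [pow_succ, pow_mul, sq, p.sigma_mul_self, one_pow, one_mul]
    rw [hsN] at h1
    have hsE : s ∈ img zA A := by
      rw [← inv_eq_of_mul_eq_one_right h1]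
      exact inv_mem (pow_mem hrE _)
    rcases hU.eq_of_sq hsE p.sigma_mul_self with h | h
    · exact p.sigma_ne_one h
    · exact p.sigma_ne_central h
  refine ⟨hmove, ?_⟩
  have hC4 : C ^ 4 = 1 := by
    rw [show 4 = 2 * 2 from rfl, pow_mul, sq, sq, hC, ← q_mul hcA hcA, hcc, p.cA.q_mul_self]
  have hc' : Commute C (η * C⁻¹ * η) := by
    have := conj_mem_cj η (inv_mem hCE)
    rw [inv_eq_of_mul_eq_one_right hηη] at this
    exact p.cA.commute_of_ne hmove hCE this
  have hr4 : r ^ 4 = 1 := by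
    rw [hrdef, hc'.mul_pow, hC4, one_mul]
    have : η * C⁻¹ * η = η * C⁻¹ * η⁻¹ := by rw [inv_eq_of_mul_eq_one_right hηη]
    rw [this, conj_pow, inv_pow, hC4, inv_one, mul_one, mul_inv_cancel]
  have h1 : r * s = 1 := by
    refine eq_one_of_odd_of_pow hodd (k := 2) ?_
    rw [show (2 : ℕ) ^ 2 = 4 from rfl, hrs.mul_pow, hr4, one_mul, show 4 = 2 * 2 from rfl, pow_mul,
      sq s, p.sigma_mul_self, one_pow]
  have h3 := eq_inv_of_mul_eq_one_left h1
  exact (h3.trans p.sigma_inv).symm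

/-- The main theorem of part (i), for movers. -/
theorem no_mover (hv : Mover zA A B y) : False := by
  obtain ⟨⟨b, hbE, hbb, hbneg⟩, hyy, x, hxA, hxB, hxn, hS⟩ := p.mover_main hv
  set s := q zA zB with hsdef
  set z := q zA zA with hzdef
  set S := q zB zA with hSdef
  set zb := q zB zB with hzbdef
  set Y := q zA y with hYdef
  set Yb := q zB y with hYbdef
  set F := img zB B with hFdef
  have hU := p.cA.isUQ
  have hUB := p.cB.isUQ
  have hyB := p.cB.le hv.mem
  have hYb : Yb ∈ F := p.cB.q_mem hv.mem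
  have hYY : Yb * Yb = zb := by rw [hYbdef, ← q_mul hyB hyB, hyy]
  have hact : ∀ e ∈ F, S * e * S⁻¹ = Yb * e * Yb⁻¹ := fun e he =>
    p.act_eq hv.mem hyy hxB hxn hS he
  have hS2 : S * S = 1 := p.symm.sigma_mul_self
  have hSi : S⁻¹ = S := p.symm.sigma_inv
  have hScomm : ∀ {g : G}, g ∈ centralizer ({zA} : Set G) → g ∈ centralizer ({zB} : Set G) →
      Commute (q zB g) S := fun hgA hgB =>
    q_commute hgB p.comm_symm (mem_centralizer_singleton_iff.1 hgA)
  obtain ⟨x₀, hx₀, hk⟩ := hUB.exists_anticommute hYb hYY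
  set k := x₀ * Yb * x₀⁻¹ with hkdef
  have hkF : k ∈ F := mul_mem (mul_mem hx₀ hYb) (inv_mem hx₀)
  have hYbk : Yb * k = zb * (k * Yb) := by
    rw [hk, ← mul_assoc zb zb, p.cB.q_mul_self, one_mul]
  have hSk : S * k * S⁻¹ = k * zb := by
    rw [hact k hkF, hYbk, ← mul_assoc, mul_inv_cancel_right, p.cB.q_central k]
  have hzAB : zA ∈ normalizer (B : Set G) := by
    refine p.cB.normalizes p.comm_symm ?_
    rw [cj_eq_self]
    refine mem_normalizer_iff.2 fun e => ⟨fun he => ?_, fun he => ?_⟩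
    · rw [hact e he]; exact mul_mem (mul_mem hYb he) (inv_mem hYb)
    · have e' : e = S * (S * e * S⁻¹) * S⁻¹ := by
        rw [hSi]
        calc e = (S * S) * e * (S * S) := by rw [hS2, one_mul, mul_one]
          _ = _ := by group
      rw [e', hact _ he]
      exact mul_mem (mul_mem hYb he) (inv_mem hYb)
  have hzBA := p.mover_zB hv
  -- the element `g₀`
  have hzAB' : zA * zB = zB * zA := mem_centralizer_singleton_iff.1 p.comm_symm
  set v := zA * zB with hvdef
  have hvA : v ∈ centralizer ({zA} : Set G) := mul_mem p.cA.mem_C p.comm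
  have hvB : v ∈ centralizer ({zB} : Set G) := mul_mem p.comm_symm p.cB.mem_C
  have hv2 : v * v = 1 := by
    rw [hvdef, (show Commute zA zB from hzAB').symm.mul_mul_mul_comm, p.cA.mul_self, p.cB.mul_self,
      one_mul]
  obtain ⟨a, haA, haq⟩ := p.cA.exists_of_mem hbE
  obtain ⟨gb, hgbA, hgbq, hgb⟩ := exists_conj_involution hvA p.comm hv2 p.cB.mul_self
    (p.cA.le haA) (by
      rw [haq, q_mul p.cA.mem_C p.comm, ← hsdef, ← hzdef]
      have e : b * s = z * (s * b) := by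
        calc b * s = z * (b * z) * s := by
              rw [← mul_assoc z b z, ← p.cA.q_central b, mul_assoc b z z, p.cA.q_mul_self, mul_one]
          _ = z * (s * b) := by rw [← hbneg]; group
      rw [e]
      calc z * (s * b) * b⁻¹ = z * s := by group)
  obtain ⟨a', ha'B, ha'q⟩ := p.cB.exists_of_mem hkF
  obtain ⟨gk, hgkB, hgkq, hgk⟩ := exists_conj_involution hvB p.comm_symm hv2 p.cA.mul_self
    (p.cB.le ha'B) (by
      rw [ha'q, q_mul p.comm_symm p.cB.mem_C, ← hSdef, ← hzbdef]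
      calc k * S * k⁻¹ = S * (S * k * S⁻¹) * k⁻¹ := by
            rw [hSi]
            calc k * S * k⁻¹ = (S * S) * k * S * k⁻¹ := by rw [hS2, one_mul]
              _ = _ := by group
        _ = S * (k * (zb * k⁻¹)) := by rw [hSk]; group
        _ = S * zb := by rw [← p.cB.q_central k⁻¹, mul_inv_cancel_left])
  have hgbN : gb ∈ normalizer (A : Set G) := by
    refine p.cA.normalizes hgbA ?_
    rw [hgbq, haq, cj_eq_self]
    exact le_normalizer hbE
  have hgbzA : gb * zA * gb⁻¹ = zA := by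
    rw [mem_centralizer_singleton_iff.1 hgbA, mul_inv_cancel_right]
  have hgkzB : gk * zB * gk⁻¹ = zB := by
    rw [mem_centralizer_singleton_iff.1 hgkB, mul_inv_cancel_right]
  set g₀ := gb⁻¹ * gk with hg₀def
  have hg₀zA : g₀ * zA * g₀⁻¹ = zB := by
    calc g₀ * zA * g₀⁻¹ = gb⁻¹ * (gk * zA * gk⁻¹) * gb := by rw [hg₀def]; group
      _ = gb⁻¹ * (gb * zB * gb⁻¹) * gb := by rw [hgk, hgb]
      _ = zB := by group
  have hg₀zB : g₀ * zB * g₀⁻¹ = v := by
    have e : gb * v * gb⁻¹ = zB := by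
      calc gb * (zA * zB) * gb⁻¹ = (gb * zA * gb⁻¹) * (gb * zB * gb⁻¹) := by group
        _ = zB := by rw [hgbzA, hgb, hvdef, ← mul_assoc, p.cA.mul_self, one_mul]
    calc g₀ * zB * g₀⁻¹ = gb⁻¹ * (gk * zB * gk⁻¹) * gb := by rw [hg₀def]; group
      _ = gb⁻¹ * (gb * v * gb⁻¹) * gb := by rw [hgkzB, e]
      _ = v := by group
  set M := cj g₀ A with hMdef
  have cM : Intrinsic zB M := hg₀zA ▸ p.cA.conj g₀
  have hxz : x * zB * x⁻¹ = zB := by
    rw [mem_centralizer_singleton_iff.1 hxB, mul_inv_cancel_right]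
  set B' := cj x B with hB'def
  have cB' : Intrinsic zB B' := hxz ▸ p.cB.conj x
  have hX' : q zB (x * y * x⁻¹) ∈ img zB B' := cB'.q_mem (conj_mem_cj x hv.mem)
  -- `S` centralises every component other than those of `B` and `B'`
  have hScent : ∀ {J : Subgroup G}, Intrinsic zB J → J ≠ B → J ≠ B' → ∀ e ∈ img zB J,
      Commute S e := by
    intro J cJ hJ hJ' e he
    rw [hS]
    exact Commute.mul_left (p.cB.isComponent |> fun _ =>
        cB'.commute_img cJ (fun h => hJ' (cJ.ext_img cB' h.symm)) hX' he)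
      (Commute.inv_left (p.cB.commute_img cJ (fun h => hJ (cJ.ext_img p.cB h.symm)) hYb he))
  have hM : M = B ∨ M = B' := by
    by_contra hcon
    obtain ⟨hMB, hMB'⟩ := not_or.1 hcon
    have hm : g₀ * a * g₀⁻¹ ∈ M := conj_mem_cj g₀ haA
    have hmB := cM.le hm
    have hc1 : Commute (q zB v) (q zB (g₀ * a * g₀⁻¹)) := by
      rw [q_mul p.comm_symm p.cB.mem_C]
      exact (hScent cM hMB hMB' _ (cM.q_mem hm)).mul_left (p.cB.q_central _).symm
    have hmem : g₀ * a * g₀⁻¹ * v * (g₀ * a * g₀⁻¹)⁻¹ * v ∈ centralizer ({zB} : Set G) :=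
      mul_mem (mul_mem (mul_mem hmB hvB) (inv_mem hmB)) hvB
    have hodd : Odd (orderOf (g₀ * a * g₀⁻¹ * v * (g₀ * a * g₀⁻¹)⁻¹ * v)) := by
      refine odd_of_q_eq_one hmem ?_
      rw [q_mul (mul_mem (mul_mem hmB hvB) (inv_mem hmB)) hvB, q_conj hmB hvB, ← hc1.eq,
        mul_inv_cancel_right, ← q_mul hvB hvB, hv2, q_one]
    have e : g₀ * a * g₀⁻¹ * v * (g₀ * a * g₀⁻¹)⁻¹ * v = MulAut.conj g₀ (a * zB * a⁻¹ * zB) := by
      rw [← hg₀zB, MulAut.conj_apply]; group
    rw [e, MulEquiv.orderOf_eq] at hodd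
    have haC := p.cA.le haA
    have h1 := odd_q (mul_mem (mul_mem (mul_mem haC p.comm) (inv_mem haC)) p.comm) hodd
    rw [q_mul (mul_mem (mul_mem haC p.comm) (inv_mem haC)) p.comm, q_conj haC p.comm, haq] at h1
    have h2 : b * s * b⁻¹ * s = z := by
      have hsi : s⁻¹ = s := p.sigma_inv
      have hzc : ∀ g : Hb zA, g * z = z * g := p.cA.q_central
      calc b * s * b⁻¹ * s = b * (s * b * s⁻¹)⁻¹ := by
            rw [show b * (s * b * s⁻¹)⁻¹ = b * s * b⁻¹ * s⁻¹ by group, hsi]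
        _ = z⁻¹ := by
            rw [hbneg, mul_inv_rev, (Commute.inv_inv (hzc b)).eq.symm, mul_inv_cancel_left]
        _ = z := inv_eq_of_mul_eq_one_right p.cA.q_mul_self
    rw [← hsdef, h2] at h1
    exact p.cA.q_ne_one (eq_one_of_odd_of_sq h1 p.cA.q_mul_self)
  -- the element `c`
  have hxyx : x * y * x⁻¹ * (x * y * x⁻¹) = zB := by
    calc x * y * x⁻¹ * (x * y * x⁻¹) = x * (y * y) * x⁻¹ := by group
      _ = zB := by rw [hyy, hxz]
  obtain ⟨y', hy'M, hy'A, hy'z⟩ : ∃ y' ∈ M, y' ∈ centralizer ({zA} : Set G) ∧ y' * y' = zB := by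
    rcases hM with h | h <;> rw [h]
    · exact ⟨y, hv.mem, hv.memA, hyy⟩
    · exact ⟨_, conj_mem_cj x hv.mem, mul_mem (mul_mem hxA hv.memA) (inv_mem hxA), hxyx⟩
  set c := g₀⁻¹ * y' * g₀ with hcdef
  have hcA : c ∈ A := mem_cj.1 hy'M
  have hcB : c ∈ centralizer ({zB} : Set G) := by
    rw [mem_centralizer_singleton_iff]
    have h1 : Commute y' v := (show Commute y' zA from mem_centralizer_singleton_iff.1 hy'A).mul_right
      (show Commute y' zB from hy'z ▸ (Commute.refl y').mul_right (Commute.refl y'))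
    rw [← hg₀zB] at h1
    calc c * zB = g₀⁻¹ * (y' * (g₀ * zB * g₀⁻¹)) * g₀ := by rw [hcdef]; group
      _ = zB * c := by rw [h1.eq, hcdef]; group
  have hcc : c * c = zA := by
    calc c * c = g₀⁻¹ * (y' * y') * g₀ := by rw [hcdef]; group
      _ = g₀⁻¹ * (g₀ * zA * g₀⁻¹) * g₀ := by rw [hy'z, hg₀zA]
      _ = zA := by group
  have hcC := p.cA.le hcA
  set C := q zA c with hCdef
  have hCE : C ∈ img zA A := p.cA.q_mem hcA
  have hCC : C * C = z := by rw [hCdef, ← q_mul hcC hcC, hcc]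
  set δ := q zB c with hδdef
  have hδδ : δ * δ = S := by rw [hδdef, ← q_mul hcB hcB, hcc]
  have hYE : cj Y (img zA A) ≠ img zA A := fun e => hv.moves (p.cA.normalizes hv.memA e)
  have hδS : Commute δ S := hScomm hcC hcB
  by_cases hcn : c ∈ normalizer (B : Set G)
  · -- `c` normalises `B`
    have hδF : cj δ F = F := p.cB.cj_img_of_normalizes hcB hcn
    have hrB : c * y * c⁻¹ * y⁻¹ ∈ B := mul_mem ((mem_normalizer_iff.1 hcn y).1 hv.mem) (inv_mem hv.mem)
    have hcyc : c * y * c⁻¹ ∈ centralizer ({zA} : Set G) :=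
      mul_mem (mul_mem hcC hv.memA) (inv_mem hcC)
    have hrA : c * y * c⁻¹ * y⁻¹ ∈ centralizer ({zA} : Set G) := mul_mem hcyc (inv_mem hv.memA)
    have hcr : Commute C (Y * C * Y⁻¹)⁻¹ :=
      Commute.inv_right (p.cA.commute_of_ne hYE hCE (conj_mem_cj Y hCE))
    have hrq : q zA (c * y * c⁻¹ * y⁻¹) = C * (Y * C * Y⁻¹)⁻¹ := by
      rw [q_mul hcyc (inv_mem hv.memA), q_conj hcC hv.memA, q_inv hv.memA]
      group
      rfl
    have hrsq : q zA (c * y * c⁻¹ * y⁻¹) = s := by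
      refine (p.eq_sigma hrB hrA ?_).resolve_left fun e => ?_
      · rw [hrq, hcr.symm.mul_mul_mul_comm, hCC, ← mul_inv_rev,
          show Y * C * Y⁻¹ * (Y * C * Y⁻¹) = Y * (C * C) * Y⁻¹ by group, hCC,
          p.cA.q_central Y, mul_inv_cancel_right, mul_inv_cancel]
      · rw [hrq, mul_inv_eq_one] at e
        rcases p.cA.inter_of_ne hYE hCE (e ▸ conj_mem_cj Y hCE) with h1 | h1
        · rw [h1, one_mul] at hCC; exact p.cA.q_ne_one hCC.symm
        · rw [h1, p.cA.q_mul_self] at hCC; exact p.cA.q_ne_one hCC.symm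
    -- `δ` inverts `Yb`
    set Y₂ := δ * Yb * δ⁻¹ with hY₂
    have hY₂F : Y₂ ∈ F := hδF ▸ conj_mem_cj δ hYb
    have hY₂Yb : Commute Y₂ Yb := by
      have h1 : Commute S Y₂ := (hδS.symm.mul_right (hScomm hv.memA hyB).symm).mul_right hδS.symm.inv_right
      have := hact Y₂ hY₂F
      rw [h1.eq, mul_inv_cancel_right] at this
      exact (mul_inv_eq_iff_eq_mul.1 this.symm).symm
    have hδY : δ * Yb * δ⁻¹ = Yb⁻¹ := by
      have hρ : Y₂ * Yb⁻¹ = zb := by
        have hm1 : c * y * c⁻¹ * y⁻¹ * zB ∈ centralizer ({zA} : Set G) := mul_mem hrA p.comm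
        have hm2 : c * y * c⁻¹ * y⁻¹ * zB ∈ centralizer ({zB} : Set G) :=
          mul_mem (p.cB.le hrB) p.cB.mem_C
        have hodd := odd_q hm2 (odd_of_q_eq_one hm1 (by
          rw [q_mul hrA p.comm, hrsq, p.sigma_mul_self]))
        rw [q_mul (p.cB.le hrB) p.cB.mem_C,
          q_mul (mul_mem (mul_mem hcB hyB) (inv_mem hcB)) (inv_mem hyB), q_conj hcB hyB,
          q_inv hyB] at hodd
        refine eq_of_commuting_involutions (p.cB.q_central _) ?_ p.cB.q_mul_self hodd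
        rw [hY₂Yb.inv_right.symm.mul_mul_mul_comm, ← mul_inv_rev, hYY, hY₂,
          show δ * Yb * δ⁻¹ * (δ * Yb * δ⁻¹) = δ * (Yb * Yb) * δ⁻¹ by group, hYY,
          p.cB.q_central δ, mul_inv_cancel_right, mul_inv_cancel]
      rw [← hY₂, mul_inv_eq_iff_eq_mul.1 hρ]
      refine (inv_eq_of_mul_eq_one_right ?_).symm
      rw [← mul_assoc, p.cB.q_central Yb, mul_assoc, hYY, p.cB.q_mul_self]
    rcases hUB.odd_power_or_sqrt hYb hYY with ⟨N, hN, hpow⟩ | ⟨a₁, ha₁, haa, hay⟩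
    · set w := k⁻¹ * (δ * k * δ⁻¹) with hwdef
      have hwF : w ∈ F := mul_mem (inv_mem hkF) (hδF ▸ conj_mem_cj δ hkF)
      have hYbi : Yb⁻¹ = Yb * zb := inv_eq_of_mul_eq_one_right (by
        rw [← mul_assoc, hYY, p.cB.q_mul_self])
      have hkY : k * Yb * k⁻¹ = Yb⁻¹ := by
        rw [hk, hYbi, ← mul_assoc, mul_inv_cancel_right, p.cB.q_central Yb]
      have hkY' : k⁻¹ * Yb⁻¹ * k = Yb := by rw [← hkY]; group
      have hwY : w * Yb = Yb * w := by
        refine mul_inv_eq_iff_eq_mul.1 ?_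
        have h1 : δ * k * δ⁻¹ * Yb * (δ * k * δ⁻¹)⁻¹ = Yb⁻¹ := by
          have e : δ⁻¹ * Yb * δ = Yb⁻¹ := by
            calc δ⁻¹ * Yb * δ = δ⁻¹ * (δ * Yb * δ⁻¹)⁻¹ * δ := by rw [hδY, inv_inv]
              _ = Yb⁻¹ := by group
          calc δ * k * δ⁻¹ * Yb * (δ * k * δ⁻¹)⁻¹ = δ * (k * (δ⁻¹ * Yb * δ) * k⁻¹) * δ⁻¹ := by group
            _ = δ * (k * Yb * k⁻¹)⁻¹ * δ⁻¹ := by rw [e]; group
            _ = _ := by rw [hkY, inv_inv, hδY]
        calc w * Yb * w⁻¹ = k⁻¹ * (δ * k * δ⁻¹ * Yb * (δ * k * δ⁻¹)⁻¹) * k := by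
              rw [hwdef]; group
          _ = Yb := by rw [h1, hkY']
      have hδw : δ * w * δ⁻¹ = w⁻¹ * zb := by
        calc δ * w * δ⁻¹ = (δ * k * δ⁻¹)⁻¹ * ((δ * δ) * k * (δ * δ)⁻¹) := by rw [hwdef]; group
          _ = (δ * k * δ⁻¹)⁻¹ * (k * zb) := by rw [hδδ, hSk]
          _ = w⁻¹ * zb := by rw [hwdef]; group
      obtain ⟨i, hi⟩ := hpow w hwF hwY
      simp only at hi
      have h1 : (δ * w * δ⁻¹) ^ N = (w ^ N)⁻¹ := by
        rw [conj_pow, ← hi, ← conj_zpow, hδY, inv_zpow]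
      rw [hδw, (Commute.mul_pow (p.cB.q_central _) N), inv_pow] at h1
      have h2 : zb ^ N = zb := by
        obtain ⟨j, rfl⟩ := hN
        rw [pow_succ, pow_mul, sq, p.cB.q_mul_self, one_pow, one_mul]
      rw [h2, mul_eq_left] at h1
      exact p.cB.q_ne_one h1
    · -- lift the square root of `Yb`
      have ha4 : a₁ ^ 2 ^ 3 = 1 := by
        rw [show (2 : ℕ) ^ 3 = 2 * (2 * 2) from rfl, pow_mul, sq, haa, pow_mul, sq, sq, hYY,
          p.cB.q_mul_self]
      have haS : a₁ * S = S * a₁ := by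
        have := hact a₁ ha₁
        rw [← hay, mul_inv_cancel_right] at this
        exact (mul_inv_eq_iff_eq_mul.1 this).symm
      obtain ⟨l, hlB, hlA, hl2, hlq⟩ := p.symm.exists_lift_mem hzAB ha₁ haS ha4
      have hl4 : l ^ 4 ≠ 1 := fun e => p.cB.q_ne_one (by
        rw [← hzbdef, ← hYY, ← haa, ← hlq, show q zB l * q zB l * (q zB l * q zB l) = q zB l ^ 4 by
          simp [pow_succ, mul_assoc], ← q_pow (p.cB.le hlB), e, q_one])
      obtain ⟨l', hl'M, hl'A, hl'B, hl'2, hl'4⟩ : ∃ l' ∈ M, l' ∈ centralizer ({zA} : Set G) ∧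
          l' ∈ centralizer ({zB} : Set G) ∧ (∃ k : ℕ, l' ^ 2 ^ k = 1) ∧ l' ^ 4 ≠ 1 := by
        rcases hM with h | h <;> rw [h]
        · exact ⟨l, hlB, hlA, p.cB.le hlB, hl2, hl4⟩
        · refine ⟨x * l * x⁻¹, conj_mem_cj x hlB, mul_mem (mul_mem hxA hlA) (inv_mem hxA),
            mul_mem (mul_mem hxB (p.cB.le hlB)) (inv_mem hxB),
            hl2.imp fun k hk => by rw [conj_pow, hk, mul_one, mul_inv_cancel], fun e => hl4 ?_⟩
          rwa [conj_pow, conj_eq_one_iff] at e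
      set d := g₀⁻¹ * l' * g₀ with hddef
      have hdA : d ∈ A := mem_cj.1 hl'M
      have hdB : d ∈ centralizer ({zB} : Set G) := by
        rw [mem_centralizer_singleton_iff]
        have h1 : Commute l' v := (show Commute l' zA from mem_centralizer_singleton_iff.1 hl'A).mul_right
          (show Commute l' zB from mem_centralizer_singleton_iff.1 hl'B)
        rw [← hg₀zB] at h1
        calc d * zB = g₀⁻¹ * (l' * (g₀ * zB * g₀⁻¹)) * g₀ := by rw [hddef]; group
          _ = zB * d := by rw [h1.eq, hddef]; group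
      have hdC := p.cA.le hdA
      have hd2 : ∃ k : ℕ, d ^ 2 ^ k = 1 := hl'2.imp fun k hk => by
        rw [show d = g₀⁻¹ * l' * g₀⁻¹⁻¹ by rw [inv_inv], conj_pow, hk, mul_one, mul_inv_cancel]
      set t := d * y * d⁻¹ with htdef
      have htA : t ∈ centralizer ({zA} : Set G) := mul_mem (mul_mem hdC hv.memA) (inv_mem hdC)
      have htB : t ∈ centralizer ({zB} : Set G) := mul_mem (mul_mem hdB hyB) (inv_mem hdB)
      have hvN : q zA (y * t * y⁻¹ * t⁻¹) ∈ coreImg zB zA := by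
        by_cases hdn : d ∈ normalizer (B : Set G)
        · refine p.q_mem_core (mul_mem (mul_mem (mul_mem hv.memA htA) (inv_mem hv.memA)) (inv_mem htA))
            (mul_mem (mul_mem (mul_mem hyB htB) (inv_mem hyB)) (inv_mem htB)) ?_
          rw [q_mul (mul_mem (mul_mem hyB htB) (inv_mem hyB)) (inv_mem htB), q_conj hyB htB,
            q_inv htB]
          have h1 := hact _ (p.cB.q_mem ((mem_normalizer_iff.1 hdn y).1 hv.mem))
          rw [← htdef, ← (hScomm htA htB).eq, mul_inv_cancel_right] at h1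
          rw [← hYbdef, ← h1, mul_inv_cancel]
        · exact p.comm_of_moves hdC hdB hdn hv.mem hv.memA hv.mem hv.memA
      have hodd := odd_orderOf_of_mem (coreImg_odd zB zA) hvN
      set e := q zA d with hedef
      have heE : e ∈ img zA A := p.cA.q_mem hdA
      have hec : Commute (Y * e * Y⁻¹) e :=
        (p.cA.commute_of_ne hYE heE (conj_mem_cj Y heE)).symm
      have hYYs : Y * Y = s := by rw [hYdef, ← q_mul hv.memA hv.memA, hyy]
      have hes : Commute e s := p.sigma_commute hdC hdB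
      have hform : q zA (y * t * y⁻¹ * t⁻¹) = (Y * e * Y⁻¹) * (Y * e * Y⁻¹) * (e * e)⁻¹ := by
        rw [q_mul (mul_mem (mul_mem hv.memA htA) (inv_mem hv.memA)) (inv_mem htA), q_conj hv.memA htA,
          q_inv htA, htdef, q_conj hdC hv.memA, ← hYdef, ← hedef]
        have e2 : Y * Y * e⁻¹ * (Y * Y)⁻¹ = e⁻¹ := by
          rw [hYYs, ← hes.inv_left.eq, mul_inv_cancel_right]
        calc Y * (e * Y * e⁻¹) * Y⁻¹ * (e * Y * e⁻¹)⁻¹
            = (Y * e * Y⁻¹) * (Y * Y * e⁻¹ * (Y * Y)⁻¹) * (Y * e * Y⁻¹) * e⁻¹ := by group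
          _ = (Y * e * Y⁻¹) * (e⁻¹ * (Y * e * Y⁻¹)) * e⁻¹ := by rw [e2]; group
          _ = _ := by rw [← hec.inv_right.eq]; group
      rw [hform] at hodd
      have he2 : ∃ k : ℕ, (e * e) ^ 2 ^ k = 1 := hd2.imp fun k hk => by
        rw [hedef, ← q_mul hdC hdC, ← q_pow (mul_mem hdC hdC),
          (Commute.refl d).mul_pow, hk, one_mul, q_one]
      have hY2 : Y * e * Y⁻¹ * (Y * e * Y⁻¹) = Y * (e * e) * Y⁻¹ := by group
      obtain ⟨k, hk⟩ := two_power_mul
        (((hec.mul_left hec).mul_right (hec.mul_left hec)).inv_right)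
        (he2.imp fun k hk => by rw [hY2, conj_pow, hk, mul_one, mul_inv_cancel])
        (he2.imp fun k hk => by rw [inv_pow, hk, inv_one])
      have h1 := eq_one_of_odd_of_pow hodd hk
      rw [mul_inv_eq_one] at h1
      have h2 := p.cA.inter_of_ne hYE (mul_mem heE heE)
        (h1 ▸ mul_mem (conj_mem_cj Y heE) (conj_mem_cj Y heE))
      have he4 : e ^ 4 = 1 := by
        rw [show 4 = 2 * 2 from rfl, pow_mul, sq e, sq]
        rcases h2 with h2 | h2 <;> rw [h2]
        · rw [one_mul]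
        · exact p.cA.q_mul_self
      apply hl'4
      obtain ⟨k, hk⟩ := hd2
      have hd4 : d ^ 4 = 1 := eq_one_of_odd_of_pow (k := k)
        (odd_of_q_eq_one (pow_mem hdC 4) (by rw [q_pow hdC, ← hedef, he4]))
        (by rw [← pow_mul, mul_comm, pow_mul, hk, one_pow])
      rwa [show d = g₀⁻¹ * l' * g₀⁻¹⁻¹ by rw [inv_inv], conj_pow, conj_eq_one_iff] at hd4
  · -- `c` moves `B`
    have hmc : Mover zB B A c := ⟨hcA, hcB,
      ⟨2, by rw [show (2 : ℕ) ^ 2 = 2 * 2 from rfl, pow_mul, sq, sq, hcc, p.cA.mul_self]⟩,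
      by rw [hcc]; exact p.cA.ne_one, hcn, by rw [hcc]; exact hzAB⟩
    obtain ⟨-, -, x₂, hx₂B, hx₂A, -, hσ⟩ := p.symm.mover_main hmc
    have hx₂z : x₂ * zA * x₂⁻¹ = zA := by
      rw [mem_centralizer_singleton_iff.1 hx₂A, mul_inv_cancel_right]
    have cA'' : Intrinsic zA (cj x₂ A) := hx₂z ▸ p.cA.conj x₂
    set N₀ := (normalizer ((img zA A : Subgroup (Hb zA)) : Set (Hb zA))).normalCore with hN₀
    have hsN₀ : s ∈ N₀ := by
      intro g
      have hfix : s ∈ normalizer ((cj g⁻¹ (img zA A) : Subgroup (Hb zA)) : Set (Hb zA)) := by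
        show q zA zB ∈ _
        rw [hσ]
        exact mul_mem (p.cA.normalizes_comp cA'' _ (cA''.q_mem (conj_mem_cj x₂ hcA)))
          (inv_mem (p.cA.normalizes_comp p.cA _ hCE))
      rw [← cj_eq_self] at hfix ⊢
      rw [← cj_cj, ← cj_cj, hfix, cj_cj, mul_inv_cancel, cj_one]
    -- the shape of `S`
    have hcz : c * zB * c⁻¹ = zB := by
      rw [mem_centralizer_singleton_iff.1 hcB, mul_inv_cancel_right]
    have cBc : Intrinsic zB (cj c B) := hcz ▸ p.cB.conj c
    have hBc : cj c B = B' := by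
      by_contra hne
      have hkc : Commute S (δ * k * δ⁻¹) := by
        refine hScent cBc (fun e => hcn (cj_eq_self.1 e)) hne _ ?_
        rw [← ha'q, hδdef, ← q_conj hcB (p.cB.le ha'B)]
        exact cBc.q_mem (conj_mem_cj c ha'B)
      have hkS : Commute S k := by
        have h1 := ((hδS.inv_left.symm.mul_right hkc).mul_right hδS.symm)
        rwa [show δ⁻¹ * (δ * k * δ⁻¹) * δ = k by group] at h1
      rw [hkS.eq, mul_inv_cancel_right, left_eq_mul] at hSk
      exact p.cB.q_ne_one hSk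
    have hne' : img zB (cj c B) ≠ F := fun e => hcn (cj_eq_self.1 (cBc.ext_img p.cB e))
    have hδmem : ∀ f ∈ F, δ * f * δ⁻¹ ∈ img zB (cj c B) := by
      intro f hf
      obtain ⟨g, hg, rfl⟩ := p.cB.exists_of_mem hf
      rw [hδdef, ← q_conj hcB (p.cB.le hg)]
      exact cBc.q_mem (conj_mem_cj c hg)
    have hFcomm : ∀ f ∈ F, ∀ f' ∈ img zB (cj c B), Commute f f' := fun f hf f' hf' =>
      (cBc.commute_img p.cB hne' hf' hf).symm
    obtain ⟨ε, hε, hεc, hSε⟩ : ∃ ε : Hb zB, (ε = 1 ∨ ε = zb) ∧ (∀ g, Commute ε g) ∧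
        S = δ * Yb⁻¹ * δ⁻¹ * ε * Yb⁻¹ := by
      rw [← hBc] at hX'
      obtain ⟨g, hg, hgq⟩ := cBc.exists_of_mem hX'
      obtain ⟨b', hb', rfl⟩ : ∃ b' ∈ B, c * b' * c⁻¹ = g := ⟨_, mem_cj.1 hg, by group⟩
      rw [q_conj hcB (p.cB.le hb'), ← hδdef] at hgq
      set X := q zB (x * y * x⁻¹) with hXdef
      have hf1 : δ * X * δ⁻¹ ∈ F := by
        rw [← hgq, show δ * (δ * q zB b' * δ⁻¹) * δ⁻¹ = δ * δ * q zB b' * (δ * δ)⁻¹ by group, hδδ,
          hact _ (p.cB.q_mem hb')]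
        exact mul_mem (mul_mem hYb (p.cB.q_mem hb')) (inv_mem hYb)
      have hg' := hδmem _ (inv_mem hYb)
      have hS' : X * Yb⁻¹ = (δ * X * δ⁻¹) * (δ * Yb⁻¹ * δ⁻¹) := by
        rw [← hS]
        calc S = δ * S * δ⁻¹ := by rw [hδS.eq, mul_inv_cancel_right]
          _ = _ := by rw [hS]; group
      have hεF : (δ * Yb⁻¹ * δ⁻¹)⁻¹ * X = (δ * X * δ⁻¹) * Yb := by
        rw [inv_mul_eq_iff_eq_mul, ← mul_assoc, ← (hFcomm _ hf1 _ hg').eq, ← hS',
          inv_mul_cancel_right]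
      have h1 : (δ * Yb⁻¹ * δ⁻¹)⁻¹ * X ∈ F := hεF ▸ mul_mem hf1 hYb
      have h2 : (δ * Yb⁻¹ * δ⁻¹)⁻¹ * X ∈ img zB (cj c B) := mul_mem (inv_mem hg') hX'
      have h3 := hUB.center_cases h1 fun f hf => (hFcomm f hf _ h2).eq.symm
      refine ⟨_, h3, fun g => ?_, ?_⟩
      · rcases h3 with h | h <;> rw [h]
        · exact Commute.one_left g
        · exact (p.cB.q_central g).symm
      · rw [mul_inv_cancel_left]; exact hS
    -- the two involutions `h`, `h'`
    have hbar : ∀ a₁ ∈ F, (a₁ * Yb * a₁⁻¹) * Yb = zb * (Yb * (a₁ * Yb * a₁⁻¹)) →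
        ∀ H, H = a₁ * (δ * a₁ * δ⁻¹) * S * (a₁ * (δ * a₁ * δ⁻¹))⁻¹ →
          δ * H * δ⁻¹ = zb * H ∧ Commute H S := by
      intro a₁ ha₁ hk₁ H hH
      have hmk : a₁ * Yb * a₁⁻¹ ∈ F := mul_mem (mul_mem ha₁ hYb) (inv_mem ha₁)
      have hm := hδmem _ ha₁
      have hSa : S * (a₁ * Yb * a₁⁻¹)⁻¹ * S⁻¹ = zb * (a₁ * Yb * a₁⁻¹)⁻¹ := by
        rw [hact _ (inv_mem hmk)]
        have : (Yb * (a₁ * Yb * a₁⁻¹) * Yb⁻¹) = zb * (a₁ * Yb * a₁⁻¹) := by
          rw [← mul_left_inj Yb, inv_mul_cancel_right, mul_assoc zb, hk₁, ← mul_assoc zb zb,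
            p.cB.q_mul_self, one_mul]
        calc Yb * (a₁ * Yb * a₁⁻¹)⁻¹ * Yb⁻¹ = (Yb * (a₁ * Yb * a₁⁻¹) * Yb⁻¹)⁻¹ := by group
          _ = _ := by
            rw [this, mul_inv_rev, inv_eq_of_mul_eq_one_right p.cB.q_mul_self,
              p.cB.q_central]
      generalize hK : (a₁ * Yb * a₁⁻¹)⁻¹ = K at hSa
      have hKF : K ∈ F := hK ▸ inv_mem hmk
      have hH' : H = δ * K * δ⁻¹ * ε * K := by
        rw [hH, hSε, ← hK]
        set m := δ * a₁ * δ⁻¹ with hm_def
        have hg' := hδmem _ (inv_mem hYb)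
        have e1 := (hFcomm _ ha₁ _ hm).eq
        have e2 := (hFcomm _ ha₁ _ hg').eq
        have e3 := (hFcomm _ (inv_mem hYb) _ (inv_mem hm)).eq
        calc a₁ * m * (δ * Yb⁻¹ * δ⁻¹ * ε * Yb⁻¹) * (a₁ * m)⁻¹
            = (a₁ * m) * (δ * Yb⁻¹ * δ⁻¹) * ε * (Yb⁻¹ * m⁻¹) * a₁⁻¹ := by group
          _ = (m * a₁) * (δ * Yb⁻¹ * δ⁻¹) * ε * (m⁻¹ * Yb⁻¹) * a₁⁻¹ := by rw [e1, e3]
          _ = m * (a₁ * (δ * Yb⁻¹ * δ⁻¹)) * (ε * m⁻¹) * Yb⁻¹ * a₁⁻¹ := by group
          _ = m * (δ * Yb⁻¹ * δ⁻¹) * (a₁ * m⁻¹) * ε * Yb⁻¹ * a₁⁻¹ := by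
              rw [e2, (hεc m⁻¹).eq]; group
          _ = m * (δ * Yb⁻¹ * δ⁻¹) * m⁻¹ * (a₁ * ε) * Yb⁻¹ * a₁⁻¹ := by
              rw [(hFcomm _ ha₁ _ (inv_mem hm)).eq]; group
          _ = m * (δ * Yb⁻¹ * δ⁻¹) * m⁻¹ * ε * (a₁ * Yb⁻¹ * a₁⁻¹) := by
              rw [← (hεc a₁).eq]; group
          _ = _ := by rw [hm_def]; group
      have hKm := hδmem _ hKF
      have hcomm : δ * K * δ⁻¹ * ε * K = K * ε * (δ * K * δ⁻¹) := by
        rw [(hεc K).symm.eq, mul_assoc, (hεc K).eq, ← mul_assoc, ← (hFcomm _ hKF _ hKm).eq,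
          mul_assoc K, ← (hεc (δ * K * δ⁻¹)).eq, ← mul_assoc]
      constructor
      · rw [hH']
        calc δ * (δ * K * δ⁻¹ * ε * K) * δ⁻¹ = (δ * δ) * K * (δ * δ)⁻¹ * (δ * ε * δ⁻¹) * (δ * K * δ⁻¹) := by
              group
          _ = zb * K * ε * (δ * K * δ⁻¹) := by
            rw [hδδ, hSa, ← (hεc δ).eq, mul_inv_cancel_right]
          _ = zb * (δ * K * δ⁻¹ * ε * K) := by rw [hcomm, mul_assoc zb, mul_assoc zb]
      · refine (mul_inv_eq_iff_eq_mul.1 ?_).symm
        rw [hH']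
        calc S * (δ * K * δ⁻¹ * ε * K) * S⁻¹
            = (S * δ) * K * (S * δ)⁻¹ * (S * ε * S⁻¹) * (S * K * S⁻¹) := by group
          _ = δ * (S * K * S⁻¹) * δ⁻¹ * ε * (S * K * S⁻¹) := by
            rw [← hδS.eq, ← (hεc S).eq, mul_inv_cancel_right]; group
          _ = δ * (zb * K) * δ⁻¹ * ε * (zb * K) := by rw [hSa]
          _ = _ := by
            rw [← mul_assoc δ zb K, p.cB.q_central δ, show zb * δ * K * δ⁻¹ * ε = zb * (δ * K * δ⁻¹ * ε) by group,
              ← p.cB.q_central (δ * K * δ⁻¹ * ε), mul_assoc _ zb, ← mul_assoc zb zb,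
              p.cB.q_mul_self, one_mul]
    obtain ⟨a₀, ha₀B, ha₀q⟩ := p.cB.exists_of_mem hx₀
    have hcac : c * a₀ * c⁻¹ ∈ centralizer ({zB} : Set G) :=
      mul_mem (mul_mem hcB (p.cB.le ha₀B)) (inv_mem hcB)
    set X₀ := a₀ * (c * a₀ * c⁻¹) with hX₀def
    have hX₀B : X₀ ∈ centralizer ({zB} : Set G) := mul_mem (p.cB.le ha₀B) hcac
    have hX₀q : q zB X₀ = x₀ * (δ * x₀ * δ⁻¹) := by
      rw [hX₀def, q_mul (p.cB.le ha₀B) hcac, q_conj hcB (p.cB.le ha₀B), ha₀q]
    obtain ⟨hH1, hHS⟩ := hbar x₀ hx₀ hk _ rfl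
    have htA : X₀ * zA * X₀⁻¹ ∈ centralizer ({zB} : Set G) :=
      mul_mem (mul_mem hX₀B p.comm_symm) (inv_mem hX₀B)
    have ht2 : X₀ * zA * X₀⁻¹ * (X₀ * zA * X₀⁻¹) = 1 := by
      calc X₀ * zA * X₀⁻¹ * (X₀ * zA * X₀⁻¹) = X₀ * (zA * zA) * X₀⁻¹ := by group
        _ = 1 := by rw [p.cA.mul_self, mul_one, mul_inv_cancel]
    have hstB := mul_mem p.comm_symm htA
    have hst : q zB ((zA * (X₀ * zA * X₀⁻¹)) ^ 2) = 1 := by
      rw [q_pow hstB, q_mul p.comm_symm htA, q_conj hX₀B p.comm_symm, hX₀q, sq,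
        hHS.mul_mul_mul_comm, hS2, one_mul, ← hX₀q, ← q_conj hX₀B p.comm_symm,
        ← q_mul htA htA, ht2, q_one]
    obtain ⟨o, ⟨i, rfl⟩, ho⟩ := exists_commute_of_odd p.cA.mul_self ht2
      (odd_of_q_eq_one (pow_mem hstB 2) hst)
    set o := ((zA * (X₀ * zA * X₀⁻¹)) ^ 2) ^ i with hodef
    have hoB : o ∈ centralizer ({zB} : Set G) := zpow_mem (pow_mem hstB 2) i
    have hoq : q zB o = 1 := by rw [hodef, q_zpow (pow_mem hstB 2), hst, one_zpow]
    set X := o * X₀ with hXdef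
    have hXB : X ∈ centralizer ({zB} : Set G) := mul_mem hoB hX₀B
    have hXq : q zB X = x₀ * (δ * x₀ * δ⁻¹) := by rw [hXdef, q_mul hoB hX₀B, hoq, one_mul, hX₀q]
    set h := X * zA * X⁻¹ with hhdef
    have hcomm : Commute h zA := by
      have e : ∀ o' : G, o' * X₀ * zA * (o' * X₀)⁻¹ = o' * (X₀ * zA * X₀⁻¹) * o'⁻¹ := fun o' => by
        group
      rw [hhdef, hXdef, e]
      exact ho
    set h' := X⁻¹ * zA * X with hh'def
    have hcomm' : Commute h' zA := by
      have e : h' * zA = X⁻¹ * (zA * h) * X := by rw [hh'def, hhdef]; group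
      show h' * zA = zA * h'
      rw [e, ← hcomm.eq, hh'def, hhdef]; group
    have hhB : h ∈ centralizer ({zB} : Set G) := mul_mem (mul_mem hXB p.comm_symm) (inv_mem hXB)
    have hh'B : h' ∈ centralizer ({zB} : Set G) := mul_mem (mul_mem (inv_mem hXB) p.comm_symm) hXB
    have hhA : h ∈ centralizer ({zA} : Set G) := mem_centralizer_singleton_iff.2 hcomm.eq
    have hh'A : h' ∈ centralizer ({zA} : Set G) := mem_centralizer_singleton_iff.2 hcomm'.eq
    have hhh : h * h = 1 := by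
      calc h * h = X * (zA * zA) * X⁻¹ := by rw [hhdef]; group
        _ = 1 := by rw [p.cA.mul_self, mul_one, mul_inv_cancel]
    have hh'h' : h' * h' = 1 := by
      calc h' * h' = X⁻¹ * (zA * zA) * X := by rw [hh'def]; group
        _ = 1 := by rw [p.cA.mul_self, mul_one, inv_mul_cancel]
    obtain ⟨hmove, hσh⟩ := p.diag_of_comm hcA hcB hcc hhA hhB hhh (by
      rw [q_conj hcB hhB, hhdef, q_conj hXB p.comm_symm, hXq]; exact hH1)
    have hx₀i : (x₀⁻¹ * Yb * x₀⁻¹⁻¹) * Yb = zb * (Yb * (x₀⁻¹ * Yb * x₀⁻¹⁻¹)) := by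
      rw [inv_inv]
      have hx₀z : x₀ * zb * x₀⁻¹ = zb := by rw [p.cB.q_central, mul_inv_cancel_right]
      calc x₀⁻¹ * Yb * x₀ * Yb = x₀⁻¹ * (Yb * k) * x₀ := by rw [hkdef]; group
        _ = x₀⁻¹ * (zb * (k * Yb)) * x₀ := by rw [hYbk]
        _ = zb * (x₀⁻¹ * (k * Yb) * x₀) := by
          rw [← mul_assoc x₀⁻¹ zb, p.cB.q_central x₀⁻¹, mul_assoc zb x₀⁻¹, mul_assoc zb]
        _ = _ := by rw [hkdef]; group
    obtain ⟨hH'1, -⟩ := hbar x₀⁻¹ (inv_mem hx₀) hx₀i _ rfl
    obtain ⟨hmove', -⟩ := p.diag_of_comm hcA hcB hcc hh'A hh'B hh'h' (by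
      have e : x₀⁻¹ * (δ * x₀⁻¹ * δ⁻¹) = (x₀ * (δ * x₀ * δ⁻¹))⁻¹ := by
        rw [(hFcomm _ (inv_mem hx₀) _ (hδmem _ (inv_mem hx₀))).eq]; group
      rw [e] at hH'1
      rw [q_conj hcB hh'B, hh'def, show X⁻¹ * zA * X = X⁻¹ * zA * X⁻¹⁻¹ by rw [inv_inv],
        q_conj (inv_mem hXB) p.comm_symm, q_inv hXB, hXq]
      exact hH'1)
    -- the contradiction
    set η := q zA h with hηdef
    set η' := q zA h' with hη'def
    have hηη : η * η = 1 := by rw [hηdef, ← q_mul hhA hhA, hhh, q_one]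
    have hηi : η⁻¹ = η := inv_eq_of_mul_eq_one_right hηη
    have hcη : ∀ a ∈ img zA A, ∀ a' ∈ img zA A, Commute a (η * a' * η⁻¹) := fun a ha a' ha' =>
      p.cA.commute_of_ne hmove ha (conj_mem_cj η ha')
    let φ : ↥(img zA A) →* Hb zA := MonoidHom.mk'
      (fun a => (a : Hb zA) * (η * a * η⁻¹)) fun a a' => by
        simp only [Subgroup.coe_mul]
        calc (a : Hb zA) * a' * (η * (a * a') * η⁻¹)
            = a * (a' * (η * a * η⁻¹)) * (η * a' * η⁻¹) := by group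
          _ = a * ((η * a * η⁻¹) * a') * (η * a' * η⁻¹) := by rw [(hcη _ a'.2 _ a.2).eq]
          _ = a * (η * a * η⁻¹) * (a' * (η * a' * η⁻¹)) := by group
    let D := centralizer ({zA} : Set G) ⊓ centralizer ({h} : Set G)
    have hmemD : ∀ g ∈ D, X⁻¹ * g * X ∈ centralizer ({zA} : Set G) := by
      intro g hg
      rw [mem_centralizer_singleton_iff]
      have h1 : g * h = h * g := mem_centralizer_singleton_iff.1 hg.2
      calc X⁻¹ * g * X * zA = X⁻¹ * (g * h) * X := by rw [hhdef]; group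
        _ = zA * (X⁻¹ * g * X) := by rw [h1, hhdef]; group
    let ψ : ↥D →* Hb zA ⧸ N₀ := (QuotientGroup.mk' N₀).comp (MonoidHom.mk'
      (fun g : ↥D => q zA (X⁻¹ * g * X)) fun g g' => by
        rw [← q_mul (hmemD g g.2) (hmemD g' g'.2), Subgroup.coe_mul]; group)
    let π : ↥D →* Hb zA := MonoidHom.mk' (fun g : ↥D => q zA g) fun g g' => by
      rw [← q_mul g.2.1 g'.2.1]; rfl
    have hlift : ∀ a : ↥(img zA A), ∃ g : ↥D, π g = φ a := by
      intro a
      have hc : φ a * η = η * φ a := by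
        show (a : Hb zA) * (η * a * η⁻¹) * η = η * (a * (η * a * η⁻¹))
        rw [(hcη _ a.2 _ a.2).eq, hηi]
        calc η * a * η * a * η = η * a * (η * a * η) := by group
          _ = η * ((a : Hb zA) * (η * a * η)) := by group
          _ = η * ((η * a * η) * a) := by
            have := (hcη _ a.2 _ a.2).eq
            rw [hηi] at this; rw [this]
      obtain ⟨g, hg, hgq⟩ := q_surj (φ a)
      obtain ⟨o', -, ho'C, -, ho'h, ho'q⟩ := exists_lift_commute hhA hhh hg (hgq ▸ hc)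
      exact ⟨⟨o'⁻¹ * g, (mul_mem (inv_mem ho'C) hg : o'⁻¹ * g ∈ centralizer ({zA} : Set G)), ho'h⟩,
        ho'q.trans hgq⟩
    let M' := (ψ.ker.map π).comap φ
    haveI : M'.Normal := ⟨fun n hn a => by
      obtain ⟨g, hg, hgn⟩ := hn
      obtain ⟨l, hl⟩ := hlift a
      refine ⟨l * g * l⁻¹, (inferInstance : ψ.ker.Normal).conj_mem g hg l, ?_⟩
      rw [map_mul, map_mul, map_inv, hl, hgn, map_mul, map_mul, map_inv]⟩
    -- `v` and its images
    have hvh : v * h = h * v :=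
      ((show Commute zA h from hcomm.symm).mul_left
        (show Commute zB h from (mem_centralizer_singleton_iff.1 hhB).symm)).eq
    let vD : ↥D := ⟨v, hvA, mem_centralizer_singleton_iff.2 hvh⟩
    have hψv : ψ vD = QuotientGroup.mk' N₀ η' := by
      show QuotientGroup.mk' N₀ (q zA (X⁻¹ * (zA * zB) * X)) = _
      have hXz : zB * X = X * zB := (mem_centralizer_singleton_iff.1 hXB).symm
      rw [show X⁻¹ * (zA * zB) * X = h' * zB by rw [mul_assoc X⁻¹, mul_assoc zA, hXz, hh'def]; group,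
        q_mul hh'A p.comm, map_mul, ← hsdef,
        show QuotientGroup.mk' N₀ s = 1 from (QuotientGroup.eq_one_iff s).2 hsN₀, mul_one]
    let C' : ↥(img zA A) := ⟨C⁻¹, inv_mem hCE⟩
    have hπv : π vD = φ C' := by
      show q zA (zA * zB) = C⁻¹ * (η * C⁻¹ * η⁻¹)
      rw [q_mul p.cA.mem_C p.comm, hσh, hηi, ← mul_assoc, ← hzdef,
        show z * C = C⁻¹ from (inv_eq_of_mul_eq_one_right (by
          rw [← mul_assoc, p.cA.q_central C, mul_assoc, hCC, p.cA.q_mul_self])).symm]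
    rcases quasisimple_normal_eq_top_or_le_center hU.qs M' with htop | hcen
    · obtain ⟨n, hn, hnq⟩ := htop ▸ mem_top C'
      have hodd : Odd (orderOf (vD * n⁻¹)) := by
        rw [← orderOf_coe]
        refine odd_of_q_eq_one (vD * n⁻¹).2.1 ?_
        show π (vD * n⁻¹) = 1
        rw [map_mul, map_inv, hnq, ← hπv, mul_inv_cancel]
      have h1 : Odd (orderOf (ψ (vD * n⁻¹))) := hodd.of_dvd_nat (orderOf_map_dvd ψ _)
      rw [map_mul, map_inv, MonoidHom.mem_ker.1 hn, inv_one, mul_one, hψv] at h1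
      have h2 := eq_one_of_odd_of_sq h1 (by
        rw [← map_mul, hη'def, ← q_mul hh'A hh'A, hh'h', q_one, map_one])
      rw [QuotientGroup.mk'_apply, QuotientGroup.eq_one_iff] at h2
      exact hmove' (cj_eq_self.2 (Subgroup.normalCore_le _ h2))
    · have hkey : ∀ a : ↥(img zA A), C' * a * C'⁻¹ * a⁻¹ ∈ center ↥(img zA A) := by
        intro a
        refine hcen ?_
        obtain ⟨l, hl⟩ := hlift a
        refine ⟨vD * l * vD⁻¹ * l⁻¹, ?_, by
          rw [map_mul, map_mul, map_mul, map_inv, map_inv, hl, hπv, map_mul, map_mul, map_mul,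
            map_inv, map_inv]⟩
        rw [SetLike.mem_coe, MonoidHom.mem_ker, map_mul, map_mul, map_mul, map_inv, map_inv, hψv]
        -- `η'` commutes with the image of `l`
        have hl' := hmemD l l.2
        have hc : Commute η' (q zA (X⁻¹ * l * X)) := by
          refine q_commute hh'A hl' ?_
          have h1 : (l : G) * zA = zA * l := mem_centralizer_singleton_iff.1 l.2.1
          calc h' * (X⁻¹ * l * X) = X⁻¹ * (zA * l) * X := by rw [hh'def]; group
            _ = X⁻¹ * l * X * h' := by rw [← h1, hh'def]; group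
        show QuotientGroup.mk' N₀ η' * QuotientGroup.mk' N₀ (q zA (X⁻¹ * l * X)) * _ * _ = 1
        rw [← map_mul, hc.eq, map_mul, mul_inv_cancel_right]
        exact mul_inv_cancel _
      haveI := hU.simple_quotient.1
      have hcen' : QuotientGroup.mk' (center ↥(img zA A)) C' ∈
          center (↥(img zA A) ⧸ center ↥(img zA A)) := mem_center_iff.2 fun g => by
        obtain ⟨a, rfl⟩ := QuotientGroup.mk'_surjective _ g
        have := (QuotientGroup.eq_one_iff _).2 (hkey a)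
        rw [← QuotientGroup.mk'_apply, map_mul, map_mul, map_mul, map_inv, map_inv, mul_inv_eq_one,
          mul_inv_eq_iff_eq_mul] at this
        exact this.symm
      rw [CfsgLib.Small.center_eq_bot hU.simple_quotient.2, mem_bot, QuotientGroup.mk'_apply] at hcen'
      rcases (hU.mk_eq_one (inv_mem hCE)).1 hcen' with h1 | h1
      · rw [inv_eq_one] at h1
        rw [h1, one_mul] at hCC
        exact p.cA.q_ne_one hCC.symm
      · rw [inv_eq_iff_eq_inv, inv_eq_of_mul_eq_one_right p.cA.q_mul_self] at h1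
        rw [h1, p.cA.q_mul_self] at hCC
        exact p.cA.q_ne_one hCC.symm

/-- **Part (i)**: a 2-element of order at least four of `B` centralising `zA` normalises `A`. -/
theorem normalizes_of_four (hyB : y ∈ B) (hy2 : ∃ k : ℕ, y ^ 2 ^ k = 1) (hy : y * y ≠ 1)
    (hyA : y ∈ centralizer ({zA} : Set G)) : y ∈ normalizer (A : Set G) := by
  by_contra hn
  obtain ⟨m, hm, ho⟩ : ∃ m, 2 ≤ m ∧ orderOf y = 2 ^ m := by
    obtain ⟨k, hk⟩ := hy2
    obtain ⟨m, -, hm⟩ := (Nat.dvd_prime_pow Nat.prime_two).1 (orderOf_dvd_of_pow_eq_one hk)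
    refine ⟨m, ?_, hm⟩
    by_contra hlt
    apply hy
    rw [← sq]
    refine orderOf_dvd_iff_pow_eq_one.1 ?_
    rw [hm]
    interval_cases m <;> decide
  have hzB := p.zB_normalizes hyB hyA hm ho hn
  have hlast : y ^ 2 ^ (m - 1) ∈ normalizer (A : Set G) := by
    suffices y ^ 2 ^ (m - 1) = zB by rw [this]; exact hzB
    refine p.cB.uniq _ (pow_mem hyB _) ?_
    rw [orderOf_pow_of_dvd (by positivity) (ho ▸ pow_dvd_pow 2 (by omega)), ho,
      Nat.pow_div (by omega) two_pos, show m - (m - 1) = 1 by omega, pow_one]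
  classical
  have hex : ∃ i, y ^ 2 ^ i ∈ normalizer (A : Set G) := ⟨_, hlast⟩
  obtain ⟨j, hj⟩ : ∃ j, Nat.find hex = j + 1 := by
    refine ⟨Nat.find hex - 1, ?_⟩
    rcases Nat.eq_zero_or_pos (Nat.find hex) with h0 | h0
    · exact absurd (by simpa [h0] using Nat.find_spec hex) hn
    · omega
  have hjle : j + 1 ≤ m - 1 := hj ▸ Nat.find_min' hex hlast
  refine p.no_mover (y := y ^ 2 ^ j) ⟨pow_mem hyB _, pow_mem hyA _, ?_, ?_, ?_, ?_⟩
  · exact ⟨m, by rw [← pow_mul, mul_comm, pow_mul, ← ho, pow_orderOf_eq_one, one_pow]⟩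
  · rw [← pow_add, ← two_mul, ← pow_succ']
    refine pow_ne_one_of_lt_orderOf (by positivity) ?_
    rw [ho]
    exact Nat.pow_lt_pow_right one_lt_two (by omega)
  · exact Nat.find_min hex (by omega)
  · rw [← pow_add, ← two_mul, ← pow_succ', ← hj]
    exact Nat.find_spec hex

end Pair

end CfsgLib.SLPair
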