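import Cfsg.Agent.Lib.Components.SLPair.PartOne
import Cfsg.Agent.Lib.Components.SLPair.Images

/-!
# If `zA` normalises `B`, then `zB` normalises `A`
-/

set_option autoImplicit false
set_option linter.style.haveILetI false
set_option linter.unusedSectionVars false

namespace CfsgLib.SLPair

open Cfsg Subgroup CfsgLib.Components

universe u

variable {G : Type u} [Group G] [Finite G] {zA zB : G} {A B : Subgroup G}

/-- The diagonal of a component and a conjugate of it under an involution. -/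
theorem Intrinsic.exists_diag (cA : Intrinsic zA A) {η : Hb zA} (hη : η * η = 1)
    (hmove : cj η (img zA A) ≠ img zA A) :
    ∃ φ : ↥(img zA A) →* Hb zA, (∀ a, φ a = (a : Hb zA) * (η * a * η⁻¹)) ∧
      (∀ a, φ a * η = η * φ a) ∧ φ.ker = center ↥(img zA A) := by
  have hU := cA.isUQ
  have hc : ∀ a ∈ img zA A, ∀ b ∈ img zA A, Commute a (η * b * η⁻¹) := fun a ha b hb =>
    cA.commute_of_ne hmove ha (conj_mem_cj η hb)
  have hi : η⁻¹ = η := inv_eq_of_mul_eq_one_right hη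
  refine ⟨MonoidHom.mk' (fun a => (a : Hb zA) * (η * a * η⁻¹)) fun a b => ?_, fun a => rfl,
    fun a => ?_, ?_⟩
  · simp only [Subgroup.coe_mul]
    calc (a : Hb zA) * b * (η * (a * b) * η⁻¹)
        = a * (b * (η * a * η⁻¹)) * (η * b * η⁻¹) := by group
      _ = a * ((η * a * η⁻¹) * b) * (η * b * η⁻¹) := by rw [(hc _ b.2 _ a.2).eq]
      _ = a * (η * a * η⁻¹) * (b * (η * b * η⁻¹)) := by group
  · show (a : Hb zA) * (η * a * η⁻¹) * η = η * (a * (η * a * η⁻¹))
    rw [(hc _ a.2 _ a.2).eq]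
    calc η * (a : Hb zA) * η⁻¹ * a * η = η * (a * (η⁻¹ * a * η)) := by group
      _ = η * (a * (η * a * η⁻¹)) := by rw [hi]
      _ = η * (η * a * η⁻¹ * a) := by rw [(hc _ a.2 _ a.2).eq]
  · ext a
    rw [MonoidHom.mem_ker]
    constructor
    · intro h
      refine (QuotientGroup.eq_one_iff _).1 ((hU.mk_eq_one a.2).2 (cA.inter_of_ne hmove a.2 ?_))
      rw [show (a : Hb zA) = (η * a * η⁻¹)⁻¹ from eq_inv_of_mul_eq_one_left h]
      exact inv_mem (conj_mem_cj η a.2)
    · intro h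
      show (a : Hb zA) * (η * a * η⁻¹) = 1
      rcases (hU.mk_eq_one a.2).1 ((QuotientGroup.eq_one_iff _).2 h) with h | h <;> rw [h]
      · group
      · rw [cA.q_central η, mul_inv_cancel_right, cA.q_mul_self]

namespace Pair

variable (p : Pair zA A zB B)
include p

theorem cj_S (hzAB : zA ∈ normalizer (B : Set G)) :
    cj (q zB zA) (img zB B) = img zB B :=
  p.cB.cj_img_of_normalizes p.comm_symm hzAB

/-- Part (ii), the first step: `zA` negates an element of order four of `B`. -/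
theorem exists_neg_of_moves (hzAB : zA ∈ normalizer (B : Set G))
    (hzBA : zB ∉ normalizer (A : Set G)) :
    ∃ b ∈ img zB B, b * b = q zB zB ∧ q zB zA * b * (q zB zA)⁻¹ = b * q zB zB := by
  have hU := p.cB.isUQ
  have hS2 : q zB zA * q zB zA = 1 := p.symm.sigma_mul_self
  obtain ⟨P, hP, hQP⟩ := exists_invariant_syl (E := img zB B) (Q := zpowers (q zB zA)) (by
      rintro ⟨_, i, rfl⟩
      refine ⟨1, Subtype.ext ?_⟩
      show (q zB zA ^ i) ^ 2 ^ 1 = 1
      rw [pow_one, ← zpow_natCast (q zB zA ^ i), ← zpow_mul, mul_comm, zpow_mul, zpow_natCast, sq,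
        hS2, one_zpow])
    (zpowers_le.2 (cj_eq_self.1 (p.cj_S hzAB)))
  rw [zpowers_le] at hQP
  by_cases hnt : ∃ g ∈ P, q zB zA * g ≠ g * q zB zA
  · obtain ⟨g₀, hg₀, hne⟩ := hnt
    obtain ⟨b, hb, hbb, hneg⟩ := hU.exists_negated hP hS2
      (fun g hg => (mem_normalizer_iff.1 hQP g).1 hg) hg₀ hne
    exact ⟨b, hP.le hb, hbb, hneg⟩
  exfalso
  simp only [not_exists, not_and, not_not] at hnt
  obtain ⟨i, hi, j, -, hii, -, -⟩ := hU.exists_ij hP
  obtain ⟨c, hcB, hcA, hc2, hcq⟩ := p.symm.exists_lift_mem hzAB (hP.le hi) (hnt i hi).symm (k := 2)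
    (by rw [show (2 : ℕ) ^ 2 = 2 * 2 from rfl, pow_mul, sq, sq, hii, p.cB.q_mul_self])
  have hcc : c * c = zB := p.cB.sq_eq hcB hc2 (by rw [hcq, hii])
  apply hzBA
  rw [← hcc]
  have := p.normalizes_of_four hcB hc2 (by rw [hcc]; exact p.cB.ne_one) hcA
  exact mul_mem this this

/-- Part (ii). -/
theorem zB_normalizes_of_zA (hzAB : zA ∈ normalizer (B : Set G))
    (hcard : Nat.card (↥(img zA A) ⧸ center ↥(img zA A)) =
      Nat.card (↥(img zB B) ⧸ center ↥(img zB B))) :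
    zB ∈ normalizer (A : Set G) := by
  by_contra hzBA
  obtain ⟨b, hbF, hbb, hbneg⟩ := p.exists_neg_of_moves hzAB hzBA
  set s := q zA zB with hsdef
  set z := q zA zA with hzdef
  set S := q zB zA with hSdef
  set zb := q zB zB with hzbdef
  set E := img zA A with hEdef
  set F := img zB B with hFdef
  have hU := p.cA.isUQ
  have hUB := p.cB.isUQ
  have hsE : cj s E ≠ E := fun h => hzBA (p.cA.normalizes p.comm h)
  have hSF : cj S F = F := p.cj_S hzAB
  have hS2 : S * S = 1 := p.symm.sigma_mul_self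
  have hSb : ∃ f ∈ F, S * f ≠ f * S := ⟨b, hbF, fun h => by
    rw [h, mul_inv_cancel_right, left_eq_mul] at hbneg
    exact p.cB.q_ne_one hbneg⟩
  obtain ⟨φ, hφ, hφs, hφker⟩ : ∃ φ : ↥E →* Hb zA, (∀ a, φ a = (a : Hb zA) * (s * a * s⁻¹)) ∧
      (∀ a, φ a * s = s * φ a) ∧ φ.ker = center ↥E := p.cA.exists_diag p.sigma_mul_self hsE
  have hLperf : ⁅φ.range, φ.range⁆ = φ.range := by
    rw [MonoidHom.range_eq_map, ← map_commutator, ← _root_.commutator_def,
      hU.qs.1.commutator_eq_top]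
  -- the group of elements centralising both involutions
  let D := centralizer ({zA} : Set G) ⊓ centralizer ({zB} : Set G)
  let π : ↥D →* Hb zA := MonoidHom.mk' (fun g : ↥D => q zA g) fun g g' => q_mul g.2.1 g'.2.1
  let ρ : ↥D →* Hb zB := MonoidHom.mk' (fun g : ↥D => q zB g) fun g g' => q_mul g.2.2 g'.2.2
  have hπs : ∀ x : ↥D, π x * s = s * π x := fun x => p.sigma_commute x.2.1 x.2.2
  have hρS : ∀ x : ↥D, ρ x * S = S * ρ x := fun x => p.symm.sigma_commute x.2.2 x.2.1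
  have hodd : ∀ x : ↥D, π x = 1 → Odd (orderOf (ρ x)) := fun x h =>
    odd_q x.2.2 (odd_of_q_eq_one x.2.1 h)
  have hlift : ∀ a : ↥E, ∃ x : ↥D, π x = φ a := fun a => by
    obtain ⟨x, h1, h2, h3⟩ := p.exists_lift (hφs a)
    exact ⟨⟨x, h1, h2⟩, h3⟩
  have hψL : ∀ (x : ↥D) (n : ↥D), π n ∈ φ.range → π x ∈ φ.range →
      π (x * n * x⁻¹) ∈ φ.range := fun x n hn hx => by
    rw [map_mul, map_mul, map_inv]; exact mul_mem (mul_mem hx hn) (inv_mem hx)
  -- lifts of the diagonal normalising `B`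
  let U : Subgroup ↥D := (normalizer (F : Set (Hb zB))).comap ρ
  have hall : ∀ a : ↥E, ∃ x ∈ U, π x = φ a := by
    let N₀ := (normalizer (F : Set (Hb zB))).normalCore
    let K := N₀.comap ρ
    have hKU : K ≤ U := comap_mono (Subgroup.normalCore_le _)
    let M' := (K.map π).comap φ
    haveI : M'.Normal := ⟨fun n hn a => by
      obtain ⟨g, hg, hgn⟩ := hn
      obtain ⟨l, hl⟩ := hlift a
      refine ⟨l * g * l⁻¹, (inferInstance : K.Normal).conj_mem g hg l, ?_⟩
      rw [map_mul, map_mul, map_inv, hl, hgn, map_mul, map_mul, map_inv]⟩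
    rcases quasisimple_normal_eq_top_or_le_center hU.qs M' with htop | hcen
    · intro a
      obtain ⟨g, hg, hga⟩ := htop ▸ mem_top a
      exact ⟨g, hKU hg, hga⟩
    intro a
    obtain ⟨x, hx⟩ := hlift a
    refine ⟨x, ?_, hx⟩
    by_contra hxU
    have hsmall : ∀ g ∈ K, π g ∈ φ.range → π g = 1 := by
      rintro g hg ⟨a', ha'⟩
      have h1 : a' ∈ φ.ker := hφker ▸ hcen (show a' ∈ M' from ⟨g, hg, ha'.symm⟩)
      rw [← ha']
      exact h1
    set P := ρ x with hPdef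
    have hPF : cj P F ≠ F := fun h => hxU (cj_eq_self.1 h)
    set i := b with hidef
    set i' := P * i * P⁻¹ with hi'def
    have hi'F : i' ∈ cj P F := conj_mem_cj P hbF
    have hPS : Commute P S := hρS x
    have hSi' : S * i' * S⁻¹ = i' * zb := by
      calc S * i' * S⁻¹ = (S * P) * i * (S * P)⁻¹ := by rw [hi'def]; group
        _ = P * (S * i * S⁻¹) * P⁻¹ := by rw [← hPS.eq]; group
        _ = P * i * (zb * P⁻¹) := by rw [hbneg]; group
        _ = i' * zb := by rw [← p.cB.q_central P⁻¹, hi'def]; group; rfl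
    have hηS : Commute (i * i') S := by
      refine (mul_inv_eq_iff_eq_mul.1 ?_).symm
      calc S * (i * i') * S⁻¹ = (S * i * S⁻¹) * (S * i' * S⁻¹) := by group
        _ = i * (zb * i') * zb := by rw [hbneg, hSi']; group
        _ = i * i' := by
          rw [← p.cB.q_central i', ← mul_assoc i, mul_assoc, p.cB.q_mul_self, mul_one]
    have hxzB : (x : G) * zB * (x : G)⁻¹ = zB := by
      rw [mem_centralizer_singleton_iff.1 x.2.2, mul_inv_cancel_right]
    have cxB : Intrinsic zB (cj (x : G) B) := hxzB ▸ p.cB.conj (x : G)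
    obtain ⟨b', hb'B, hb'q⟩ := p.cB.exists_of_mem hbF
    have hi'img : i' ∈ img zB (cj (x : G) B) := by
      have := cxB.q_mem (conj_mem_cj (x : G) hb'B)
      rwa [q_conj x.2.2 (p.cB.le hb'B), hb'q] at this
    have hηN : i * i' ∈ N₀ := by
      intro k
      have h1 : i * i' ∈ normalizer ((cj k⁻¹ F : Subgroup (Hb zB)) : Set (Hb zB)) :=
        mul_mem (p.cB.normalizes_comp p.cB k⁻¹ hbF) (p.cB.normalizes_comp cxB k⁻¹ hi'img)
      rw [← cj_eq_self] at h1 ⊢
      rw [← cj_cj, ← cj_cj, h1, cj_cj, mul_inv_cancel, cj_one]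
    obtain ⟨h, hhB, hhA, hhq⟩ := p.symm.exists_lift hηS.eq
    let hD : ↥D := ⟨h, hhA, hhB⟩
    have hhK : hD ∈ K := by
      show q zB h ∈ N₀
      rw [hhq]; exact hηN
    set hb := π hD with hhbdef
    have hKconj : ∀ y : ↥D, hD * y * hD⁻¹ * y⁻¹ ∈ K := fun y => by
      have h1 := mul_mem hhK ((inferInstance : K.Normal).conj_mem _ (inv_mem hhK) y)
      simpa [mul_assoc] using h1
    -- the image of `h` centralises the diagonal
    have hcentral : ∀ y : ↥D, π y ∈ φ.range → π (hD * y * hD⁻¹ * y⁻¹) = 1 := by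
      intro y hy
      by_cases hcase : cj hb E = E ∨ cj hb E = cj s E
      · refine hsmall _ (hKconj y) ?_
        rw [map_mul, map_mul, map_mul, map_inv, map_inv]
        refine mul_mem ?_ (inv_mem hy)
        obtain ⟨a', ha'⟩ := hy
        rw [← ha', hφ a']
        have hbs : Commute hb s := hπs hD
        have e : hb * ((a' : Hb zA) * (s * a' * s⁻¹)) * hb⁻¹ =
            hb * a' * hb⁻¹ * (s * (hb * a' * hb⁻¹) * s⁻¹) := by
          calc hb * ((a' : Hb zA) * (s * a' * s⁻¹)) * hb⁻¹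
              = hb * a' * hb⁻¹ * ((hb * s) * a' * (hb * s)⁻¹) := by group
            _ = _ := by rw [hbs.eq]; group
        rw [e]
        have hm := conj_mem_cj hb a'.2
        rcases hcase with h1 | h1 <;> rw [h1] at hm
        · exact ⟨⟨_, hm⟩, hφ _⟩
        · rw [mem_cj] at hm
          refine ⟨⟨_, hm⟩, ?_⟩
          rw [hφ]
          show s⁻¹ * (hb * a' * hb⁻¹) * s * (s * (s⁻¹ * (hb * a' * hb⁻¹) * s) * s⁻¹) = _
          generalize hb * (a' : Hb zA) * hb⁻¹ = w at hm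
          have hc : Commute (s⁻¹ * w * s) (s * (s⁻¹ * w * s) * s⁻¹) :=
            p.cA.commute_of_ne hsE hm (conj_mem_cj s hm)
          rw [hc.eq, show s * (s⁻¹ * w * s) * s⁻¹ = w by group, p.sigma_inv]
      · exfalso
        obtain ⟨hc1, hc2⟩ := not_or.1 hcase
        have hbs : Commute hb s := hπs hD
        have hc3 : cj (s * hb) E ≠ E := fun h => hc2 (by
          apply cj_injective s
          rw [cj_cj, cj_cj, p.sigma_mul_self, cj_one, h])
        have hc4 : cj (s * hb) E ≠ cj s E := fun h => hc1 (by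
          rw [← cj_cj] at h
          exact cj_injective s h)
        have hcomm : ∀ a' a'' : ↥E, Commute (hb * φ a' * hb⁻¹) (φ a'') := by
          intro a' a''
          have e : hb * φ a' * hb⁻¹ =
              (hb * a' * hb⁻¹) * ((s * hb) * a' * (s * hb)⁻¹) := by
            rw [hφ, ← hbs.eq]; group
          have hh : ∀ k : Hb zA, cj k E ≠ E → cj k E ≠ cj s E → ∀ w ∈ cj k E,
              Commute w (φ a'') := fun k hk hk' w hw => by
            rw [hφ]
            exact Commute.mul_right (p.cA.commute_of_ne hk a''.2 hw).symm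
              (p.cA.commute_cj hk' hw (conj_mem_cj s a''.2))
          rw [e]
          exact (hh _ hc1 hc2 _ (conj_mem_cj hb a'.2)).mul_left
            (hh _ hc3 hc4 _ (conj_mem_cj (s * hb) a'.2))
        -- then the diagonal would be abelian
        have hab : ∀ a' a'' : ↥E, Commute (φ a') (φ a'') := by
          intro a' a''
          obtain ⟨y₁, hy₁⟩ := hlift a'
          obtain ⟨y₂, hy₂⟩ := hlift a''
          set m := hD * y₁ * hD⁻¹ * y₁⁻¹
          have hm : m ∈ K := hKconj y₁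
          have hmm : m * y₂ * m⁻¹ * y₂⁻¹ ∈ K := by
            have h1 := mul_mem hm ((inferInstance : K.Normal).conj_mem _ (inv_mem hm) y₂)
            simpa [mul_assoc] using h1
          have hπ : π (m * y₂ * m⁻¹ * y₂⁻¹) = (φ a')⁻¹ * φ a'' * φ a' * (φ a'')⁻¹ := by
            simp only [m, map_mul, map_inv, hy₁, hy₂, ← hhbdef, mul_inv_rev, inv_inv]
            have hc5 : Commute (hb * φ a' * hb⁻¹) ((φ a')⁻¹ * φ a'' * φ a') :=
              ((hcomm a' a').inv_right.mul_right (hcomm a' a'')).mul_right (hcomm a' a')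
            calc hb * φ a' * hb⁻¹ * (φ a')⁻¹ * φ a'' * (φ a' * (hb * ((φ a')⁻¹ * hb⁻¹))) * (φ a'')⁻¹
                = (hb * φ a' * hb⁻¹) * ((φ a')⁻¹ * φ a'' * φ a') * (hb * φ a' * hb⁻¹)⁻¹ *
                    (φ a'')⁻¹ := by group
              _ = _ := by rw [hc5.eq, mul_inv_cancel_right]
          have h1 := hsmall _ hmm (hπ ▸ mul_mem (mul_mem (mul_mem (inv_mem ⟨a', rfl⟩) ⟨a'', rfl⟩)
            ⟨a', rfl⟩) (inv_mem ⟨a'', rfl⟩))
          rw [hπ, mul_inv_eq_one] at h1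
          rw [mul_assoc, inv_mul_eq_iff_eq_mul] at h1
          exact h1.symm
        obtain ⟨f, hfE, hff⟩ := hU.exists_sq_eq
        rcases hU.eq_one_or_of_commute_mod hfE (fun g hg => by
            have h1 : φ (⟨f, hfE⟩ * ⟨g, hg⟩ * (⟨f, hfE⟩)⁻¹ * (⟨g, hg⟩)⁻¹) = 1 := by
              rw [map_mul, map_mul, map_mul, map_inv, map_inv, (hab _ _).eq, mul_inv_cancel_right,
                mul_inv_cancel]
            rw [← MonoidHom.mem_ker, hφker, ← QuotientGroup.eq_one_iff] at h1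
            exact (hU.mk_eq_one (mul_mem (mul_mem (mul_mem hfE hg) (inv_mem hfE)) (inv_mem hg))).1 h1) with e | e
        · rw [e, one_mul] at hff; exact p.cA.q_ne_one hff.symm
        · rw [e, p.cA.q_mul_self] at hff; exact p.cA.q_ne_one hff.symm
    -- so lifts of the diagonal send `F` to `F` or to its conjugate
    have htwo : ∀ y : ↥D, π y ∈ φ.range → cj (ρ y) F = F ∨ cj (ρ y) F = cj P F := by
      intro y hy
      by_contra hcon
      obtain ⟨hn1, hn2⟩ := not_or.1 hcon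
      have hc := hodd _ (hcentral y hy)
      have hρh : ρ hD = i * i' := hhq
      rw [map_mul, map_mul, map_mul, map_inv, map_inv, hρh] at hc
      set R := ρ y with hRdef
      set a₁ := R * i * R⁻¹ with ha₁
      have ha₁F : a₁ ∈ cj R F := conj_mem_cj R hbF
      set st := i * i' * (R * i' * R⁻¹)⁻¹ with hstdef
      have e : i * i' * R * (i * i')⁻¹ * R⁻¹ = st * a₁⁻¹ := by
        rw [hstdef, ha₁]; group
      rw [e] at hc
      have hstc : ∀ g ∈ cj R F, Commute st g := by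
        intro g hg
        refine ((?_ : Commute i g).mul_left ?_).mul_left (Commute.inv_left ?_)
        · exact p.cB.commute_of_ne hn1 hbF hg
        · exact p.cB.commute_cj (fun h => hn2 h.symm) hi'F hg
        · have hne : cj (R * P) F ≠ cj R F := fun h => hPF (cj_injective R (by rwa [cj_cj]))
          refine p.cB.commute_cj hne ?_ hg
          rw [← cj_cj]; exact conj_mem_cj R hi'F
      obtain ⟨N, hN⟩ := hc
      have h1 := pow_orderOf_eq_one (st * a₁⁻¹)
      rw [hN, ((hstc a₁ ha₁F).inv_right).mul_pow, inv_pow, mul_inv_eq_one] at h1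
      have hUR : IsUQ (cj R F) zb := p.cB.isUQ_cj R
      have ha₁z : a₁ * a₁ = zb := by
        rw [ha₁, show R * i * R⁻¹ * (R * i * R⁻¹) = R * (i * i) * R⁻¹ by group, hbb,
          p.cB.q_central R, mul_inv_cancel_right]
      have hcen : ∀ g ∈ cj R F, Commute (a₁ ^ (2 * N + 1)) g := fun g hg => by
        rw [← h1]; exact (hstc g hg).pow_left _
      rw [pow_succ, pow_mul, sq, ha₁z] at hcen
      have hcen' : ∀ g ∈ cj R F, a₁ * g = g * a₁ := fun g hg => by
        have hzN : Commute (zb ^ N) g := Commute.pow_left (p.cB.q_central g).symm N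
        have := (hzN.inv_left.mul_left (hcen g hg)).eq
        rwa [inv_mul_cancel_left] at this
      rcases hUR.center_cases ha₁F hcen' with e | e
      · rw [e, one_mul] at ha₁z; exact p.cB.q_ne_one ha₁z.symm
      · rw [e, p.cB.q_mul_self] at ha₁z; exact p.cB.q_ne_one ha₁z.symm
    -- permutations of two components commute
    have hperm : ∀ y : ↥D, π y ∈ φ.range → (cj (ρ y) F = F ∧ cj (ρ y) (cj P F) = cj P F) ∨
        (cj (ρ y) F = cj P F ∧ cj (ρ y) (cj P F) = F) := by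
      intro y hy
      have hyx : π (y * x) ∈ φ.range := by
        rw [map_mul]; exact mul_mem hy ⟨a, hx.symm⟩
      have h2 := htwo _ hyx
      rw [map_mul, ← cj_cj, ← hPdef] at h2
      have hinj : cj (ρ y) F ≠ cj (ρ y) (cj P F) := fun h => hPF (cj_injective _ h).symm
      rcases htwo y hy with h1 | h1
      · exact Or.inl ⟨h1, h2.resolve_left fun h => hinj (h1.trans h.symm)⟩
      · exact Or.inr ⟨h1, h2.resolve_right fun h => hinj (h1.trans h.symm)⟩
    let M'' := (U.map π).comap φ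
    have hcom : ∀ a₁ a₂ : ↥E, a₁ * a₂ * a₁⁻¹ * a₂⁻¹ ∈ M'' := by
      intro a₁ a₂
      obtain ⟨y₁, hy₁⟩ := hlift a₁
      obtain ⟨y₂, hy₂⟩ := hlift a₂
      refine ⟨y₁ * y₂ * y₁⁻¹ * y₂⁻¹, cj_eq_self.1 ?_, by simp [hy₁, hy₂]⟩
      have h1 := hperm y₁⁻¹ (by rw [map_inv]; exact inv_mem ⟨a₁, hy₁.symm⟩)
      have h2 := hperm y₂⁻¹ (by rw [map_inv]; exact inv_mem ⟨a₂, hy₂.symm⟩)
      have h3 := hperm y₁ ⟨a₁, hy₁.symm⟩
      have h4 := hperm y₂ ⟨a₂, hy₂.symm⟩
      have key : cj (ρ y₁⁻¹ * ρ y₂⁻¹) F = cj (ρ y₂⁻¹ * ρ y₁⁻¹) F := by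
        rw [← cj_cj, ← cj_cj]
        rcases h1 with ⟨u, v⟩ | ⟨u, v⟩ <;> rcases h2 with ⟨u', v'⟩ | ⟨u', v'⟩ <;>
          simp only [u, v, u', v']
      have hstep : cj (ρ y₁ * ρ y₂) (cj (ρ y₁⁻¹ * ρ y₂⁻¹) F) = F := by
        rw [key, cj_cj, map_inv, map_inv,
          show ρ y₁ * ρ y₂ * ((ρ y₂)⁻¹ * (ρ y₁)⁻¹) = 1 by group, cj_one]
      rw [cj_cj] at hstep
      rwa [map_mul, map_mul, map_mul, mul_assoc (ρ y₁ * ρ y₂)]
    have hM''top : M'' = ⊤ := by
      rw [eq_top_iff, ← hU.qs.1.commutator_eq_top, _root_.commutator_def, Subgroup.commutator_le]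
      exact fun a₁ _ a₂ _ => hcom a₁ a₂
    obtain ⟨u, hu, hua⟩ := hM''top ▸ mem_top a
    set n := u⁻¹ * x with hndef
    have hπn : π n = 1 := by rw [map_mul, map_inv, hua, hx, inv_mul_cancel]
    have hn2 : cj (ρ n * ρ n) F = F := by
      rw [← cj_cj]
      rcases hperm n (by rw [hπn]; exact one_mem _) with ⟨u1, -⟩ | ⟨u1, v1⟩
      · rw [u1, u1]
      · rw [u1, v1]
    obtain ⟨k, hk⟩ := exists_two_mul_zpow (hodd n hπn)
    have hnU : n ∈ U := by
      show ρ n ∈ normalizer (F : Set (Hb zB))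
      rw [← hk, zpow_mul, zpow_two]
      exact zpow_mem (cj_eq_self.1 hn2) k
    apply hxU
    have := mul_mem hu hnU
    rwa [hndef, mul_inv_cancel_left] at this
  -- a perfect group of lifts centralising `F`
  obtain ⟨X, hXle, hXperf, hXimg⟩ := exists_minimal_perfect π (U ⊓ φ.range.comap π) hLperf (by
    refine le_antisymm (map_le_iff_le_comap.2 inf_le_right) ?_
    rintro _ ⟨a, rfl⟩
    obtain ⟨x, hx, hxa⟩ := hall a
    exact ⟨x, ⟨hx, a, hxa.symm⟩, hxa⟩)
  have hXcomm : commutator ↥X = ⊤ := (CfsgLib.Base.normal_of_le_center le_rfl : (center ↥X).Normal) |>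
    fun _ => (Group.IsPerfect.commutator_eq_top (G := ↥X) (self := isPerfect_iff.2 hXperf))
  have hcent : ∀ a : ↥E, ∃ x : ↥D, π x = φ a ∧ ρ x ∈ centralizer (F : Set (Hb zB)) := by
    let Xc := X ⊓ (centralizer (F : Set (Hb zB))).comap ρ
    let M₀ := (Xc.map π).comap φ
    have hliftX : ∀ a : ↥E, ∃ x ∈ X, π x = φ a := fun a => by
      obtain ⟨x, hx, hxa⟩ : φ a ∈ X.map π := hXimg ▸ ⟨a, rfl⟩
      exact ⟨x, hx, hxa⟩
    haveI : M₀.Normal := ⟨fun n hn a => by
      obtain ⟨g, ⟨hgX, hgC⟩, hgn⟩ := hn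
      obtain ⟨l, hlX, hl⟩ := hliftX a
      refine ⟨l * g * l⁻¹, ⟨(mul_mem (mul_mem hlX (show g ∈ X from hgX)) (inv_mem hlX) : l * g * l⁻¹ ∈ X), ?_⟩, ?_⟩
      · show ρ (l * g * l⁻¹) ∈ centralizer (F : Set (Hb zB))
        have hlN : cj (ρ l) F = F := cj_eq_self.2 (hXle hlX).1
        rw [map_mul, map_mul, map_inv, mem_centralizer_iff]
        intro f hf
        have hf' : (ρ l)⁻¹ * f * ρ l ∈ F := mem_cj.1 (hlN.symm ▸ hf)
        have := mem_centralizer_iff.1 hgC _ hf'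
        calc f * (ρ l * ρ g * (ρ l)⁻¹) = ρ l * ((ρ l)⁻¹ * f * ρ l * ρ g) * (ρ l)⁻¹ := by group
          _ = _ := by rw [this]; group
      · rw [map_mul, map_mul, map_inv, hl, hgn, map_mul, map_mul, map_inv]⟩
    rcases quasisimple_normal_eq_top_or_le_center hU.qs M₀ with htop | hcen
    · intro a
      obtain ⟨g, ⟨-, hgC⟩, hga⟩ := htop ▸ mem_top a
      exact ⟨g, hga, hgC⟩
    exfalso
    have hsub : ∀ x : ↥X, (π.comp X.subtype) x ∈ φ.range := fun x =>
      hXimg ▸ ⟨x, x.2, rfl⟩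
    let g : ↥X →* ↥φ.range := (π.comp X.subtype).codRestrict φ.range hsub
    have hsurj : Function.Surjective g := by
      rintro ⟨_, a, rfl⟩
      obtain ⟨x, hx, hxa⟩ := hliftX a
      exact ⟨⟨x, hx⟩, Subtype.ext hxa⟩
    have hlt := hUB.small_image p.cB.isComponent hSF hSb hXcomm (ρ.comp X.subtype)
      (fun x => (hXle x.2).1) (fun x => hρS x) g hsurj (fun x hx => by
        obtain ⟨a', ha'⟩ := hsub x
        have h1 : a' ∈ φ.ker := hφker ▸ hcen (show a' ∈ M₀ from ⟨x, ⟨x.2, hx⟩, ha'.symm⟩)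
        refine Subtype.ext ?_
        show (π.comp X.subtype) x = 1
        rw [← ha']; exact h1)
    rw [← Nat.card_congr (QuotientGroup.quotientKerEquivRange φ).toEquiv, hφker, hcard] at hlt
    exact lt_irrefl _ hlt
  -- the involution `w`
  obtain ⟨a, haE, haa⟩ := hU.exists_sq_eq
  obtain ⟨x₀, hx₀π, hx₀ρ⟩ := hcent ⟨a, haE⟩
  set l := φ ⟨a, haE⟩ with hldef
  have hll : l * l = 1 := by
    rw [hldef, ← map_mul, ← MonoidHom.mem_ker, hφker, ← QuotientGroup.eq_one_iff]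
    exact (hU.mk_eq_one (mul_mem haE haE)).2 (Or.inr haa)
  have hl1 : l ≠ 1 := by
    intro h
    rw [hldef, ← MonoidHom.mem_ker, hφker, ← QuotientGroup.eq_one_iff] at h
    rcases (hU.mk_eq_one haE).1 h with h | h
    · rw [h, one_mul] at haa; exact p.cA.q_ne_one haa.symm
    · rw [h, p.cA.q_mul_self] at haa; exact p.cA.q_ne_one haa.symm
  have hx₀2 : Odd (orderOf ((x₀ : G) ^ 2)) :=
    odd_of_q_eq_one (pow_mem x₀.2.1 2) (by
      rw [q_pow x₀.2.1, sq, show q zA (x₀ : G) = l from hx₀π, hll])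
  obtain ⟨n, hn⟩ := hx₀2
  set xD := x₀ ^ (2 * n + 1) with hxDdef
  set x := (xD : G) with hxdef
  have hxx : x * x = 1 := by
    rw [hxdef, hxDdef, SubmonoidClass.coe_pow, ← pow_add, ← two_mul, pow_mul, ← hn,
      pow_orderOf_eq_one]
  have hxA : x ∈ centralizer ({zA} : Set G) := xD.2.1
  have hxB : x ∈ centralizer ({zB} : Set G) := xD.2.2
  have hxq : q zA x = l := by
    show π xD = l
    rw [map_pow, hx₀π, pow_succ, pow_mul, sq, hll, one_pow, one_mul]
  have hxC : q zB x ∈ centralizer (F : Set (Hb zB)) := by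
    show ρ xD ∈ centralizer (F : Set (Hb zB))
    rw [map_pow]; exact pow_mem hx₀ρ _
  have hx1 : x ≠ 1 := fun h => hl1 (by rw [← hxq, h, q_one])
  have hzAB' : Commute zA zB := mem_centralizer_singleton_iff.1 p.comm_symm
  have hxzA : Commute x zA := mem_centralizer_singleton_iff.1 hxA
  have hxzB : Commute x zB := mem_centralizer_singleton_iff.1 hxB
  set v := zA * zB with hvdef
  have hvA : v ∈ centralizer ({zA} : Set G) := mul_mem p.cA.mem_C p.comm
  have hvB : v ∈ centralizer ({zB} : Set G) := mul_mem p.comm_symm p.cB.mem_C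
  have hv2 : v * v = 1 := by
    rw [hvdef, hzAB'.symm.mul_mul_mul_comm, p.cA.mul_self, p.cB.mul_self, one_mul]
  have hxv : Commute x v := hxzA.mul_right hxzB
  have hxv2 : x * v * (x * v) = 1 := by rw [hxv.symm.mul_mul_mul_comm, hxx, hv2, one_mul]
  -- `ga` maps `zB` to `x v`
  obtain ⟨a', ha'A, ha'q⟩ := p.cA.exists_of_mem haE
  have hainv : a⁻¹ = a * z := inv_eq_of_mul_eq_one_right (by
    rw [← mul_assoc, haa, p.cA.q_mul_self])
  have hsz : s * z * s⁻¹ = z := by rw [p.cA.q_central s, mul_inv_cancel_right]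
  have hlval : l = a * (s * a * s⁻¹) := hφ _
  have hlzs : a * s * a⁻¹ = l * z * s := by
    rw [hainv, hlval]
    calc a * s * (a * z) = a * (s * a * s⁻¹) * (s * z * s⁻¹) * s := by group
      _ = a * (s * a * s⁻¹) * z * s := by rw [hsz]
  have hlzs' : a⁻¹ * s * a = l * z * s := by
    rw [hainv, hlval]
    calc a * z * s * a = a * z * (s * a * s⁻¹) * s := by group
      _ = a * (s * a * s⁻¹) * z * s := by
        rw [mul_assoc a z, ← p.cA.q_central (s * a * s⁻¹), ← mul_assoc a]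
  have hxvA : x * v ∈ centralizer ({zA} : Set G) := mul_mem hxA hvA
  have hxvq : q zA (x * v) = l * z * s := by
    rw [q_mul hxA hvA, hxq, q_mul p.cA.mem_C p.comm, ← mul_assoc]
  obtain ⟨g₀, hg₀A, hg₀q, hg₀⟩ := exists_conj_involution hxvA p.comm hxv2 p.cB.mul_self
    (p.cA.le ha'A) (by rw [ha'q, ← hsdef, hxvq, hlzs])
  set u₀ := g₀⁻¹ * zB * g₀ with hu₀def
  have hu₀A : u₀ ∈ centralizer ({zA} : Set G) := mul_mem (mul_mem (inv_mem hg₀A) p.comm) hg₀A
  have hu₀2 : u₀ * u₀ = 1 := by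
    calc u₀ * u₀ = g₀⁻¹ * (zB * zB) * g₀ := by rw [hu₀def]; group
      _ = 1 := by rw [p.cB.mul_self, mul_one, inv_mul_cancel]
  have hu₀zB : Commute u₀ zB := by
    have h1 : Commute (g₀ * zB * g₀⁻¹) zB := by
      rw [hg₀]; exact hxzB.mul_left (hzAB'.mul_left (Commute.refl zB))
    calc u₀ * zB = g₀⁻¹ * (zB * (g₀ * zB * g₀⁻¹)) * g₀ := by rw [hu₀def]; group
      _ = g₀⁻¹ * ((g₀ * zB * g₀⁻¹) * zB) * g₀ := by rw [h1.eq]
      _ = zB * u₀ := by rw [hu₀def]; group
  obtain ⟨o₃, ⟨j₃, rfl⟩, ho₃⟩ := exists_conj_of_odd hxv2 hu₀2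
    (odd_of_q_eq_one (mul_mem hxvA hu₀A) (by
      rw [q_mul hxvA hu₀A, hu₀def, q_mul (mul_mem (inv_mem hg₀A) p.comm) hg₀A,
        q_mul (inv_mem hg₀A) p.comm, q_inv hg₀A, hg₀q, ha'q, ← hsdef, hlzs', ← hxvq,
        ← q_mul hxvA hxvA, hxv2, q_one]))
  simp only at ho₃
  set o₃ := (x * v * u₀) ^ j₃ with ho₃def
  have ho₃A : o₃ ∈ centralizer ({zA} : Set G) := zpow_mem (mul_mem hxvA hu₀A) j₃
  have ho₃zB : Commute o₃ zB :=
    ((hxzB.mul_left (hzAB'.mul_left (Commute.refl zB))).mul_left hu₀zB).zpow_left j₃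
  set ga := g₀ * o₃⁻¹ with hgadef
  have hgaA : ga ∈ centralizer ({zA} : Set G) := mul_mem hg₀A (inv_mem ho₃A)
  have hga : ga * zB * ga⁻¹ = x * v := by
    calc ga * zB * ga⁻¹ = g₀ * (o₃⁻¹ * zB * o₃) * g₀⁻¹ := by rw [hgadef]; group
      _ = x * v := by rw [ho₃zB.inv_left.eq, inv_mul_cancel_right, hg₀]
  have hga' : ga⁻¹ * zB * ga = x * v := by
    rw [← ho₃, hu₀def, hgadef]; group
  -- `gb` maps `zA` to `v` and centralises `x`
  obtain ⟨b', hb'B, hb'q⟩ := p.cB.exists_of_mem hbF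
  have hb'x : q zB b' * q zB x = q zB x * q zB b' := by
    rw [hb'q]; exact mem_centralizer_iff.1 hxC b hbF
  obtain ⟨o₁, -, ho₁C, -, hb'x', ho₁q⟩ := exists_lift_commute hxB hxx (p.cB.le hb'B) hb'x
  set g₁ := o₁⁻¹ * b' with hg₁def
  have hg₁B : g₁ ∈ centralizer ({zB} : Set G) := mul_mem (inv_mem ho₁C) (p.cB.le hb'B)
  have hg₁q : q zB g₁ = b := ho₁q.trans hb'q
  set w₁ := g₁ * zA * g₁⁻¹ with hw₁def
  have hw₁B : w₁ ∈ centralizer ({zB} : Set G) := mul_mem (mul_mem hg₁B p.comm_symm) (inv_mem hg₁B)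
  have hw₁2 : w₁ * w₁ = 1 := by
    calc w₁ * w₁ = g₁ * (zA * zA) * g₁⁻¹ := by rw [hw₁def]; group
      _ = 1 := by rw [p.cA.mul_self, mul_one, mul_inv_cancel]
  have hbS : b * S * b⁻¹ = S * zb := by
    have : S * b * S⁻¹ * b⁻¹ = b * zb * b⁻¹ := by rw [hbneg]
    rw [p.cB.q_central b, mul_inv_cancel_right] at this
    calc b * S * b⁻¹ = S * (S⁻¹ * b * S * b⁻¹) := by group
      _ = S * zb := by
        have hSi : S⁻¹ = S := p.symm.sigma_inv
        rw [hSi] at this ⊢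
        rw [this]
  have hqv : q zB (v * w₁) = 1 := by
    rw [q_mul hvB hw₁B, q_conj hg₁B p.comm_symm, hg₁q, ← hSdef, hbS, q_mul p.comm_symm p.cB.mem_C,
      ← hSdef, ← hzbdef]
    calc S * zb * (S * zb) = S * (zb * S) * zb := by group
      _ = 1 := by rw [← p.cB.q_central S, ← mul_assoc, hS2, one_mul, p.cB.q_mul_self]
  obtain ⟨o₂, ⟨j, rfl⟩, ho₂⟩ :=
    exists_conj_of_odd hv2 hw₁2 (odd_of_q_eq_one (mul_mem hvB hw₁B) hqv)
  simp only at ho₂
  set gb := (v * w₁) ^ j * g₁ with hgbdef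
  have hgbB : gb ∈ centralizer ({zB} : Set G) :=
    mul_mem (zpow_mem (mul_mem hvB hw₁B) j) hg₁B
  have hgb : gb * zA * gb⁻¹ = v := by
    have e : gb * zA * gb⁻¹ = (v * w₁) ^ j * w₁ * ((v * w₁) ^ j)⁻¹ := by
      rw [hgbdef]
      generalize (v * w₁) ^ j = o
      rw [hw₁def]; group
    rw [e, ho₂]
  have hgbx : Commute gb x := by
    have h1 : Commute g₁ x := mem_centralizer_singleton_iff.1 hb'x'
    have h2 : Commute w₁ x := (h1.mul_left hxzA.symm).mul_left h1.inv_left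
    exact ((hxv.symm.mul_left h2).zpow_left j).mul_left h1
  have hgbzB : gb * zB * gb⁻¹ = zB := by
    rw [mem_centralizer_singleton_iff.1 hgbB, mul_inv_cancel_right]
  set g := gb * ga with hgdef
  have hgazA : ga * zA * ga⁻¹ = zA := by
    rw [mem_centralizer_singleton_iff.1 hgaA, mul_inv_cancel_right]
  set e := zA * x with hedef
  have hgzB : g * zB * g⁻¹ = e := by
    calc g * zB * g⁻¹ = gb * (ga * zB * ga⁻¹) * gb⁻¹ := by rw [hgdef]; group
      _ = gb * x * gb⁻¹ * ((gb * zA * gb⁻¹) * (gb * zB * gb⁻¹)) := by rw [hga, hvdef]; group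
      _ = x * (v * zB) := by rw [hgbx.eq, mul_inv_cancel_right, hgb, hgbzB]
      _ = e := by rw [hvdef, mul_assoc zA, p.cB.mul_self, mul_one, hedef, hxzA.eq]
  have heA : e ∈ centralizer ({zA} : Set G) := mul_mem p.cA.mem_C hxA
  have hne : zA ≠ e := fun h => hx1 (left_eq_mul.1 h)
  set M := cj g B with hMdef
  have cM : Intrinsic e M := hgzB ▸ p.cB.conj g
  have pM : Pair zA A e M := ⟨p.cA, cM, heA, hne⟩
  -- `t = g⁻¹ zA g`
  set t := g⁻¹ * zA * g with htdef
  have htu : t = x * zB := by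
    have h1 : gb⁻¹ * zA * gb = v := by
      calc gb⁻¹ * zA * gb = gb⁻¹ * (v * zB) * gb := by
            rw [hvdef, mul_assoc zA, p.cB.mul_self, mul_one]
        _ = gb⁻¹ * ((gb * zA * gb⁻¹) * (gb * zB * gb⁻¹)) * gb := by rw [hgb, hgbzB]
        _ = v := by rw [hvdef]; group
    calc t = ga⁻¹ * (gb⁻¹ * zA * gb) * ga := by rw [htdef, hgdef]; group
      _ = (ga⁻¹ * zA * ga) * (ga⁻¹ * zB * ga) := by rw [h1, hvdef]; group
      _ = zA * (x * v) := by
        rw [hga']
        congr 1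
        calc ga⁻¹ * zA * ga = ga⁻¹ * (ga * zA * ga⁻¹) * ga := by rw [hgazA]
          _ = zA := by group
      _ = x * zB := by
        rw [← mul_assoc, ← hxzA.eq, hvdef, mul_assoc x, ← mul_assoc zA, p.cA.mul_self, one_mul]
  have htB : t ∈ centralizer ({zB} : Set G) := htu ▸ mul_mem hxB p.cB.mem_C
  have ht2 : t * t = 1 := by
    rw [htu, hxzB.symm.mul_mul_mul_comm, hxx, p.cB.mul_self, one_mul]
  have htcent : ∀ f ∈ F, q zB t * f = f * q zB t := fun f hf => by
    rw [htu, q_mul hxB p.cB.mem_C]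
    exact ((show Commute (q zB x) f from (mem_centralizer_iff.1 hxC f hf).symm).mul_left
      (p.cB.q_central f).symm).eq
  have htN : t ∈ normalizer (B : Set G) := by
    refine p.cB.normalizes htB (cj_eq_self.2 (mem_normalizer_iff.2 fun k => ⟨fun hk => ?_, fun hk => ?_⟩))
    · rwa [htcent k hk, mul_inv_cancel_right]
    · have := htcent _ hk
      have e : q zB t * k * (q zB t)⁻¹ = k := by
        refine mul_left_cancel (a := q zB t) ?_
        rw [this]; group
      rwa [e] at hk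
  -- lifts in `B ∩ C(t)` which conjugate into `N(A)`
  let R : Subgroup G := B ⊓ centralizer ({t} : Set G) ⊓
    (normalizer (A : Set G)).comap (MulAut.conj g).toMonoidHom
  have hRA : ∀ r ∈ R, g * r * g⁻¹ ∈ centralizer ({zA} : Set G) := fun r hr => by
    rw [mem_centralizer_singleton_iff]
    have h1 : r * t = t * r := mem_centralizer_singleton_iff.1 hr.1.2
    calc g * r * g⁻¹ * zA = g * (r * t) * g⁻¹ := by rw [htdef]; group
      _ = zA * (g * r * g⁻¹) := by rw [h1, htdef]; group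
  let π₂ : ↥R →* Hb zB := MonoidHom.mk' (fun r : ↥R => q zB r)
    fun r r' => q_mul (p.cB.le r.2.1.1) (p.cB.le r'.2.1.1)
  let θ : ↥R →* Hb zA := MonoidHom.mk' (fun r : ↥R => q zA (g * r * g⁻¹)) fun r r' => by
    rw [← q_mul (hRA r r.2) (hRA r' r'.2), Subgroup.coe_mul]; group
  have hfour : ∀ f ∈ F, f * f = zb → ∃ r : ↥R, π₂ r = f := by
    intro f hf hff
    obtain ⟨c, hcB, hcq⟩ := p.cB.exists_of_mem hf
    obtain ⟨o, ⟨i, rfl⟩, hoC, -, hoc, hoq⟩ := exists_lift_commute htB ht2 (p.cB.le hcB)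
      (by rw [hcq]; exact (htcent f hf).symm)
    have hmem : c * t * c⁻¹ * t ∈ B := by
      have h1 := (mem_normalizer_iff.1 htN c⁻¹).1 (inv_mem hcB)
      rw [inv_eq_of_mul_eq_one_right ht2] at h1
      simpa [mul_assoc] using mul_mem hcB h1
    simp only at hoC hoc hoq
    set c₁ := ((c * t * c⁻¹ * t) ^ i)⁻¹ * c
    have hc₁B : c₁ ∈ B := mul_mem (inv_mem (zpow_mem hmem i)) hcB
    obtain ⟨n, hn, hnq⟩ := exists_two_power (p.cB.le hc₁B) (k := 2) (by
      rw [hoq, hcq, show (2 : ℕ) ^ 2 = 2 * 2 from rfl, pow_mul, sq, sq, hff, p.cB.q_mul_self])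
    set c₂ := c₁ ^ n
    have hc₂B : c₂ ∈ B := pow_mem hc₁B n
    have hc₂t : c₂ ∈ centralizer ({t} : Set G) := pow_mem hoc n
    have hc₂q : q zB c₂ = f := by rw [hnq, hoq, hcq]
    have hsq : g * c₂ * g⁻¹ * (g * c₂ * g⁻¹) ≠ 1 := by
      rw [show g * c₂ * g⁻¹ * (g * c₂ * g⁻¹) = g * (c₂ * c₂) * g⁻¹ by group, ne_eq, conj_eq_one_iff]
      intro h1
      apply p.cB.q_ne_one
      rw [← hzbdef, ← hff, ← hc₂q, ← q_mul (p.cB.le hc₂B) (p.cB.le hc₂B), h1, q_one]
    have h2 : ∃ k : ℕ, (g * c₂ * g⁻¹) ^ 2 ^ k = 1 :=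
      hn.imp fun k hk => by rw [conj_pow, hk, mul_one, mul_inv_cancel]
    have hcA : g * c₂ * g⁻¹ ∈ centralizer ({zA} : Set G) := by
      rw [mem_centralizer_singleton_iff]
      have h1 : c₂ * t = t * c₂ := mem_centralizer_singleton_iff.1 hc₂t
      calc g * c₂ * g⁻¹ * zA = g * (c₂ * t) * g⁻¹ := by rw [htdef]; group
        _ = zA * (g * c₂ * g⁻¹) := by rw [h1, htdef]; group
    exact ⟨⟨c₂, ⟨hc₂B, hc₂t⟩, pM.normalizes_of_four (conj_mem_cj g hc₂B) h2 hsq hcA⟩, hc₂q⟩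
  have himg : π₂.range = F := by
    refine le_antisymm ?_ ?_
    · rintro _ ⟨r, rfl⟩
      exact p.cB.q_mem r.2.1.1
    haveI : Fact (Nat.Prime 2) := ⟨Nat.prime_two⟩
    conv_lhs => rw [hFdef, ← pGenerated_component p.cB.isComponent p.cB.two_power_of_card]
    refine iSup_le fun ⟨Q, hQF, hQ⟩ => ?_
    obtain ⟨S', hS'⟩ := (hQ.of_equiv (subgroupOfEquivOfLe hQF).symm).exists_le_sylow
    intro f hf
    have hfP : f ∈ (S' : Subgroup ↥(img zB B)).map (img zB B).subtype :=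
      ⟨⟨f, hQF hf⟩, hS' hf, rfl⟩
    rcases hUB.four_generates (IsUQ.isSyl_of_sylow S') hfP with h | ⟨k, hk, hkk, hfk⟩
    · obtain ⟨r, hr⟩ := hfour f (hQF hf) h
      exact ⟨r, hr⟩
    · have hkF := map_subtype_le _ hk
      obtain ⟨r, hr⟩ := hfour k hkF hkk
      obtain ⟨r', hr'⟩ := hfour (f * k) (mul_mem (hQF hf) hkF) hfk
      exact ⟨r' * r⁻¹, by rw [map_mul, map_inv, hr, hr', mul_inv_cancel_right]⟩
  obtain ⟨Y, -, hYperf, hYimg⟩ := exists_minimal_perfect π₂ ⊤
    (T := F) (component_commutator_self p.cB.isComponent) (by rw [← MonoidHom.range_eq_map, himg])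
  have hYcomm : commutator ↥Y = ⊤ :=
    Group.IsPerfect.commutator_eq_top (G := ↥Y) (self := isPerfect_iff.2 hYperf)
  set w := q zA e with hwdef
  have hw : w = z * l := by rw [hwdef, hedef, q_mul p.cA.mem_C hxA, hxq]
  have hwact : ∀ f ∈ E, w * f * w⁻¹ = a * f * a⁻¹ := by
    intro f hf
    have h1 : Commute f (s * a * s⁻¹) := p.cA.commute_of_ne hsE hf (conj_mem_cj s haE)
    rw [hw, hlval]
    calc z * (a * (s * a * s⁻¹)) * f * (z * (a * (s * a * s⁻¹)))⁻¹
        = z * (a * ((s * a * s⁻¹) * f * (s * a * s⁻¹)⁻¹) * a⁻¹) * z⁻¹ := by group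
      _ = a * f * a⁻¹ := by
        rw [← h1.eq, mul_inv_cancel_right, ← p.cA.q_central, mul_inv_cancel_right]
  have hwE : cj w E = E := by
    refine cj_eq_self.2 (mem_normalizer_iff.2 fun f => ⟨fun hf => ?_, fun hf => ?_⟩)
    · rw [hwact f hf]; exact mul_mem (mul_mem haE hf) (inv_mem haE)
    · have hm : a⁻¹ * (w * f * w⁻¹) * a ∈ E := mul_mem (mul_mem (inv_mem haE) hf) haE
      have h2 := hwact _ hm
      have e2 : a⁻¹ * (w * f * w⁻¹) * a = f := by
        refine mul_left_cancel (a := w) (mul_right_cancel (b := w⁻¹) ?_)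
        rw [h2]; group
      rwa [e2] at hm
  have hwne : ∃ f ∈ E, w * f ≠ f * w := by
    by_contra hcon
    simp only [not_exists, not_and, not_not] at hcon
    rcases hU.center_cases haE (fun f hf => by
        have := hwact f hf
        rw [hcon f hf, mul_inv_cancel_right] at this
        exact (mul_inv_eq_iff_eq_mul.1 this.symm)) with h | h
    · rw [h, one_mul] at haa; exact p.cA.q_ne_one haa.symm
    · rw [h, p.cA.q_mul_self] at haa; exact p.cA.q_ne_one haa.symm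
  let Yc := Y ⊓ (centralizer (E : Set (Hb zA))).comap θ
  let M₁ := (Yc.map π₂).subgroupOf F
  have hliftY : ∀ f ∈ F, ∃ r ∈ Y, π₂ r = f := fun f hf => by
    obtain ⟨r, hr, hrf⟩ : f ∈ Y.map π₂ := hYimg ▸ hf
    exact ⟨r, hr, hrf⟩
  have hθN : ∀ r : ↥R, θ r ∈ normalizer (E : Set (Hb zA)) := fun r =>
    cj_eq_self.1 (p.cA.cj_img_of_normalizes (hRA r r.2) r.2.2)
  haveI : M₁.Normal := ⟨fun n hn k => by
    obtain ⟨c, ⟨hcY, hcC⟩, hcn⟩ := mem_subgroupOf.1 hn
    obtain ⟨r, hrY, hrk⟩ := hliftY k k.2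
    refine ⟨r * c * r⁻¹, ⟨(mul_mem (mul_mem hrY (show c ∈ Y from hcY)) (inv_mem hrY) : r * c * r⁻¹ ∈ Y), ?_⟩, ?_⟩
    · show θ (r * c * r⁻¹) ∈ centralizer (E : Set (Hb zA))
      rw [map_mul, map_mul, map_inv, mem_centralizer_iff]
      intro f hf
      have hf' : (θ r)⁻¹ * f * θ r ∈ E := mem_cj.1 ((cj_eq_self.2 (hθN r)).symm ▸ hf)
      have := mem_centralizer_iff.1 hcC _ hf'
      calc f * (θ r * θ c * (θ r)⁻¹) = θ r * ((θ r)⁻¹ * f * θ r * θ c) * (θ r)⁻¹ := by group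
        _ = _ := by rw [this]; group
    · rw [map_mul, map_mul, map_inv, hrk, hcn]; rfl⟩
  rcases quasisimple_normal_eq_top_or_le_center hUB.qs M₁ with htop | hcen
  · -- then `e` would centralise `E`
    obtain ⟨c, ⟨-, hcC⟩, hcq⟩ :=
      mem_subgroupOf.1 (htop ▸ mem_top (⟨zb, hUB.mem⟩ : ↥F))
    change q zB (c : G) = zb at hcq
    have hcB : (c : G) ∈ B := c.2.1.1
    obtain ⟨n, hn, hnq⟩ := exists_two_power (p.cB.le hcB) (k := 1) (by
      rw [hcq, pow_one, sq, p.cB.q_mul_self])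
    rw [hcq] at hnq
    have hd : (c : G) ^ n = zB := by
      refine (p.cB.eq_of_sq (pow_mem hcB n) ?_).resolve_left fun h => p.cB.q_ne_one ?_
      · obtain ⟨k, hk⟩ := hn
        refine eq_one_of_odd_of_pow (k := k) (odd_of_q_eq_one
          (mul_mem (pow_mem (p.cB.le hcB) n) (pow_mem (p.cB.le hcB) n)) ?_) ?_
        · rw [q_mul (pow_mem (p.cB.le hcB) n) (pow_mem (p.cB.le hcB) n), hnq, p.cB.q_mul_self]
        · rw [(Commute.refl _).mul_pow, hk, one_mul]
      · rw [← hzbdef, ← hnq, h, q_one]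
    have hθc : θ (c ^ n) = w := by
      show q zA (g * ((c ^ n : ↥R) : G) * g⁻¹) = w
      rw [SubmonoidClass.coe_pow, hd, hgzB]
    have hmem : θ (c ^ n) ∈ centralizer (E : Set (Hb zA)) := by
      rw [map_pow]; exact pow_mem (show θ c ∈ centralizer (E : Set (Hb zA)) from hcC) n
    rw [hθc] at hmem
    obtain ⟨f, hf, hne'⟩ := hwne
    exact hne' (mem_centralizer_iff.1 hmem f hf).symm
  · have hsubF : ∀ r : ↥Y, (π₂.comp Y.subtype) r ∈ F := fun r => hYimg ▸ ⟨r, r.2, rfl⟩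
    let g' : ↥Y →* ↥F ⧸ center ↥F :=
      (QuotientGroup.mk' (center ↥F)).comp ((π₂.comp Y.subtype).codRestrict F hsubF)
    have hsurj : Function.Surjective g' := by
      intro k
      obtain ⟨⟨f, hf⟩, rfl⟩ := QuotientGroup.mk'_surjective _ k
      obtain ⟨r, hr, hrf⟩ := hliftY f hf
      exact ⟨⟨r, hr⟩, congrArg (QuotientGroup.mk' (center ↥F)) (Subtype.ext hrf)⟩
    have hlt := hU.small_image p.cA.isComponent hwE hwne hYcomm (θ.comp Y.subtype)
      (fun r => hθN r) (fun r => by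
        show q zA (g * (r : ↥R) * g⁻¹) * w = w * q zA (g * (r : ↥R) * g⁻¹)
        refine q_commute (hRA _ (r : ↥R).2) heA ?_
        have h1 := p.cB.commute (r : ↥R).2.1.1
        rw [← hgzB]
        calc g * ((r : ↥R) : G) * g⁻¹ * (g * zB * g⁻¹) = g * (((r : ↥R) : G) * zB) * g⁻¹ := by group
          _ = _ := by rw [h1]; group) g' hsurj
      (fun r hr => (QuotientGroup.eq_one_iff _).2 (hcen ⟨r, ⟨r.2, hr⟩, rfl⟩))
    rw [hcard] at hlt
    exact lt_irrefl _ hlt

end Pair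

end CfsgLib.SLPair
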