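import Cfsg.Agent.Lib.Components.Basic
import Cfsg.Agent.Lib.Components.SLPair.Odd
import Cfsg.Agent.Lib.Involutions.ZStar.BrauerSuzuki
import Cfsg.Agent.Lib.Involutions.OutSolvable
import Cfsg.Agent.Lib.Involutions.AutMaximalClassTwo
import Cfsg.Agent.Lib.PGroups.UniqueOrderP
import Cfsg.Agent.Lib.FT.OddOrderTheorem
import Cfsg.Agent.Lib.Recog.OrderSixty
import Cfsg.Agent.Lib.Base.Cores
import Cfsg.Agent.Lib.Small.Basic

/-!
# Quasisimple groups with a unique involution
-/

set_option autoImplicit false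
set_option linter.style.haveILetI false
set_option linter.unusedSectionVars false

namespace CfsgLib.SLPair

open Cfsg Subgroup

universe u

variable {X : Type u} [Group X] [Finite X]

/-- A quasisimple subgroup with a unique involution and trivial odd core. -/
structure IsUQ (E : Subgroup X) (z : X) : Prop where
  qs : IsQuasisimple ↥E
  mem : z ∈ E
  ord : orderOf z = 2
  uniq : ∀ t ∈ E, orderOf t = 2 → t = z
  core : oddCore ↥E = ⊥

namespace IsUQ

variable {E : Subgroup X} {z : X} (h : IsUQ E z)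
include h

theorem ne_one : z ≠ 1 := fun hz => by
  have := h.ord
  rw [hz, orderOf_one] at this
  omega

theorem mul_self : z * z = 1 := by
  rw [← sq, ← h.ord, pow_orderOf_eq_one]

theorem inv_eq : z⁻¹ = z := inv_eq_of_mul_eq_one_right h.mul_self

theorem eq_of_sq {e : X} (he : e ∈ E) (h2 : e * e = 1) : e = 1 ∨ e = z := by
  by_cases h1 : e = 1
  · exact Or.inl h1
  · exact Or.inr (h.uniq e he (orderOf_eq_prime (p := 2) (by rw [sq, h2]) h1))

theorem central {e : X} (he : e ∈ E) : e * z = z * e := by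
  have h2 : (e * z * e⁻¹) * (e * z * e⁻¹) = 1 := by
    calc (e * z * e⁻¹) * (e * z * e⁻¹) = e * (z * z) * e⁻¹ := by group
      _ = 1 := by rw [h.mul_self, mul_one, mul_inv_cancel]
  rcases h.eq_of_sq (mul_mem (mul_mem he h.mem) (inv_mem he)) h2 with h1 | h1
  · rw [conj_eq_one_iff] at h1
    exact absurd h1 h.ne_one
  · exact mul_inv_eq_iff_eq_mul.1 h1

theorem mul_self_of_four {e : X} (he : e ∈ E) (h4 : e ^ 4 = 1) (h2 : e * e ≠ 1) : e * e = z :=
  (h.eq_of_sq (mul_mem he he) (by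
    rw [← h4]; simp [pow_succ, mul_assoc])).resolve_left h2

theorem two_dvd_card : 2 ∣ Nat.card E := h.ord ▸ orderOf_dvd_natCard E h.mem

/-- A subgroup of `E` of odd index which is a `2`-group. -/
structure IsSyl (E P : Subgroup X) : Prop where
  le : P ≤ E
  isP : IsPGroup 2 P
  odd : Odd (P.relIndex E)

omit h in
theorem isSyl_of_sylow (S : Sylow 2 ↥E) : IsSyl E ((S : Subgroup ↥E).map E.subtype) where
  le := map_subtype_le _
  isP := S.isPGroup'.map _
  odd := by
    rw [relIndex, subgroupOf, comap_map_eq_self_of_injective E.subtype_injective]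
    haveI : Fact (Nat.Prime 2) := ⟨Nat.prime_two⟩
    exact Nat.not_even_iff_odd.1 fun he => S.not_dvd_index he.two_dvd

theorem exists_quaternion {P : Subgroup X} (hP : IsSyl E P) :
    ∃ n : ℕ, 1 ≤ n ∧ Nonempty (↥P ≃* QuaternionGroup (2 ^ n)) ∧
      ∃ S : Sylow 2 ↥E, (S : Subgroup ↥E) = P.subgroupOf E := by
  haveI : Fact (Nat.Prime 2) := ⟨Nat.prime_two⟩
  have hp' : IsPGroup 2 (P.subgroupOf E) :=
    hP.isP.of_equiv (subgroupOfEquivOfLe hP.le).symm
  let S : Sylow 2 ↥E := hp'.toSylow (fun hd => by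
    rcases hP.odd with ⟨m, hm⟩
    rw [show (P.subgroupOf E).index = P.relIndex E from rfl, hm] at hd
    omega)
  have hS : (S : Subgroup ↥E) = P.subgroupOf E := rfl
  let eS : ↥(S : Subgroup ↥E) ≃* ↥P := subgroupOfEquivOfLe hP.le
  have hSne : (S : Subgroup ↥E) ≠ ⊥ := S.ne_bot_of_dvd_card h.two_dvd_card
  haveI : Nontrivial ↥(S : Subgroup ↥E) := (nontrivial_iff_ne_bot _).2 hSne
  obtain ⟨k, hk, hkc⟩ := S.isPGroup'.nontrivial_iff_card.1 inferInstance
  obtain ⟨w, hw⟩ := exists_prime_orderOf_dvd_card' (G := ↥(S : Subgroup ↥E)) 2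
    (by rw [hkc]; exact dvd_pow_self 2 (by omega))
  have hwz : ((w : ↥E) : X) = z := h.uniq _ (w : ↥E).2 (by rwa [orderOf_coe, orderOf_coe])
  have huniq : ∀ y : ↥(S : Subgroup ↥E), y ^ 2 = 1 → y ∈ zpowers w := fun y hy => by
    rcases h.eq_of_sq (y : ↥E).2 (by
      rw [← sq]; exact congrArg (fun t : ↥(S : Subgroup ↥E) => ((t : ↥E) : X)) hy) with h1 | h1
    · rw [show y = 1 from Subtype.ext (Subtype.ext h1)]; exact one_mem _
    · rw [show y = w from Subtype.ext (Subtype.ext (h1.trans hwz.symm))]; exact mem_zpowers w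
  rcases CfsgLib.PGroups.isCyclic_or_quaternion_of_unique S.isPGroup'
    (orderOf_dvd_iff_pow_eq_one.1 (dvd_of_eq hw)) huniq with hcyc | ⟨-, n, hn, ⟨e⟩⟩
  · exfalso
    have hmin : (Nat.card ↥E).minFac = 2 := (Nat.minFac_eq_two_iff _).2 h.two_dvd_card
    have hc := IsCyclic.isComplement' hmin (P := S) hcyc
    obtain ⟨f, hf⟩ : ∃ f : ↥E →* ↥(S : Subgroup ↥E), f.ker.IsComplement' S := ⟨_, hc⟩
    have htop : f.ker = ⊤ := by
      rw [eq_top_iff, ← h.qs.1.commutator_eq_top, _root_.commutator_def, Subgroup.commutator_le]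
      intro a _ b _
      rw [MonoidHom.mem_ker, map_commutatorElement, commutatorElement_eq_one_iff_mul_comm]
      haveI := hcyc
      haveI : IsMulCommutative ↥(S : Subgroup ↥E) := inferInstance
      exact mul_comm' _ _
    rw [htop, isComplement'_top_left] at hf
    exact hSne hf
  · exact ⟨n, hn, ⟨eS.symm.trans e⟩, S, hS⟩

theorem center_cases {e : X} (he : e ∈ E) (hc : ∀ f ∈ E, e * f = f * e) : e = 1 ∨ e = z := by
  obtain ⟨S₀⟩ : Nonempty (Sylow 2 ↥E) := inferInstance
  obtain ⟨n, hn, ⟨φ⟩, S, hS⟩ := h.exists_quaternion (isSyl_of_sylow S₀)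
  obtain ⟨m, rfl⟩ : ∃ m, n = m + 1 := ⟨n - 1, by omega⟩
  have hc2 : Nat.card (center ↥E) = 2 :=
    CfsgLib.Involutions.ZStar.card_center_eq_two S m
      (((MulEquiv.subgroupCongr hS).trans (subgroupOfEquivOfLe (map_subtype_le _))).trans φ) h.core
  have hz : (⟨z, h.mem⟩ : ↥E) ∈ center ↥E :=
    mem_center_iff.2 fun g => Subtype.ext (h.central g.2)
  have hee : (⟨e, he⟩ : ↥E) ∈ center ↥E :=
    mem_center_iff.2 fun g => Subtype.ext (hc g g.2).symm
  have hp : (⟨e, he⟩ : ↥E) ^ 2 = 1 := by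
    rw [← hc2]
    exact congrArg Subtype.val (pow_card_eq_one' (x := (⟨_, hee⟩ : center ↥E)))
  exact h.eq_of_sq he (by rw [← sq]; exact congrArg Subtype.val hp)

/-- An element of `P` has square `z`, or becomes one after multiplication by such an element. -/
theorem four_generates {P : Subgroup X} (hP : IsSyl E P) {g : X} (hg : g ∈ P) :
    g * g = z ∨ ∃ x ∈ P, x * x = z ∧ (g * x) * (g * x) = z := by
  obtain ⟨n, hn, ⟨φ⟩, -⟩ := h.exists_quaternion hP
  haveI : NeZero (2 ^ n) := ⟨by positivity⟩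
  have hz : ∀ i, ((φ.symm (.xa i) : ↥P) : X) * (φ.symm (.xa i) : ↥P) = z := fun i => by
    refine h.mul_self_of_four (hP.le (Subtype.coe_prop _)) ?_ ?_
    · rw [← SubmonoidClass.coe_pow, ← map_pow, QuaternionGroup.xa_pow_four, map_one,
        OneMemClass.coe_one]
    · intro h1
      have h4 := QuaternionGroup.orderOf_xa (n := 2 ^ n) i
      rw [← MulEquiv.orderOf_eq φ.symm, ← orderOf_coe] at h4
      have := Nat.le_of_dvd two_pos (orderOf_dvd_of_pow_eq_one (n := 2)
        (x := ((φ.symm (.xa i) : ↥P) : X)) (by rw [sq, h1]))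
      omega
  rcases hi : φ ⟨g, hg⟩ with i | i
  · refine Or.inr ⟨_, Subtype.coe_prop (φ.symm (.xa 0)), hz 0, ?_⟩
    have := hz (0 - i)
    rwa [← QuaternionGroup.a_mul_xa, map_mul, ← hi, φ.symm_apply_apply, Subgroup.coe_mul] at this
  · refine Or.inl ?_
    have := hz i
    rwa [← hi, φ.symm_apply_apply] at this

/-- An involutory operator acting non-trivially on `P` negates an element of order four. -/
theorem exists_negated {P : Subgroup X} (hP : IsSyl E P) {s : X} (hs : s * s = 1)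
    (hn : ∀ g ∈ P, s * g * s⁻¹ ∈ P) {g₀ : X} (hg₀ : g₀ ∈ P)
    (hne : s * g₀ ≠ g₀ * s) : ∃ b ∈ P, b * b = z ∧ s * b * s⁻¹ = b * z := by
  have hsi : s⁻¹ = s := inv_eq_of_mul_eq_one_right hs
  obtain ⟨b₀, hb₀, hbz, hb⟩ : ∃ b ∈ P, b * b = z ∧ s * b ≠ b * s := by
    by_contra hcon
    simp only [not_exists, not_and, not_not] at hcon
    rcases h.four_generates hP hg₀ with h1 | ⟨x, hx, h1, h2⟩
    · exact hne (hcon _ hg₀ h1)
    · have e1 : Commute s (g₀ * x) := hcon _ (mul_mem hg₀ hx) h2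
      have e2 := e1.mul_right (Commute.inv_right (hcon x hx h1))
      rw [mul_inv_cancel_right] at e2
      exact hne e2.eq
  set c := b₀⁻¹ * (s * b₀ * s⁻¹) with hc
  have hcP : c ∈ P := mul_mem (inv_mem hb₀) (hn _ hb₀)
  have hc1 : c ≠ 1 := fun h1 => hb (mul_inv_eq_iff_eq_mul.1 (inv_mul_eq_one.1 h1).symm)
  have hcc : s * c * s⁻¹ = c⁻¹ := by
    rw [hc, hsi]
    calc s * (b₀⁻¹ * (s * b₀ * s)) * s = (s * b₀⁻¹ * s) * b₀ * (s * s) := by group
      _ = (s * b₀⁻¹ * s) * b₀ := by rw [hs, mul_one]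
      _ = (b₀⁻¹ * (s * b₀ * s))⁻¹ := by
        rw [mul_inv_rev, mul_inv_rev, mul_inv_rev, inv_inv, hsi]; group
  by_cases hcz : c = z
  · exact ⟨b₀, hb₀, hbz, by rw [hc, inv_mul_eq_iff_eq_mul] at hcz; exact hcz⟩
  obtain ⟨k, hk⟩ := hP.isP ⟨c, hcP⟩
  have hk' : c ^ 2 ^ k = 1 := congrArg Subtype.val hk
  obtain ⟨j, -, hj⟩ := (Nat.dvd_prime_pow Nat.prime_two).1 (orderOf_dvd_of_pow_eq_one hk')
  have hj2 : 2 ≤ j := by
    by_contra hlt
    have hd : orderOf c ∣ 2 := by
      rw [hj]; interval_cases j <;> decide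
    rcases h.eq_of_sq (hP.le hcP) (by rw [← sq]; exact orderOf_dvd_iff_pow_eq_one.1 hd) with h1 | h1
    · exact hc1 h1
    · exact hcz h1
  obtain ⟨i, rfl⟩ : ∃ i, j = i + 2 := ⟨j - 2, by omega⟩
  set b := c ^ 2 ^ i with hbdef
  have hord : orderOf b = 4 := by
    rw [hbdef, orderOf_pow_of_dvd (by positivity)]
    · rw [hj, pow_add, Nat.mul_div_cancel_left _ (by positivity)]; norm_num
    · rw [hj, pow_add]; exact Dvd.intro _ rfl
  have hbb : b * b = z := h.mul_self_of_four (hP.le (pow_mem hcP _))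
    (by rw [← hord, pow_orderOf_eq_one]) fun h1 => by
      have := Nat.le_of_dvd two_pos (orderOf_dvd_of_pow_eq_one (n := 2) (x := b) (by rw [sq, h1]))
      omega
  refine ⟨b, pow_mem hcP _, hbb, ?_⟩
  rw [hbdef, ← conj_pow, hcc, inv_pow, ← hbdef]
  refine inv_eq_of_mul_eq_one_right ?_
  rw [← mul_assoc, hbb, h.mul_self]

/-- The quotient by the centre is simple and non-abelian. -/
theorem simple_quotient : IsSimpleGroup (↥E ⧸ center ↥E) ∧ ¬ IsMulCommutative (↥E ⧸ center ↥E) := by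
  refine ⟨h.qs.2, fun hc => ?_⟩
  apply CfsgLib.Components.quasisimple_center_ne_top h.qs
  rw [eq_top_iff, ← h.qs.1.commutator_eq_top, _root_.commutator_def, Subgroup.commutator_le]
  intro a _ b _
  rw [← QuotientGroup.eq_one_iff, ← QuotientGroup.mk'_apply, map_commutatorElement,
    commutatorElement_eq_one_iff_mul_comm]
  exact hc.is_comm.comm _ _

theorem mk_eq_one {e : X} (he : e ∈ E) :
    ((⟨e, he⟩ : ↥E) : ↥E ⧸ center ↥E) = 1 ↔ (e = 1 ∨ e = z) := by
  rw [QuotientGroup.eq_one_iff]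
  refine ⟨fun hc => h.center_cases he fun f hf =>
    (congrArg Subtype.val (mem_center_iff.1 hc ⟨f, hf⟩)).symm, fun hc =>
    mem_center_iff.2 fun g => Subtype.ext ?_⟩
  rcases hc with rfl | rfl
  · simp
  · exact h.central g.2

/-- An element of order four has a conjugate inverting it (Glauberman). -/
theorem exists_anticommute {y : X} (hy : y ∈ E) (hyz : y * y = z) :
    ∃ x ∈ E, (x * y * x⁻¹) * y = z * (y * (x * y * x⁻¹)) := by
  haveI := h.simple_quotient.1
  set π := QuotientGroup.mk' (center ↥E)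
  set yb : ↥E ⧸ center ↥E := π ⟨y, hy⟩ with hyb
  have hy1 : yb ≠ 1 := fun h1 => by
    rcases (h.mk_eq_one hy).1 h1 with rfl | rfl
    · exact h.ne_one (by rw [← hyz, one_mul])
    · exact h.ne_one (hyz.symm.trans h.mul_self)
  have hy2 : orderOf yb = 2 := orderOf_eq_prime (p := 2) (by
    rw [sq, hyb, ← map_mul]
    exact (h.mk_eq_one (mul_mem hy hy)).2 (Or.inr hyz)) hy1
  have hnot : ¬ IsIsolatedInvolution yb := by
    intro hi
    have hO : oddCore (↥E ⧸ center ↥E) = ⊥ := by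
      refine (IsSimpleGroup.eq_bot_or_eq_top_of_normal _ (pPrimeCore_normal 2 _)).resolve_right
        fun ht => ?_
      have hodd := CfsgLib.Base.oddCore_eq_top_iff.1 ht
      have := hodd.of_dvd_nat (orderOf_dvd_natCard yb)
      rw [hy2] at this
      exact absurd this (by decide)
    have hc := CfsgLib.Involutions.ZStar.mem_center_of_oddCore_eq_bot hi hO
    rw [CfsgLib.Small.center_eq_bot h.simple_quotient.2, mem_bot] at hc
    exact hy1 hc
  rw [IsIsolatedInvolution, not_and] at hnot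
  have hx := hnot hy2
  simp only [not_forall] at hx
  obtain ⟨xb, hcomm, hne⟩ := hx
  obtain ⟨⟨x, hx⟩, rfl⟩ := QuotientGroup.mk'_surjective (center ↥E) xb
  refine ⟨x, hx, ?_⟩
  have hk : x * y * x⁻¹ ∈ E := mul_mem (mul_mem hx hy) (inv_mem hx)
  have hkk : (x * y * x⁻¹) * (x * y * x⁻¹) = z := by
    calc (x * y * x⁻¹) * (x * y * x⁻¹) = x * (y * y) * x⁻¹ := by group
      _ = z := by rw [hyz, h.central hx, mul_inv_cancel_right]
  have hmk : π ⟨x * y * x⁻¹, hk⟩ = π ⟨x, hx⟩ * yb * (π ⟨x, hx⟩)⁻¹ := by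
    rw [hyb, ← map_inv, ← map_mul, ← map_mul]; rfl
  generalize x * y * x⁻¹ = k at hk hkk hmk ⊢
  have hkym : k * y * (y * k)⁻¹ ∈ E := mul_mem (mul_mem hk hy) (inv_mem (mul_mem hy hk))
  rcases (h.mk_eq_one hkym).1 (by
    show π (⟨k, hk⟩ * ⟨y, hy⟩ * (⟨y, hy⟩ * ⟨k, hk⟩)⁻¹) = 1
    rw [map_mul, map_inv, map_mul, map_mul, mul_inv_eq_one, hmk]
    exact hcomm.eq.symm) with h1 | h1
  · exfalso
    apply hne
    have h1' : Commute k y := mul_inv_eq_one.1 h1
    have h2 : (k * y⁻¹) * (k * y⁻¹) = 1 := by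
      calc k * y⁻¹ * (k * y⁻¹) = k * (y⁻¹ * k) * y⁻¹ := by group
        _ = (k * k) * (y * y)⁻¹ := by rw [(h1'.inv_right).eq.symm]; group
        _ = 1 := by rw [hkk, hyz, mul_inv_cancel]
    have h3 := (h.mk_eq_one (mul_mem hk (inv_mem hy))).2
      (h.eq_of_sq (mul_mem hk (inv_mem hy)) h2)
    rw [← hmk]
    refine mul_inv_eq_one.1 ?_
    rw [hyb, ← map_inv, ← map_mul]
    exact h3
  · exact mul_inv_eq_iff_eq_mul.1 h1

/-- Either the centraliser of `y` has `⟨y⟩` as Sylow 2-subgroup, or `y` is a square in it. -/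
theorem odd_power_or_sqrt {y : X} (hy : y ∈ E) (hyz : y * y = z) :
    (∃ N : ℕ, Odd N ∧ ∀ a ∈ E, a * y = y * a → a ^ N ∈ zpowers y) ∨
      ∃ a ∈ E, a * a = y ∧ a * y = y * a := by
  haveI : Fact (Nat.Prime 2) := ⟨Nat.prime_two⟩
  set C := E ⊓ centralizer ({y} : Set X) with hC
  have hyC : y ∈ C := ⟨hy, mem_centralizer_singleton_iff.2 rfl⟩
  set Y := zpowers (⟨y, hyC⟩ : ↥C)
  have hcen : ∀ a : ↥C, (a : X) * y = y * a := fun a => mem_centralizer_singleton_iff.1 a.2.2
  haveI : Y.Normal := CfsgLib.Base.normal_of_le_center (zpowers_le.2 (mem_center_iff.2 fun a =>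
    Subtype.ext (hcen a)))
  by_cases hev : 2 ∣ Nat.card (↥C ⧸ Y)
  swap
  · refine Or.inl ⟨Nat.card (↥C ⧸ Y), Nat.not_even_iff_odd.1 fun he => hev he.two_dvd,
      fun a ha hay => ?_⟩
    have hm : (⟨a, ha, mem_centralizer_singleton_iff.2 hay⟩ : ↥C) ^ Nat.card (↥C ⧸ Y) ∈ Y := by
      rw [← QuotientGroup.eq_one_iff, QuotientGroup.mk_pow, pow_card_eq_one']
    obtain ⟨i, hi⟩ := hm
    exact ⟨i, congrArg Subtype.val hi⟩
  obtain ⟨ab, hab⟩ := exists_prime_orderOf_dvd_card' 2 hev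
  obtain ⟨a, rfl⟩ := QuotientGroup.mk'_surjective Y ab
  rw [orderOf_eq_prime_iff, ← map_pow, QuotientGroup.mk'_apply, QuotientGroup.eq_one_iff,
    QuotientGroup.mk'_apply, ne_eq, QuotientGroup.eq_one_iff] at hab
  obtain ⟨⟨i, hi⟩, hna⟩ := hab
  have hi' : y ^ i = (a : X) * a := by
    rw [← sq]; exact congrArg Subtype.val hi
  have hY : ∀ j : ℤ, (a : X) ≠ y ^ j := fun j hj => hna ⟨j, Subtype.ext hj.symm⟩
  have hyC' : Commute (a : X) y := hcen a
  refine Or.inr ?_
  rcases Int.even_or_odd i with ⟨j, rfl⟩ | ⟨j, rfl⟩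
  · exfalso
    have h2 : ((a : X) * y ^ (-j)) * ((a : X) * y ^ (-j)) = 1 := by
      rw [mul_assoc, ← mul_assoc (y ^ (-j)), ((hyC'.zpow_right (-j)).symm).eq, ← mul_assoc,
        ← mul_assoc, ← hi', mul_assoc, ← zpow_add, ← zpow_add]
      simp
    rcases h.eq_of_sq (mul_mem a.2.1 (zpow_mem hy _)) h2 with h3 | h3
    · exact hY j (by rw [zpow_neg, mul_inv_eq_one] at h3; exact h3)
    · refine hY (2 + j) ?_
      rw [zpow_neg, mul_inv_eq_iff_eq_mul] at h3
      rw [h3, zpow_add, ← hyz]; congr 1; rw [zpow_two]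
  · refine ⟨(a : X) * y ^ (-j), mul_mem a.2.1 (zpow_mem hy _), ?_,
      (hyC'.mul_left ((Commute.refl y).zpow_left _)).eq⟩
    rw [mul_assoc, ← mul_assoc (y ^ (-j)), ((hyC'.zpow_right (-j)).symm).eq, ← mul_assoc,
      ← mul_assoc, ← hi', mul_assoc, ← zpow_add, ← zpow_add]
    conv_rhs => rw [← zpow_one y]
    congr 1; ring

/-- The outer automorphism group of the simple quotient is solvable. -/
theorem isSolvable_out : Group.IsSolvable (Out (↥E ⧸ center ↥E)) := by
  haveI := h.simple_quotient.1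
  haveI : Fact (Nat.Prime 2) := ⟨Nat.prime_two⟩
  obtain ⟨S₀⟩ : Nonempty (Sylow 2 ↥E) := inferInstance
  obtain ⟨n, hn, ⟨φ⟩, S, hS⟩ := h.exists_quaternion (isSyl_of_sylow S₀)
  set P := (S₀ : Subgroup ↥E).map E.subtype
  set π := QuotientGroup.mk' (center ↥E)
  let Sb : Sylow 2 (↥E ⧸ center ↥E) := S.mapSurjective (QuotientGroup.mk'_surjective _)
  have hSb : (Sb : Subgroup (↥E ⧸ center ↥E)) = (S : Subgroup ↥E).map π := Sylow.coe_mapSurjective _ _
  let ψ : QuaternionGroup (2 ^ n) ≃* ↥(S : Subgroup ↥E) :=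
    ((MulEquiv.subgroupCongr hS).trans ((subgroupOfEquivOfLe (map_subtype_le _)).trans φ)).symm
  let f : QuaternionGroup (2 ^ n) →* ↥(Sb : Subgroup (↥E ⧸ center ↥E)) :=
    (MulEquiv.subgroupCongr hSb.symm).toMonoidHom.comp ((π.subgroupMap _).comp ψ.toMonoidHom)
  have hf : Function.Surjective f :=
    (MulEquiv.subgroupCongr hSb.symm).surjective.comp
      ((π.subgroupMap_surjective _).comp ψ.surjective)
  haveI : NeZero (2 ^ n) := ⟨by positivity⟩
  have hker : ∀ g, f g = 1 ↔ g * g = 1 := by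
    intro g
    have e1 : f g = 1 ↔ (((ψ g : ↥E) : X) = 1 ∨ ((ψ g : ↥E) : X) = z) := by
      rw [← h.mk_eq_one (ψ g : ↥E).2, Subtype.ext_iff]; rfl
    rw [e1, ← map_eq_one_iff ψ ψ.injective, map_mul, Subtype.ext_iff, Subtype.ext_iff]
    constructor
    · rintro (h1 | h1) <;> simp [h1, h.mul_self]
    · exact fun h1 => h.eq_of_sq (ψ g : ↥E).2 h1
  have hne : (Sb : Subgroup (↥E ⧸ center ↥E)) ≠ ⊥ := by
    intro hb
    have h1 : f (.xa 0) = 1 := Subtype.ext (mem_bot.1 (hb ▸ (f (.xa 0)).2))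
    have h2 := (hker _).1 h1
    have := orderOf_dvd_of_pow_eq_one (n := 2) (x := (QuaternionGroup.xa 0 : QuaternionGroup (2 ^ n)))
      (by rw [sq, h2])
    rw [QuaternionGroup.orderOf_xa] at this
    omega
  refine CfsgLib.Involutions.CentralizedSylow.isSolvable_out CfsgLib.FT.oddOrderThm
    h.simple_quotient.2 Sb hne ?_
  rcases eq_or_lt_of_le hn with h1 | h1
  · -- the four group
    subst h1
    apply CfsgLib.Recog.isSolvable_of_card_lt_sixty
    have hcard : Nat.card ↥(Sb : Subgroup (↥E ⧸ center ↥E)) ≤ 4 := by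
      have hd := Subgroup.card_dvd_of_surjective f hf
      rw [Nat.card_eq_fintype_card (α := QuaternionGroup (2 ^ 1)), QuaternionGroup.card] at hd
      have hlt : Nat.card ↥(Sb : Subgroup (↥E ⧸ center ↥E)) ≠ 8 := by
        intro h8
        have hbij : Function.Bijective f :=
          hf.bijective_of_nat_card_le (by rw [h8, Nat.card_eq_fintype_card, QuaternionGroup.card]; norm_num)
        have h1 : f (.xa 0 * .xa 0) = 1 := (hker _).2 (by
          have := QuaternionGroup.xa_pow_four (n := 2 ^ 1) 0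
          rw [← this]; simp [pow_succ])
        have h2 : (QuaternionGroup.xa 0 * .xa 0 : QuaternionGroup (2 ^ 1)) = 1 :=
          hbij.1 (h1.trans (map_one f).symm)
        have := orderOf_dvd_of_pow_eq_one (n := 2)
          (x := (QuaternionGroup.xa 0 : QuaternionGroup (2 ^ 1))) (by rw [sq, h2])
        rw [QuaternionGroup.orderOf_xa] at this
        omega
      have := Nat.le_of_dvd (by norm_num) hd
      interval_cases Nat.card ↥(Sb : Subgroup (↥E ⧸ center ↥E)) <;> omega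
    let j : MulAut ↥(Sb : Subgroup (↥E ⧸ center ↥E)) → Equiv.Perm ↥(Sb : Subgroup (↥E ⧸ center ↥E)) :=
      fun φ => φ.toEquiv
    have hj : Function.Injective j := fun a b hab =>
      MulEquiv.ext fun x => congrArg (fun e : Equiv.Perm _ => e x) hab
    refine lt_of_le_of_lt ((Nat.card_le_card_of_injective j hj).trans ?_)
      (by decide : Nat.factorial 4 < 60)
    rw [Nat.card_perm]
    exact Nat.factorial_le hcard
  · have hp : IsPGroup 2 (MulAut ↥(Sb : Subgroup (↥E ⧸ center ↥E))) := by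
      refine CfsgLib.Involutions.isPGroup_mulAut_of_cyclic Sb.isPGroup' (c := f (.a 1))
        (y := f (.xa 0)) (fun g => ?_) fun g hg => ?_
      · obtain ⟨q, rfl⟩ := hf g
        cases q with
        | a i =>
          refine Or.inl ?_
          rw [← ZMod.natCast_zmod_val i, ← QuaternionGroup.a_one_pow, map_pow]
          exact pow_mem (mem_zpowers _) _
        | xa i => exact Or.inr ⟨(i.val : ℤ), by
            simp only [zpow_natCast, ← map_pow, QuaternionGroup.a_one_pow, ZMod.natCast_zmod_val]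
            rw [eq_inv_mul_iff_mul_eq, ← map_mul, QuaternionGroup.xa_mul_a, zero_add]⟩
      · obtain ⟨q, rfl⟩ := hf g
        cases q with
        | a i =>
          rw [← ZMod.natCast_zmod_val i, ← QuaternionGroup.a_one_pow, map_pow] at hg
          exact absurd (pow_mem (mem_zpowers _) _) hg
        | xa i =>
          intro he
          have h2 : orderOf (f (.xa i)) ∣ 2 := orderOf_dvd_of_pow_eq_one (by
            rw [← map_pow, hker, QuaternionGroup.xa_sq, QuaternionGroup.a_mul_a,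
              QuaternionGroup.one_def]
            congr 1
            rw [← Nat.cast_add, ← two_mul, ZMod.natCast_self])
          rw [he] at h2
          have h3 : f (.a 1) ^ 2 = 1 := orderOf_dvd_iff_pow_eq_one.1 h2
          rw [← map_pow, hker, ← sq, ← pow_mul] at h3
          have h4 := orderOf_dvd_of_pow_eq_one h3
          rw [QuaternionGroup.orderOf_a_one] at h4
          have := Nat.pow_le_pow_right two_pos h1
          have := Nat.le_of_dvd (by norm_num) h4
          omega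
    haveI := hp.isNilpotent
    infer_instance

end IsUQ

end CfsgLib.SLPair
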