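import Cfsg.Agent.Lib.Components.PComponents
import Cfsg.Agent.Lib.Components.SLPair.Quaternion

/-!
# Intrinsic `SL₂`-like 2-components and their centralisers modulo the core
-/

set_option autoImplicit false
set_option linter.style.haveILetI false
set_option linter.unusedSectionVars false

namespace CfsgLib.SLPair

open Cfsg Subgroup CfsgLib.Components

universe u

variable {G : Type u} [Group G] [Finite G]

/-- The centraliser of `z` modulo its core. -/
abbrev Hb (z : G) : Type u :=
  ↥(centralizer ({z} : Set G)) ⧸ pPrimeCore 2 ↥(centralizer ({z} : Set G))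

/-- `J` is a 2-component of the centraliser of its unique involution `z`. -/
structure Intrinsic (z : G) (J : Subgroup G) : Prop where
  mem : z ∈ J
  ord : orderOf z = 2
  uniq : ∀ t ∈ J, orderOf t = 2 → t = z
  le : J ≤ centralizer ({z} : Set G)
  comp : IsPComponent 2 (J.subgroupOf (centralizer ({z} : Set G)))

/-- The map to `C(z)` modulo its core (trivial outside `C(z)`). -/
noncomputable def q (z g : G) : Hb z :=
  letI := _root_.Classical.propDecidable (g ∈ centralizer ({z} : Set G))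
  if h : g ∈ centralizer ({z} : Set G) then QuotientGroup.mk ⟨g, h⟩ else 1

section q

variable {z g k : G}

theorem q_eq (hg : g ∈ centralizer ({z} : Set G)) :
    q z g = QuotientGroup.mk (⟨g, hg⟩ : ↥(centralizer ({z} : Set G))) := by
  rw [q, dif_pos hg]

theorem q_one : q z (1 : G) = 1 := by
  rw [q_eq (one_mem _)]; rfl

theorem q_mul (hg : g ∈ centralizer ({z} : Set G)) (hk : k ∈ centralizer ({z} : Set G)) :
    q z (g * k) = q z g * q z k := by
  rw [q_eq hg, q_eq hk, q_eq (mul_mem hg hk)]; rfl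

theorem q_inv (hg : g ∈ centralizer ({z} : Set G)) : q z g⁻¹ = (q z g)⁻¹ := by
  rw [q_eq hg, q_eq (inv_mem hg)]; rfl

theorem q_pow (hg : g ∈ centralizer ({z} : Set G)) (n : ℕ) : q z (g ^ n) = q z g ^ n := by
  rw [q_eq hg, q_eq (pow_mem hg n)]; rfl

theorem q_zpow (hg : g ∈ centralizer ({z} : Set G)) (n : ℤ) : q z (g ^ n) = q z g ^ n := by
  rw [q_eq hg, q_eq (zpow_mem hg n)]; rfl

theorem q_conj (hg : g ∈ centralizer ({z} : Set G)) (hk : k ∈ centralizer ({z} : Set G)) :
    q z (g * k * g⁻¹) = q z g * q z k * (q z g)⁻¹ := by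
  rw [q_mul (mul_mem hg hk) (inv_mem hg), q_mul hg hk, q_inv hg]

theorem q_surj (h : Hb z) : ∃ g ∈ centralizer ({z} : Set G), q z g = h := by
  obtain ⟨g, rfl⟩ := QuotientGroup.mk'_surjective _ h
  exact ⟨g, g.2, q_eq g.2⟩

theorem odd_of_q_eq_one (hg : g ∈ centralizer ({z} : Set G)) (h : q z g = 1) :
    Odd (orderOf g) := by
  rw [q_eq hg, QuotientGroup.eq_one_iff] at h
  have := odd_orderOf_of_mem (CfsgLib.Base.odd_card_oddCore ↥(centralizer ({z} : Set G))) h
  rwa [← orderOf_coe] at this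

theorem odd_q (hg : g ∈ centralizer ({z} : Set G)) (h : Odd (orderOf g)) :
    Odd (orderOf (q z g)) :=
  h.of_dvd_nat (orderOf_dvd_of_pow_eq_one (by rw [← q_pow hg, pow_orderOf_eq_one, q_one]))

theorem odd_of_odd_q (hg : g ∈ centralizer ({z} : Set G)) (h : Odd (orderOf (q z g))) :
    Odd (orderOf g) :=
  odd_orderOf_of_pow h (odd_of_q_eq_one (pow_mem hg _) (by rw [q_pow hg, pow_orderOf_eq_one]))

theorem q_commute (hg : g ∈ centralizer ({z} : Set G)) (hk : k ∈ centralizer ({z} : Set G))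
    (h : g * k = k * g) : q z g * q z k = q z k * q z g := by
  rw [← q_mul hg hk, ← q_mul hk hg, h]

/-- An element with `2`-power image has a `2`-power power with the same image. -/
theorem exists_two_power (hg : g ∈ centralizer ({z} : Set G)) {k : ℕ}
    (h : q z g ^ 2 ^ k = 1) : ∃ n : ℕ, (∃ a : ℕ, (g ^ n) ^ 2 ^ a = 1) ∧ q z (g ^ n) = q z g := by
  obtain ⟨a, m, hm, ho⟩ := Nat.exists_eq_pow_mul_and_not_dvd (orderOf_pos g).ne' 2 (by norm_num)
  rcases Nat.eq_zero_or_pos k with rfl | hk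
  · rw [pow_zero, pow_one] at h
    exact ⟨0, ⟨0, by simp⟩, by rw [pow_zero, q_one, h]⟩
  have hcop : Nat.Coprime m (2 ^ k) :=
    Nat.Coprime.pow_right k ((Nat.prime_two.coprime_iff_not_dvd.2 hm).symm)
  obtain ⟨i, hi⟩ := Nat.exists_mul_mod_eq_one_of_coprime hcop
    (Nat.one_lt_two_pow hk.ne')
  replace hi := hi.2
  refine ⟨m * i, ⟨a, ?_⟩, ?_⟩
  · rw [← pow_mul, show m * i * 2 ^ a = orderOf g * i by rw [ho]; ring, pow_mul,
      pow_orderOf_eq_one, one_pow]
  · rw [q_pow hg, ← Nat.mod_add_div (m * i) (2 ^ k), hi, pow_add, pow_mul, h, one_pow, mul_one,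
      pow_one]

/-- An element whose image commutes with the image of the involution `w` can be corrected to
commute with `w`. -/
theorem exists_lift_commute {w : G} (hw : w ∈ centralizer ({z} : Set G)) (hw2 : w * w = 1)
    (hg : g ∈ centralizer ({z} : Set G)) (h : q z g * q z w = q z w * q z g) :
    ∃ o ∈ zpowers (g * w * g⁻¹ * w), o ∈ centralizer ({z} : Set G) ∧ q z o = 1 ∧
      o⁻¹ * g ∈ centralizer ({w} : Set G) ∧ q z (o⁻¹ * g) = q z g := by
  have hs : g * w * g⁻¹ * (g * w * g⁻¹) = 1 := by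
    calc g * w * g⁻¹ * (g * w * g⁻¹) = g * (w * w) * g⁻¹ := by group
      _ = 1 := by rw [hw2, mul_one, mul_inv_cancel]
  have hgw : g * w * g⁻¹ ∈ centralizer ({z} : Set G) := mul_mem (mul_mem hg hw) (inv_mem hg)
  have hmem : g * w * g⁻¹ * w ∈ centralizer ({z} : Set G) := mul_mem hgw hw
  have hq : q z (g * w * g⁻¹ * w) = 1 := by
    rw [q_mul hgw hw, q_conj hg hw, h, mul_inv_cancel_right, ← q_mul hw hw, hw2, q_one]
  obtain ⟨o, ho, hco⟩ := exists_conj_of_odd hs hw2 (odd_of_q_eq_one hmem hq)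
  obtain ⟨i, rfl⟩ := ho
  have hoC := zpow_mem hmem i
  have hoq : q z ((g * w * g⁻¹ * w) ^ i) = 1 := by rw [q_zpow hmem, hq, one_zpow]
  refine ⟨_, ⟨i, rfl⟩, hoC, hoq, ?_, by rw [q_mul (inv_mem hoC) hg, q_inv hoC, hoq, inv_one, one_mul]⟩
  rw [mem_centralizer_singleton_iff]
  simp only at hco ⊢
  generalize (g * w * g⁻¹ * w) ^ i = o at hco ⊢
  calc o⁻¹ * g * w = o⁻¹ * (g * w * g⁻¹) * g := by group
    _ = o⁻¹ * (o * w * o⁻¹) * g := by rw [hco]
    _ = w * (o⁻¹ * g) := by group

end q

/-- The image of `J` in `C(z)` modulo the core. -/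
def img (z : G) (J : Subgroup G) : Subgroup (Hb z) :=
  (J.subgroupOf (centralizer ({z} : Set G))).map (QuotientGroup.mk' _)

/-- Conjugate subgroup. -/
abbrev cj {X : Type*} [Group X] (g : X) (K : Subgroup X) : Subgroup X :=
  K.map (MulAut.conj g).toMonoidHom

theorem mem_cj {X : Type*} [Group X] {g x : X} {K : Subgroup X} :
    x ∈ cj g K ↔ g⁻¹ * x * g ∈ K :=
  CfsgLib.Base.mem_map_conj

theorem conj_mem_cj {X : Type*} [Group X] (g : X) {x : X} {K : Subgroup X} (hx : x ∈ K) :
    g * x * g⁻¹ ∈ cj g K :=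
  ⟨x, hx, rfl⟩

theorem cj_cj {X : Type*} [Group X] (g k : X) (K : Subgroup X) :
    cj g (cj k K) = cj (g * k) K := by
  ext x
  simp only [mem_cj, mul_inv_rev, mul_assoc]

theorem cj_one {X : Type*} [Group X] (K : Subgroup X) : cj (1 : X) K = K := by
  ext x; simp [mem_cj]

theorem cj_eq_self {X : Type*} [Group X] {g : X} {K : Subgroup X} :
    cj g K = K ↔ g ∈ normalizer (K : Set X) :=
  CfsgLib.Base.map_conj_eq_self_iff

theorem cj_injective {X : Type*} [Group X] (g : X) : Function.Injective (cj g) :=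
  fun _ _ h => map_injective (MulAut.conj g).injective h

namespace Intrinsic

variable {z : G} {J : Subgroup G} (c : Intrinsic z J)
include c

theorem ne_one : z ≠ 1 := fun hz => by
  have := c.ord
  rw [hz, orderOf_one] at this
  omega

theorem mul_self : z * z = 1 := by rw [← sq, ← c.ord, pow_orderOf_eq_one]

theorem mem_C : z ∈ centralizer ({z} : Set G) := c.le c.mem

theorem commute {g : G} (hg : g ∈ J) : g * z = z * g :=
  mem_centralizer_singleton_iff.1 (c.le hg)

theorem q_mem {g : G} (hg : g ∈ J) : q z g ∈ img z J :=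
  ⟨⟨g, c.le hg⟩, hg, (q_eq (c.le hg)).symm⟩

theorem exists_of_mem {h : Hb z} (hh : h ∈ img z J) : ∃ g ∈ J, q z g = h := by
  obtain ⟨⟨g, hg⟩, hJ, rfl⟩ := hh
  exact ⟨g, hJ, q_eq hg⟩

theorem isComponent : IsComponent (img z J) := c.comp.2.1

theorem q_central (h : Hb z) : h * q z z = q z z * h := by
  obtain ⟨g, hg, rfl⟩ := q_surj h
  exact q_commute hg c.mem_C (mem_centralizer_singleton_iff.1 hg)

theorem q_ne_one : q z z ≠ 1 := fun h => by
  have := odd_of_q_eq_one c.mem_C h
  rw [c.ord] at this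
  exact absurd this (by decide)

theorem q_mul_self : q z z * q z z = 1 := by rw [← q_mul c.mem_C c.mem_C, c.mul_self, q_one]

theorem eq_of_sq {g : G} (hg : g ∈ J) (h : g * g = 1) : g = 1 ∨ g = z := by
  by_cases h1 : g = 1
  · exact Or.inl h1
  · exact Or.inr (c.uniq g hg (orderOf_eq_prime (p := 2) (by rw [sq, h]) h1))

theorem isUQ : IsUQ (img z J) (q z z) where
  qs := c.isComponent.2
  mem := c.q_mem c.mem
  ord := orderOf_eq_prime (p := 2) (by rw [sq, c.q_mul_self]) c.q_ne_one
  uniq := fun e he h2 => by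
    obtain ⟨g, hg, rfl⟩ := c.exists_of_mem he
    obtain ⟨n, hn⟩ := odd_of_q_eq_one (pow_mem (c.le hg) 2)
      (by rw [q_pow (c.le hg)]; exact orderOf_dvd_iff_pow_eq_one.1 (dvd_of_eq h2))
    set m := orderOf (g ^ 2) with hm
    have h2' : q z g * q z g = 1 := by rw [← sq]; exact orderOf_dvd_iff_pow_eq_one.1 (dvd_of_eq h2)
    have hmq : q z (g ^ m) = q z g := by
      rw [q_pow (c.le hg), hn, pow_succ, pow_mul, sq, h2', one_pow, one_mul]
    rcases c.eq_of_sq (pow_mem hg m) (by
      rw [← pow_add, ← two_mul, pow_mul, hm, pow_orderOf_eq_one]) with h1 | h1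
    · rw [h1, q_one] at hmq
      rw [← hmq, orderOf_one] at h2
      omega
    · rw [← hmq, h1]
  core := by
    apply map_injective (img z J).subtype_injective
    rw [Subgroup.map_bot, eq_bot_iff]
    exact (CfsgLib.Base.map_pPrimeCore_le_of_isSubnormal c.isComponent.1).trans
      (CfsgLib.Base.pPrimeCore_quotient_pPrimeCore 2 _).le

theorem two_power_of_card : 2 ∣ Nat.card (img z J) := c.isUQ.two_dvd_card

/-- An element of `C(z)` normalises `J` if its image normalises the image of `J`. -/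
theorem normalizes {g : G} (hg : g ∈ centralizer ({z} : Set G))
    (h : cj (q z g) (img z J) = img z J) : g ∈ normalizer (J : Set G) := by
  set C := centralizer ({z} : Set G) with hC
  have hK := c.comp
  have e : (cj (⟨g, hg⟩ : ↥C) (J.subgroupOf C)).map (QuotientGroup.mk' (pPrimeCore 2 ↥C)) =
      (J.subgroupOf C).map (QuotientGroup.mk' (pPrimeCore 2 ↥C)) := by
    refine Eq.trans ?_ h
    rw [q_eq hg]
    rw [img, cj, cj, Subgroup.map_map, Subgroup.map_map]
    rfl
  have heq := pComponent_eq_of_map_eq (isPComponent_map_equiv (MulAut.conj _) hK) hK e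
  rw [← cj_eq_self]
  ext x
  rw [mem_cj]
  constructor
  · intro hx
    have hxC : x ∈ C := by
      have := mul_mem (mul_mem hg (c.le hx)) (inv_mem hg)
      simpa [mul_assoc] using this
    have h1 : (⟨x, hxC⟩ : ↥C) ∈ cj (⟨g, hg⟩ : ↥C) (J.subgroupOf C) := by
      rw [mem_cj, mem_subgroupOf]; exact hx
    rwa [cj, heq, mem_subgroupOf] at h1
  · intro hx
    have h1 : (⟨x, c.le hx⟩ : ↥C) ∈ cj (⟨g, hg⟩ : ↥C) (J.subgroupOf C) := by
      rw [cj, heq, mem_subgroupOf]; exact hx
    rwa [mem_cj, mem_subgroupOf] at h1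

theorem cj_img_of_normalizes {g : G} (hg : g ∈ centralizer ({z} : Set G))
    (h : g ∈ normalizer (J : Set G)) : cj (q z g) (img z J) = img z J := by
  rw [cj_eq_self]
  refine mem_normalizer_iff.2 fun e => ?_
  have key : ∀ a ∈ centralizer ({z} : Set G), a ∈ normalizer (J : Set G) → ∀ e ∈ img z J,
      q z a * e * (q z a)⁻¹ ∈ img z J := by
    intro a ha hn e he
    obtain ⟨x, hx, rfl⟩ := c.exists_of_mem he
    rw [← q_conj ha (c.le hx)]
    exact c.q_mem ((mem_normalizer_iff.1 hn x).1 hx)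
  refine ⟨key g hg h e, fun he => ?_⟩
  have := key g⁻¹ (inv_mem hg) (inv_mem h) _ he
  rw [q_inv hg] at this
  simpa [mul_assoc] using this

theorem fixes_involution {g : G} (h : g ∈ normalizer (J : Set G)) :
    g ∈ centralizer ({z} : Set G) := by
  rw [mem_centralizer_singleton_iff]
  rcases c.eq_of_sq ((mem_normalizer_iff.1 h z).1 c.mem) (by
    calc g * z * g⁻¹ * (g * z * g⁻¹) = g * (z * z) * g⁻¹ := by group
      _ = 1 := by rw [c.mul_self, mul_one, mul_inv_cancel]) with h1 | h1
  · exact absurd (conj_eq_one_iff.1 h1) c.ne_one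
  · exact mul_inv_eq_iff_eq_mul.1 h1

/-- Conjugation transports the setting. -/
theorem conj (g : G) : Intrinsic (g * z * g⁻¹) (cj g J) where
  mem := conj_mem_cj g c.mem
  ord := by
    rw [← MulAut.conj_apply, MulEquiv.orderOf_eq]; exact c.ord
  uniq := fun t ht h2 => by
    obtain ⟨x, hx, rfl⟩ := ht
    rw [MulEquiv.coe_toMonoidHom, MulEquiv.orderOf_eq] at h2
    rw [c.uniq x hx h2]; rfl
  le := by
    rintro _ ⟨x, hx, rfl⟩
    rw [mem_centralizer_singleton_iff, MulEquiv.coe_toMonoidHom, MulAut.conj_apply]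
    have := c.commute hx
    calc g * x * g⁻¹ * (g * z * g⁻¹) = g * (x * z) * g⁻¹ := by group
      _ = g * z * g⁻¹ * (g * x * g⁻¹) := by rw [this]; group
  comp := by
    have hmem : ∀ x : G, x ∈ centralizer ({z} : Set G) →
        MulAut.conj g x ∈ centralizer ({g * z * g⁻¹} : Set G) := fun x hx => by
      rw [mem_centralizer_singleton_iff, MulAut.conj_apply]
      have := mem_centralizer_singleton_iff.1 hx
      calc g * x * g⁻¹ * (g * z * g⁻¹) = g * (x * z) * g⁻¹ := by group
        _ = g * z * g⁻¹ * (g * x * g⁻¹) := by rw [this]; group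
    have hmem' : ∀ x : G, x ∈ centralizer ({g * z * g⁻¹} : Set G) →
        g⁻¹ * x * g ∈ centralizer ({z} : Set G) := fun x hx => by
      rw [mem_centralizer_singleton_iff]
      have := mem_centralizer_singleton_iff.1 hx
      calc g⁻¹ * x * g * z = g⁻¹ * (x * (g * z * g⁻¹)) * g := by group
        _ = z * (g⁻¹ * x * g) := by rw [this]; group
    let e : ↥(centralizer ({z} : Set G)) ≃* ↥(centralizer ({g * z * g⁻¹} : Set G)) :=
      { toFun := fun x => ⟨_, hmem x x.2⟩
        invFun := fun x => ⟨_, hmem' x x.2⟩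
        left_inv := fun x => Subtype.ext (by simp [mul_assoc])
        right_inv := fun x => Subtype.ext (by simp [mul_assoc])
        map_mul' := fun a b => Subtype.ext (map_mul (MulAut.conj g) (a : G) b) }
    have := isPComponent_map_equiv e c.comp
    convert this using 1
    ext x
    constructor
    · intro hx
      exact ⟨e.symm x, mem_cj.1 hx, e.apply_symm_apply x⟩
    · rintro ⟨y, hy, rfl⟩
      exact conj_mem_cj g hy

/-- Conjugates of the image of `J` satisfy the same hypotheses. -/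
theorem isUQ_cj (h : Hb z) : IsUQ (cj h (img z J)) (q z z) := by
  have hz : h * q z z * h⁻¹ = q z z := by rw [c.q_central, mul_inv_cancel_right]
  refine ⟨(isComponent_conj c.isComponent h).2, hz ▸ conj_mem_cj h c.isUQ.mem, c.isUQ.ord, ?_, ?_⟩
  · rintro t ⟨x, hx, rfl⟩ h2
    rw [MulEquiv.coe_toMonoidHom, MulEquiv.orderOf_eq] at h2
    rw [c.isUQ.uniq x hx h2]
    exact hz
  · apply map_injective (cj h (img z J)).subtype_injective
    rw [Subgroup.map_bot, eq_bot_iff]
    exact (CfsgLib.Base.map_pPrimeCore_le_of_isSubnormal (isComponent_conj c.isComponent h).1).trans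
      (CfsgLib.Base.pPrimeCore_quotient_pPrimeCore 2 _).le

/-- Distinct components commute. -/
theorem commute_cj {h k : Hb z} (hne : cj h (img z J) ≠ cj k (img z J)) {a b : Hb z}
    (ha : a ∈ cj h (img z J)) (hb : b ∈ cj k (img z J)) : a * b = b * a :=
  commutatorElement_eq_one_iff_mul_comm.1 (mem_bot.1
    ((components_commute (isComponent_conj c.isComponent h) (isComponent_conj c.isComponent k) hne) ▸
      commutator_mem_commutator ha hb))

/-- Distinct components meet in the central involution. -/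
theorem inter_cj {h k : Hb z} (hne : cj h (img z J) ≠ cj k (img z J)) {a : Hb z}
    (ha : a ∈ cj h (img z J)) (ha' : a ∈ cj k (img z J)) : a = 1 ∨ a = q z z :=
  (c.isUQ_cj h).center_cases ha fun _ hb => (c.commute_cj hne hb ha').symm

theorem commute_of_ne {h : Hb z} (hne : cj h (img z J) ≠ img z J) {a b : Hb z}
    (ha : a ∈ img z J) (hb : b ∈ cj h (img z J)) : a * b = b * a :=
  c.commute_cj (h := 1) (k := h) (by rw [cj_one]; exact hne.symm) (by rwa [cj_one]) hb

theorem inter_of_ne {h : Hb z} (hne : cj h (img z J) ≠ img z J) {a : Hb z}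
    (ha : a ∈ img z J) (ha' : a ∈ cj h (img z J)) : a = 1 ∨ a = q z z :=
  c.inter_cj (h := 1) (k := h) (by rw [cj_one]; exact hne.symm) (by rwa [cj_one]) ha'

end Intrinsic

/-- The image in `C(z)/O` of the part of the core of `C(w)` inside `C(z)`. -/
def coreImg (w z : G) : Subgroup (Hb z) :=
  (((pPrimeCore 2 ↥(centralizer ({w} : Set G))).map (centralizer ({w} : Set G)).subtype).subgroupOf
    (centralizer ({z} : Set G))).map (QuotientGroup.mk' _)

theorem coreImg_odd (w z : G) : Odd (Nat.card (coreImg w z)) := by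
  have h0 := CfsgLib.Base.odd_card_oddCore ↥(centralizer ({w} : Set G))
  refine h0.of_dvd_nat ((Subgroup.card_map_dvd _ _).trans ?_)
  refine (Subgroup.card_comap_dvd_of_injective _ _ (Subgroup.subtype_injective _)).trans ?_
  exact Subgroup.card_map_dvd _ _

theorem q_mem_coreImg {w z g : G} (hgz : g ∈ centralizer ({z} : Set G))
    (hgw : g ∈ centralizer ({w} : Set G)) (h : q w g = 1) : q z g ∈ coreImg w z := by
  rw [q_eq hgw, QuotientGroup.eq_one_iff] at h
  exact ⟨⟨g, hgz⟩, ⟨⟨g, hgw⟩, h, rfl⟩, (q_eq hgz).symm⟩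

theorem exists_of_mem_coreImg {w z : G} {v : Hb z} (hv : v ∈ coreImg w z) :
    ∃ g ∈ centralizer ({z} : Set G), g ∈ centralizer ({w} : Set G) ∧ q w g = 1 ∧ q z g = v := by
  obtain ⟨⟨g, hgz⟩, ⟨⟨g', hgw⟩, hg, hgg⟩, rfl⟩ := hv
  obtain rfl : g' = g := hgg
  exact ⟨g', hgz, hgw, by rw [q_eq hgw, QuotientGroup.eq_one_iff]; exact hg, q_eq hgz⟩

theorem coreImg_conj {w z x : G} (hxz : x ∈ centralizer ({z} : Set G))
    (hxw : x ∈ centralizer ({w} : Set G)) {v : Hb z} (hv : v ∈ coreImg w z) :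
    q z x * v * (q z x)⁻¹ ∈ coreImg w z := by
  obtain ⟨g, hgz, hgw, hg, rfl⟩ := exists_of_mem_coreImg hv
  rw [← q_conj hxz hgz]
  exact q_mem_coreImg (mul_mem (mul_mem hxz hgz) (inv_mem hxz))
    (mul_mem (mul_mem hxw hgw) (inv_mem hxw))
    (by rw [q_conj hxw hgw, hg, mul_one, mul_inv_cancel])

end CfsgLib.SLPair
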