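import Cfsg.Agent.Lib.Components.SLPair.Moves

/-!
# A moving 2-element has order four and determines the action of `zA` on `B`
-/

set_option autoImplicit false
set_option linter.style.haveILetI false
set_option linter.unusedSectionVars false

namespace CfsgLib.SLPair

open Cfsg Subgroup CfsgLib.Components

universe u

variable {G : Type u} [Group G] [Finite G] {zA zB : G} {A B : Subgroup G}

/-- A 2-element of `B` centralising `zA`, of order at least four, moving `A`, whose square does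
not. -/
structure Mover (zA : G) (A B : Subgroup G) (y : G) : Prop where
  mem : y ∈ B
  memA : y ∈ centralizer ({zA} : Set G)
  two : ∃ k : ℕ, y ^ 2 ^ k = 1
  sq_ne : y * y ≠ 1
  moves : y ∉ normalizer (A : Set G)
  sq_norm : y * y ∈ normalizer (A : Set G)

theorem Mover.exists_order {y : G} (h : Mover zA A B y) : ∃ m, 2 ≤ m ∧ orderOf y = 2 ^ m := by
  obtain ⟨k, hk⟩ := h.two
  obtain ⟨m, -, hm⟩ := (Nat.dvd_prime_pow Nat.prime_two).1 (orderOf_dvd_of_pow_eq_one hk)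
  refine ⟨m, ?_, hm⟩
  by_contra hlt
  apply h.sq_ne
  rw [← sq]
  refine orderOf_dvd_iff_pow_eq_one.1 ?_
  rw [hm]
  interval_cases m <;> decide

/-- An element of `A` of 2-power order with image squaring to the central involution squares to
`zA`. -/
theorem Intrinsic.sq_eq {z : G} {J : Subgroup G} (c : Intrinsic z J) {x : G} (hx : x ∈ J)
    (h2 : ∃ k : ℕ, x ^ 2 ^ k = 1) (h : q z x * q z x = q z z) : x * x = z := by
  have h4 : x ^ 4 = 1 := by
    obtain ⟨k, hk⟩ := h2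
    refine eq_one_of_odd_of_pow (k := k) (odd_of_q_eq_one (pow_mem (c.le hx) 4) ?_)
      (by rw [← pow_mul, mul_comm, pow_mul, hk, one_pow])
    rw [q_pow (c.le hx), show 4 = 2 * 2 from rfl, pow_mul, sq, sq, h, c.q_mul_self]
  refine (c.eq_of_sq (mul_mem hx hx) (by rw [← h4]; simp [pow_succ, mul_assoc])).resolve_left
    fun h1 => c.q_ne_one ?_
  rw [← h, ← q_mul (c.le hx) (c.le hx), h1, q_one]

namespace Pair

variable (p : Pair zA A zB B) {y : G}
include p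

theorem mover_zB (h : Mover zA A B y) : zB ∈ normalizer (A : Set G) := by
  obtain ⟨m, hm, ho⟩ := h.exists_order
  exact p.zB_normalizes h.mem h.memA hm ho h.moves

theorem sigma_eq_pow (h : Mover zA A B y) :
    ∃ m, 2 ≤ m ∧ orderOf y = 2 ^ m ∧ q zA zB = (q zA y * q zA y) ^ 2 ^ (m - 2) := by
  obtain ⟨m, hm, hy⟩ := h.exists_order
  refine ⟨m, hm, hy, ?_⟩
  have hpow : y ^ 2 ^ (m - 1) = zB := by
    refine p.cB.uniq _ (pow_mem h.mem _) ?_
    rw [orderOf_pow_of_dvd (by positivity) (hy ▸ pow_dvd_pow 2 (by omega)), hy,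
      Nat.pow_div (by omega) two_pos, show m - (m - 1) = 1 by omega, pow_one]
  rw [← hpow, q_pow h.memA, ← sq, ← pow_mul, ← pow_succ', show m - 2 + 1 = m - 1 by omega]

/-- Step G. -/
theorem stepG (h : Mover zA A B y) {b : Hb zA} (hbE : b ∈ img zA A) (hbb : b * b = q zA zA)
    (hneg : q zA zB * b * (q zA zB)⁻¹ = b * q zA zA) {P : Subgroup (Hb zA)} (hP : IsPGroup 2 P)
    (hPE : P ≤ img zA A) (hbP : b ∈ P)
    (hbP' : q zA y * q zA y * b * (q zA y * q zA y)⁻¹ ∈ P) :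
    y * y = zB ∧ ∃ x ∈ centralizer ({zA} : Set G), x ∈ centralizer ({zB} : Set G) ∧
      x ∉ normalizer (B : Set G) ∧ q zB zA = q zB (x * y * x⁻¹) * (q zB y)⁻¹ := by
  obtain ⟨m, hm, hy, hsig⟩ := p.sigma_eq_pow h
  set Y := q zA y with hYdef
  set s := q zA zB with hs
  set z := q zA zA with hzdef
  have hyB := p.cB.le h.mem
  have hU := p.cA.isUQ
  have hYE : cj Y (img zA A) ≠ img zA A := fun e => h.moves (p.cA.normalizes h.memA e)
  have hYs : Commute Y s := p.sigma_commute h.memA hyB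
  have hcz : ∀ e : Hb zA, Commute e z := p.cA.q_central
  set g := b * (Y * b * Y⁻¹)⁻¹ with hg
  have hgs : g * s = s * g := by
    refine (mul_inv_eq_iff_eq_mul.1 ?_).symm
    have e1 : s * (Y * b * Y⁻¹) * s⁻¹ = Y * b * Y⁻¹ * z := by
      calc s * (Y * b * Y⁻¹) * s⁻¹ = (s * Y) * b * (s * Y)⁻¹ := by group
        _ = Y * (s * b * s⁻¹) * Y⁻¹ := by rw [hYs.symm.eq]; group
        _ = Y * b * (z * Y⁻¹) := by rw [hneg]; group
        _ = _ := by rw [(hcz Y⁻¹).symm.eq, mul_assoc, mul_assoc, mul_assoc]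
    calc s * g * s⁻¹ = (s * b * s⁻¹) * (s * (Y * b * Y⁻¹) * s⁻¹)⁻¹ := by rw [hg]; group
      _ = g := by
        rw [hneg, e1, hg, mul_inv_rev, ← mul_assoc, mul_assoc b, mul_inv_cancel, mul_one]
  obtain ⟨x, hxA, hxB, hxq⟩ := p.exists_lift hgs
  set b'' := Y * Y * b * (Y * Y)⁻¹ with hb''
  set w := b * b''⁻¹ with hw
  have hwP : w ∈ P := mul_mem hbP (inv_mem hbP')
  have hwE : w ∈ img zA A := hPE hwP
  have h1 : x * y * x⁻¹ ∈ centralizer ({zA} : Set G) :=
    mul_mem (mul_mem hxA h.memA) (inv_mem hxA)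
  have h1q : q zA (x * y * x⁻¹) = w * Y := by
    have hc : Commute (Y * b * Y⁻¹)⁻¹ b'' :=
      (Commute.inv_left (p.cA.commute_of_ne hYE (hPE hbP') (conj_mem_cj Y hbE)).symm)
    have hb''z : b'' * b'' = z := by
      calc b'' * b'' = Y * Y * (b * b) * (Y * Y)⁻¹ := by rw [hb'']; group
        _ = z := by rw [hbb, p.cA.q_central (Y * Y), mul_inv_cancel_right]
    have hb''inv : b''⁻¹ = b'' * z :=
      inv_eq_of_mul_eq_one_right (by rw [← mul_assoc, hb''z, p.cA.q_mul_self])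
    rw [q_conj hxA h.memA, hxq, ← hYdef, hw, hg]
    calc b * (Y * b * Y⁻¹)⁻¹ * Y * (b * (Y * b * Y⁻¹)⁻¹)⁻¹
        = b * ((Y * b * Y⁻¹)⁻¹ * b'') * (Y * b * Y⁻¹)⁻¹ * Y := by rw [hb'']; group
      _ = b * b'' * (Y * (b * b) * Y⁻¹)⁻¹ * Y := by rw [hc.eq]; group
      _ = b * b''⁻¹ * Y := by
        rw [hbb, p.cA.q_central Y, mul_inv_cancel_right, hb''inv, ← mul_assoc b b'' z,
          inv_eq_of_mul_eq_one_right p.cA.q_mul_self]
  have hwne : w ≠ 1 := by
    intro e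
    rw [hw, mul_inv_eq_one] at e
    have hc : Commute (Y * Y) b := by
      rw [hb''] at e
      exact (mul_inv_eq_iff_eq_mul.1 e.symm)
    have hsb : Commute s b := hsig ▸ hc.pow_left _
    rw [hsb.eq, mul_inv_cancel_right, left_eq_mul] at hneg
    exact p.cA.q_ne_one hneg
  have hx : x ∉ normalizer (B : Set G) := by
    intro hn
    have hrB : x * y * x⁻¹ * y⁻¹ ∈ B := mul_mem ((mem_normalizer_iff.1 hn y).1 h.mem) (inv_mem h.mem)
    have hrA : x * y * x⁻¹ * y⁻¹ ∈ centralizer ({zA} : Set G) := mul_mem h1 (inv_mem h.memA)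
    have hrq : q zA (x * y * x⁻¹ * y⁻¹) = w := by
      rw [q_mul h1 (inv_mem h.memA), q_inv h.memA, h1q, ← hYdef, mul_inv_cancel_right]
    obtain ⟨k, hk⟩ := hP ⟨w, hwP⟩
    have hk' : w ^ 2 ^ k = 1 := congrArg Subtype.val hk
    obtain ⟨j, -, hj⟩ := (Nat.dvd_prime_pow Nat.prime_two).1 (orderOf_dvd_of_pow_eq_one hk')
    rcases j with _ | j
    · exact hwne (orderOf_eq_one_iff.1 hj)
    have ho : orderOf (w ^ 2 ^ j) = 2 := by
      rw [orderOf_pow_of_dvd (by positivity) (hj ▸ pow_dvd_pow 2 (Nat.le_succ j)), hj, pow_succ,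
        Nat.mul_div_cancel_left _ (by positivity)]
    have hz : w ^ 2 ^ j = z := hU.uniq _ (pow_mem hwE _) ho
    rcases p.eq_sigma (pow_mem hrB (2 ^ j)) (pow_mem hrA _)
        (by rw [q_pow hrA, hrq, hz, p.cA.q_mul_self]) with e | e
    · rw [q_pow hrA, hrq, hz] at e
      exact p.cA.q_ne_one e
    · rw [q_pow hrA, hrq, hz] at e
      exact p.sigma_ne_central e.symm
  have hv := p.comm_of_moves hxA hxB hx h.mem h.memA h.mem h.memA
  rw [q_mul (mul_mem (mul_mem h.memA h1) (inv_mem h.memA)) (inv_mem h1), q_conj h.memA h1, q_inv h1,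
    h1q, ← hYdef] at hv
  have hv' : Y * w * Y⁻¹ * w⁻¹ ∈ coreImg zB zA := by
    convert hv using 1; group
  have hw2 : ∃ k : ℕ, w ^ 2 ^ k = 1 := by
    obtain ⟨k, hk⟩ := hP ⟨w, hwP⟩
    exact ⟨k, congrArg Subtype.val hk⟩
  have hwc : Commute (Y * w * Y⁻¹) w⁻¹ :=
    (p.cA.commute_of_ne hYE (inv_mem hwE) (conj_mem_cj Y hwE)).symm
  obtain ⟨k, hk⟩ := two_power_mul hwc (hw2.imp fun k hk => by rw [conj_pow, hk]; group)
    (hw2.imp fun k hk => by rw [inv_pow, hk, inv_one])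
  have hv1 := eq_one_of_odd_of_pow (odd_orderOf_of_mem (coreImg_odd zB zA) hv') hk
  rw [mul_inv_eq_one] at hv1
  have hwz : w = z :=
    (p.cA.inter_of_ne hYE hwE (by rw [← hv1]; exact conj_mem_cj Y hwE)).resolve_left hwne
  -- `Y²` negates `b`, so `y` has order four
  have hnegY : Y * Y * b * (Y * Y)⁻¹ = b * z := by
    rw [hw, mul_inv_eq_iff_eq_mul] at hwz
    have e : b'' = z * b := by
      calc b'' = z * (z * b'') := by rw [← mul_assoc, p.cA.q_mul_self, one_mul]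
        _ = z * b := by rw [← hwz]
    rw [← hb'', e, (hcz b).eq]
  have hm2 : m = 2 := by
    by_contra hne
    obtain ⟨j, rfl⟩ : ∃ j, m = j + 3 := ⟨m - 3, by omega⟩
    have h4 : Commute ((Y * Y) * (Y * Y)) b := by
      refine mul_inv_eq_iff_eq_mul.1 ?_
      calc Y * Y * (Y * Y) * b * (Y * Y * (Y * Y))⁻¹
          = Y * Y * (Y * Y * b * (Y * Y)⁻¹) * (Y * Y)⁻¹ := by group
        _ = (Y * Y * b * (Y * Y)⁻¹) * z := by
          rw [hnegY]
          calc Y * Y * (b * z) * (Y * Y)⁻¹ = Y * Y * b * (z * (Y * Y)⁻¹) := by group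
            _ = _ := by rw [(hcz (Y * Y)⁻¹).symm.eq, ← mul_assoc, hnegY]
        _ = b := by rw [hnegY, mul_assoc, p.cA.q_mul_self, mul_one]
    have hsb : Commute s b := by
      rw [hsig, show j + 3 - 2 = j + 1 by omega, pow_succ', pow_mul, sq]
      exact h4.pow_left _
    rw [hsb.eq, mul_inv_cancel_right, left_eq_mul] at hneg
    exact p.cA.q_ne_one hneg
  subst hm2
  have hyy : y * y = zB := by
    refine p.cB.uniq _ (mul_mem h.mem h.mem) ?_
    rw [← sq, orderOf_pow_of_dvd (by norm_num) (by rw [hy]; norm_num), hy]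
    norm_num
  refine ⟨hyy, x, hxA, hxB, hx, ?_⟩
  set y' := x * y * x⁻¹ with hy'
  have hy'B : y' ∈ centralizer ({zB} : Set G) := mul_mem (mul_mem hxB hyB) (inv_mem hxB)
  have hy'z : y' * y' = zB := by
    have := mem_centralizer_singleton_iff.1 hxB
    calc y' * y' = x * (y * y) * x⁻¹ := by rw [hy']; group
      _ = zB := by rw [hyy, this, mul_inv_cancel_right]
  have hcomm : Commute (q zB y') (q zB y)⁻¹ := by
    refine Commute.inv_right (Commute.symm ?_)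
    refine p.cB.commute_of_ne (fun e => hx (p.cB.normalizes hxB e)) (p.cB.q_mem h.mem) ?_
    rw [hy', q_conj hxB hyB]
    exact conj_mem_cj _ (p.cB.q_mem h.mem)
  have hmA : y' * y⁻¹ * zA ∈ centralizer ({zA} : Set G) :=
    mul_mem (mul_mem h1 (inv_mem h.memA)) p.cA.mem_C
  have hmB : y' * y⁻¹ * zA ∈ centralizer ({zB} : Set G) :=
    mul_mem (mul_mem hy'B (inv_mem hyB)) p.comm_symm
  have hodd : Odd (orderOf (q zB (y' * y⁻¹ * zA))) := by
    refine odd_q hmB (odd_of_q_eq_one hmA ?_)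
    rw [q_mul (mul_mem h1 (inv_mem h.memA)) p.cA.mem_C, q_mul h1 (inv_mem h.memA), q_inv h.memA,
      h1q, ← hYdef, mul_inv_cancel_right, hwz, p.cA.q_mul_self]
  rw [q_mul (mul_mem hy'B (inv_mem hyB)) p.comm_symm, q_mul hy'B (inv_mem hyB), q_inv hyB] at hodd
  have hA : ∀ {g : G}, g ∈ centralizer ({zA} : Set G) → g ∈ centralizer ({zB} : Set G) →
      Commute (q zB g) (q zB zA) := fun hgA hgB =>
    q_commute hgB p.comm_symm (mem_centralizer_singleton_iff.1 hgA)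
  refine (eq_of_commuting_involutions ((hA h1 hy'B).mul_left ((hA h.memA hyB).inv_left)) ?_
    p.symm.sigma_mul_self hodd).symm
  rw [hcomm.symm.mul_mul_mul_comm, ← q_mul hy'B hy'B, ← mul_inv_rev, ← q_mul hyB hyB, hy'z, hyy,
    mul_inv_cancel]

/-- The consequence of Step G for the action on `B`. -/
theorem act_eq {x : G} (hy : y ∈ B) (hyy : y * y = zB) (hxB : x ∈ centralizer ({zB} : Set G))
    (hx : x ∉ normalizer (B : Set G))
    (hS : q zB zA = q zB (x * y * x⁻¹) * (q zB y)⁻¹) {e : Hb zB} (he : e ∈ img zB B) :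
    q zB zA * e * (q zB zA)⁻¹ = q zB y * e * (q zB y)⁻¹ := by
  have hyB := p.cB.le hy
  have hY := p.cB.q_mem hy
  have hX : q zB (x * y * x⁻¹) ∈ cj (q zB x) (img zB B) := by
    rw [q_conj hxB hyB]
    exact conj_mem_cj _ hY
  have hne : cj (q zB x) (img zB B) ≠ img zB B := fun e => hx (p.cB.normalizes hxB e)
  have hz : Commute e (q zB y * q zB y) := by
    rw [← q_mul hyB hyB, hyy]; exact p.cB.q_central e
  rw [hS]
  generalize q zB y = Y at hY hz ⊢
  generalize q zB (x * y * x⁻¹) = X at hX ⊢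
  have h1 : Y⁻¹ * e * Y = Y * e * Y⁻¹ := by
    calc Y⁻¹ * e * Y = Y⁻¹ * (e * (Y * Y)) * Y⁻¹ := by group
      _ = Y * e * Y⁻¹ := by rw [hz.eq]; group
  calc X * Y⁻¹ * e * (X * Y⁻¹)⁻¹ = X * (Y⁻¹ * e * Y) * X⁻¹ := by group
    _ = Y⁻¹ * e * Y := by
      rw [← p.cB.commute_of_ne hne (mul_mem (mul_mem (inv_mem hY) he) hY) hX, mul_inv_cancel_right]
    _ = _ := h1

/-- Everything a mover gives. -/
theorem mover_main (h : Mover zA A B y) :
    (∃ b ∈ img zA A, b * b = q zA zA ∧ q zA zB * b * (q zA zB)⁻¹ = b * q zA zA) ∧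
    y * y = zB ∧ ∃ x ∈ centralizer ({zA} : Set G), x ∈ centralizer ({zB} : Set G) ∧
      x ∉ normalizer (B : Set G) ∧ q zB zA = q zB (x * y * x⁻¹) * (q zB y)⁻¹ := by
  obtain ⟨m, hm, hy, hsig⟩ := p.sigma_eq_pow h
  set Y := q zA y with hYdef
  set s := q zA zB with hs
  set z := q zA zA with hzdef
  have hU := p.cA.isUQ
  have hYE : cj Y (img zA A) ≠ img zA A := fun e => h.moves (p.cA.normalizes h.memA e)
  have hY2E : cj (Y * Y) (img zA A) = img zA A := by
    rw [hYdef, ← q_mul h.memA h.memA]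
    exact p.cA.cj_img_of_normalizes (mul_mem h.memA h.memA) h.sq_norm
  obtain ⟨P, hP, hQP⟩ := exists_invariant_syl (E := img zA A) (Q := zpowers (Y * Y)) (by
      rintro ⟨_, i, rfl⟩
      refine ⟨m, Subtype.ext ?_⟩
      show ((Y * Y) ^ i) ^ 2 ^ m = 1
      rw [← zpow_natCast ((Y * Y) ^ i), ← zpow_mul, mul_comm, zpow_mul, zpow_natCast, ← sq,
        ← pow_mul, mul_comm, pow_mul, hYdef, ← q_pow h.memA, ← hy, pow_orderOf_eq_one, q_one,
        one_pow, one_zpow])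
    (zpowers_le.2 (cj_eq_self.1 hY2E))
  rw [zpowers_le] at hQP
  have hsP : s ∈ normalizer (P : Set (Hb zA)) := hsig ▸ pow_mem hQP _
  by_cases hnt : ∃ g ∈ P, s * g ≠ g * s
  · obtain ⟨g₀, hg₀, hne⟩ := hnt
    obtain ⟨b, hb, hbb, hneg⟩ := hU.exists_negated hP p.sigma_mul_self
      (fun g hg => (mem_normalizer_iff.1 hsP g).1 hg) hg₀ hne
    exact ⟨⟨b, hP.le hb, hbb, hneg⟩, p.stepG h (hP.le hb) hbb hneg hP.isP hP.le hb
      ((mem_normalizer_iff.1 hQP b).1 hb)⟩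
  exfalso
  simp only [not_exists, not_and, not_not] at hnt
  have hzA := p.mover_zB h
  have hyB := p.cB.le h.mem
  obtain ⟨i, hi, j, hj, hii, hjj, hji⟩ := hU.exists_ij hP
  have hinv : i⁻¹ = i * z := by
    refine inv_eq_of_mul_eq_one_right ?_
    rw [← mul_assoc, hii, p.cA.q_mul_self]
  -- lifts of `i`, `j`, `i j` move `B`
  have lift : ∀ c ∈ P, c * c = z → ∀ d ∈ P, c * d * c⁻¹ ≠ d →
      ∃ x ∈ A, x ∈ centralizer ({zB} : Set G) ∧ (∃ a : ℕ, x ^ 2 ^ a = 1) ∧ q zA x = c ∧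
        x ∉ normalizer (B : Set G) := by
    intro c hc hcc d hd hcd
    obtain ⟨x, hxA, hxB, hx2, hxq⟩ := p.exists_lift_mem hzA (hP.le hc) (hnt c hc).symm (k := 2)
      (by rw [show (2 : ℕ) ^ 2 = 2 * 2 from rfl, pow_mul, sq, sq, hcc, p.cA.q_mul_self])
    refine ⟨x, hxA, hxB, hx2, hxq, fun hn => ?_⟩
    have hxC := p.cA.le hxA
    have hrB : x * y * x⁻¹ * y⁻¹ ∈ B :=
      mul_mem ((mem_normalizer_iff.1 hn y).1 h.mem) (inv_mem h.mem)
    have hrA : x * y * x⁻¹ * y⁻¹ ∈ centralizer ({zA} : Set G) :=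
      mul_mem (mul_mem (mul_mem hxC h.memA) (inv_mem hxC)) (inv_mem h.memA)
    have hrq : q zA (x * y * x⁻¹ * y⁻¹) = c * (Y * c * Y⁻¹)⁻¹ := by
      rw [q_mul (mul_mem (mul_mem hxC h.memA) (inv_mem hxC)) (inv_mem h.memA),
        q_conj hxC h.memA, q_inv h.memA, hxq, ← hYdef]
      group
    have hc' : Commute c (Y * c * Y⁻¹)⁻¹ :=
      Commute.inv_right (p.cA.commute_of_ne hYE (hP.le hc) (conj_mem_cj Y (hP.le hc)))
    have hsq : c * (Y * c * Y⁻¹)⁻¹ * (c * (Y * c * Y⁻¹)⁻¹) = 1 := by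
      rw [hc'.symm.mul_mul_mul_comm, hcc, ← mul_inv_rev,
        show Y * c * Y⁻¹ * (Y * c * Y⁻¹) = Y * (c * c) * Y⁻¹ by group, hcc,
        p.cA.q_central Y, mul_inv_cancel_right, mul_inv_cancel]
    rcases p.eq_sigma hrB hrA (by rw [hrq]; exact hsq) with e | e <;> rw [hrq] at e
    · rw [mul_inv_eq_one] at e
      rcases p.cA.inter_of_ne hYE (hP.le hc) (e ▸ conj_mem_cj Y (hP.le hc)) with h1 | h1
      · exact hU.ne_one (by rw [← hzdef, ← hcc, h1, one_mul])
      · rw [h1, p.cA.q_mul_self] at hcc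
        exact hU.ne_one hcc.symm
    · apply hcd
      have h1 := hnt d hd
      rw [← hs] at e
      have hd' : Commute d (Y * c * Y⁻¹)⁻¹ :=
        Commute.inv_right (p.cA.commute_of_ne hYE (hP.le hd) (conj_mem_cj Y (hP.le hc)))
      generalize (Y * c * Y⁻¹)⁻¹ = c' at e hd'
      have h2 : s * d * s⁻¹ = c * d * c⁻¹ := by
        rw [← e]
        calc c * c' * d * (c * c')⁻¹ = c * (c' * d * c'⁻¹) * c⁻¹ := by group
          _ = c * d * c⁻¹ := by rw [← hd'.eq, mul_inv_cancel_right]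
      rw [← h2, h1, mul_inv_cancel_right]
  have hij : i * j * i⁻¹ = j * z := by
    have e : j * i = i * z * j := by rw [← hinv, ← hji, inv_mul_cancel_right]
    rw [hinv]
    calc i * j * (i * z) = i * (j * i) * z := by group
      _ = (i * i) * (z * j) * z := by rw [e]; group
      _ = j * z := by rw [hii, ← mul_assoc z z j, p.cA.q_mul_self, one_mul]
  have hjz : ∀ d : Hb zA, d * z ≠ d := fun d e => p.cA.q_ne_one (mul_eq_left.1 e)
  obtain ⟨x₁, h1A, h1B, h12, h1q, h1n⟩ := lift i hi hii j hj (by rw [hij]; exact hjz j)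
  obtain ⟨x₂, h2A, h2B, -, h2q, h2n⟩ := lift j hj hjj i hi (by rw [hji, hinv]; exact hjz i)
  have hijP := mul_mem hi hj
  obtain ⟨x₃, h3A, h3B, -, h3q, h3n⟩ := lift (i * j) hijP (by
      calc i * j * (i * j) = (i * j * i⁻¹) * (i * i) * j := by group
        _ = j * z * z * j := by rw [hij, hii]
        _ = z := by rw [mul_assoc j z z, p.cA.q_mul_self, mul_one, hjj]) i hi (by
      intro e
      apply hjz i
      rw [show i * j * i * (i * j)⁻¹ = i * (j * i * j⁻¹) * i⁻¹ by group, hji, mul_inv_cancel,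
        one_mul, hinv] at e
      exact e)
  set Yb := q zB y with hYb
  set F := img zB B with hF
  have hYbF : Yb ∈ F := p.cB.q_mem h.mem
  let u : G → G := fun x => x * y * x⁻¹ * y⁻¹
  have huA : ∀ x ∈ A, u x ∈ centralizer ({zA} : Set G) := fun x hx =>
    mul_mem (mul_mem (mul_mem (p.cA.le hx) h.memA) (inv_mem (p.cA.le hx))) (inv_mem h.memA)
  have huB : ∀ x ∈ centralizer ({zB} : Set G), u x ∈ centralizer ({zB} : Set G) := fun x hx =>
    mul_mem (mul_mem (mul_mem hx hyB) (inv_mem hx)) (inv_mem hyB)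
  have huq : ∀ x ∈ A, q zA (u x) = q zA x * (Y * q zA x * Y⁻¹)⁻¹ := fun x hx => by
    rw [q_mul (mul_mem (mul_mem (p.cA.le hx) h.memA) (inv_mem (p.cA.le hx))) (inv_mem h.memA),
      q_conj (p.cA.le hx) h.memA, q_inv h.memA, ← hYdef]
    group
  have huact : ∀ x ∈ centralizer ({zB} : Set G), x ∉ normalizer (B : Set G) → ∀ e ∈ F,
      q zB (u x) * e * (q zB (u x))⁻¹ = Yb⁻¹ * e * Yb := by
    intro x hx hn e he
    have hne : cj (q zB x) F ≠ F := fun e' => hn (p.cB.normalizes hx e')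
    have h1 : q zB (u x) = q zB x * Yb * (q zB x)⁻¹ * Yb⁻¹ := by
      rw [q_mul (mul_mem (mul_mem hx hyB) (inv_mem hx)) (inv_mem hyB), q_conj hx hyB, q_inv hyB,
        ← hYb]
    rw [h1]
    have hmem := conj_mem_cj (q zB x) hYbF
    generalize q zB x * Yb * (q zB x)⁻¹ = X at hmem ⊢
    calc X * Yb⁻¹ * e * (X * Yb⁻¹)⁻¹ = X * (Yb⁻¹ * e * Yb) * X⁻¹ := by group
      _ = _ := by
        rw [← p.cB.commute_of_ne hne (mul_mem (mul_mem (inv_mem hYbF) he) hYbF) hmem,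
          mul_inv_cancel_right]
  set U := q zB (u x₁ * u x₂ * u x₃) with hUdef
  have hUA := mul_mem (mul_mem (huA _ h1A) (huA _ h2A)) (huA _ h3A)
  have hUB := mul_mem (mul_mem (huB _ h1B) (huB _ h2B)) (huB _ h3B)
  have hUq : q zA (u x₁ * u x₂ * u x₃) = z := by
    rw [q_mul (mul_mem (huA _ h1A) (huA _ h2A)) (huA _ h3A), q_mul (huA _ h1A) (huA _ h2A),
      huq _ h1A, huq _ h2A, huq _ h3A, h1q, h2q, h3q]
    have hc : ∀ c ∈ P, ∀ d ∈ P, Commute (Y * c * Y⁻¹)⁻¹ d := fun c hc d hd =>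
      Commute.inv_left (p.cA.commute_of_ne hYE (hP.le hd) (conj_mem_cj Y (hP.le hc))).symm
    have e1 := (hc i hi j hj).eq
    have e2 := ((hc i hi _ hijP).mul_left (hc j hj _ hijP)).eq
    calc i * (Y * i * Y⁻¹)⁻¹ * (j * (Y * j * Y⁻¹)⁻¹) * (i * j * (Y * (i * j) * Y⁻¹)⁻¹)
        = i * ((Y * i * Y⁻¹)⁻¹ * j) * (Y * j * Y⁻¹)⁻¹ * (i * j) * (Y * (i * j) * Y⁻¹)⁻¹ := by
          group
      _ = i * j * (((Y * i * Y⁻¹)⁻¹ * (Y * j * Y⁻¹)⁻¹) * (i * j)) * (Y * (i * j) * Y⁻¹)⁻¹ := by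
          rw [e1]; group
      _ = i * j * (i * j) * (((Y * i * Y⁻¹)⁻¹ * (Y * j * Y⁻¹)⁻¹) * (Y * (i * j) * Y⁻¹)⁻¹) := by
          rw [e2]; group
      _ = (i * j * i⁻¹) * (i * i) * j * (Y * (i * (j * j) * i) * Y⁻¹)⁻¹ := by group
      _ = z := by
          rw [hij, hii, hjj, p.cA.q_central i, mul_assoc z i i, hii, p.cA.q_mul_self,
            mul_assoc j z z, p.cA.q_mul_self, mul_one, hjj]
          group
          rfl
  have hSU : Commute (q zB zA) U :=
    q_commute p.comm_symm hUB (mem_centralizer_singleton_iff.1 hUA).symm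
  have hS2 : q zB zA * q zB zA = 1 := p.symm.sigma_mul_self
  have hodd : Odd (orderOf (q zB zA * U)) := by
    rw [hUdef, ← q_mul p.comm_symm hUB]
    refine odd_q (mul_mem p.comm_symm hUB) (odd_of_q_eq_one (mul_mem p.cA.mem_C hUA) ?_)
    rw [q_mul p.cA.mem_C hUA, hUq, p.cA.q_mul_self]
  have hUact : ∀ e ∈ F, U * e * U⁻¹ = Yb⁻¹ ^ 3 * e * (Yb⁻¹ ^ 3)⁻¹ := by
    intro e he
    rw [hUdef, q_mul (mul_mem (huB _ h1B) (huB _ h2B)) (huB _ h3B), q_mul (huB _ h1B) (huB _ h2B)]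
    have e3 := huact _ h3B h3n e he
    have m3 : Yb⁻¹ * e * Yb ∈ F := mul_mem (mul_mem (inv_mem hYbF) he) hYbF
    have e2 := huact _ h2B h2n _ m3
    have e1 := huact _ h1B h1n _ (mul_mem (mul_mem (inv_mem hYbF) m3) hYbF)
    generalize q zB (u x₁) = a1 at e1
    generalize q zB (u x₂) = a2 at e2
    generalize q zB (u x₃) = a3 at e3
    calc a1 * a2 * a3 * e * (a1 * a2 * a3)⁻¹
        = a1 * (a2 * (a3 * e * a3⁻¹) * a2⁻¹) * a1⁻¹ := by group
      _ = _ := by rw [e3, e2, e1]; simp [pow_succ, mul_assoc]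
  have hUpow : ∀ n : ℕ, ∀ e ∈ F,
      U ^ n * e * (U ^ n)⁻¹ = (Yb⁻¹ ^ 3) ^ n * e * ((Yb⁻¹ ^ 3) ^ n)⁻¹ := by
    intro n
    induction n with
    | zero => intro e _; simp
    | succ n ih =>
      intro e he
      rw [pow_succ, pow_succ]
      calc U ^ n * U * e * (U ^ n * U)⁻¹ = U ^ n * (U * e * U⁻¹) * (U ^ n)⁻¹ := by group
        _ = _ := by
          rw [hUact e he, ih _ (mul_mem (mul_mem (pow_mem (inv_mem hYbF) _) he)
            (inv_mem (pow_mem (inv_mem hYbF) _)))]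
          group
  obtain ⟨N, hN⟩ : ∃ N, orderOf (q zB zA * U) = N := ⟨_, rfl⟩
  rw [hN] at hodd
  have hU2 : U ^ (2 * N) = 1 := by
    have := pow_orderOf_eq_one (q zB zA * U)
    rw [hN] at this
    calc U ^ (2 * N) = (q zB zA ^ 2) ^ N * U ^ (2 * N) := by rw [sq, hS2, one_pow, one_mul]
      _ = ((q zB zA * U) ^ N) ^ 2 := by
        rw [← pow_mul, ← hSU.mul_pow, ← pow_mul, mul_comm 2 N]
      _ = 1 := by rw [this, one_pow]
  have hY6 : (Yb⁻¹ ^ 3) ^ (2 * N) = 1 ∨ (Yb⁻¹ ^ 3) ^ (2 * N) = q zB zB := by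
    refine p.cB.isUQ.center_cases (pow_mem (pow_mem (inv_mem hYbF) _) _) fun e he => ?_
    have := hUpow (2 * N) e he
    rw [hU2] at this
    exact mul_inv_eq_iff_eq_mul.1 (by simpa using this.symm)
  have hYm : Yb ^ 2 ^ m = 1 := by rw [hYb, ← q_pow hyB, ← hy, pow_orderOf_eq_one, q_one]
  have hY4 : Yb ^ 4 = 1 := by
    have h12 : Yb ^ (4 * (3 * N)) = 1 := by
      have : ((Yb⁻¹ ^ 3) ^ (2 * N)) ^ 2 = 1 := by
        rcases hY6 with e | e <;> rw [e]
        · exact one_pow 2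
        · rw [sq, p.cB.q_mul_self]
      rw [← inv_inj, inv_one, ← this, ← inv_pow, ← pow_mul, ← pow_mul]
      congr 1; ring
    have hco : Nat.Coprime (3 * N) (2 ^ m) := by
      refine Nat.Coprime.pow_right m (Nat.coprime_comm.1 ?_)
      rw [Nat.prime_two.coprime_iff_not_dvd]
      intro hd
      exact (Odd.mul (by decide : Odd 3) hodd).not_two_dvd_nat hd
    refine orderOf_dvd_iff_pow_eq_one.1 ?_
    exact (Nat.Coprime.dvd_of_dvd_mul_right
      (hco.coprime_dvd_right (orderOf_dvd_of_pow_eq_one hYm)).symm (orderOf_dvd_of_pow_eq_one h12))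
  have hyy : y * y = zB := by
    have hy4 : y ^ 4 = 1 := by
      refine eq_one_of_odd_of_pow (k := m) (odd_of_q_eq_one (pow_mem hyB 4) ?_) ?_
      · rw [q_pow hyB, ← hYb, hY4]
      · rw [← pow_mul, mul_comm, pow_mul, ← hy, pow_orderOf_eq_one, one_pow]
    exact (p.cB.eq_of_sq (mul_mem h.mem h.mem)
      (by rw [← hy4]; simp [pow_succ, mul_assoc])).resolve_left h.sq_ne
  have hYY : Yb * Yb = q zB zB := by rw [hYb, ← q_mul hyB hyB, hyy]
  have hSact : ∀ e ∈ F, q zB zA * e * (q zB zA)⁻¹ = Yb * e * Yb⁻¹ := by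
    intro e he
    have hY3 : Yb⁻¹ ^ 3 = Yb := by
      rw [inv_pow]; exact inv_eq_of_mul_eq_one_right (by rw [← pow_succ]; exact hY4)
    have h2 : U * U * e * (U * U)⁻¹ = e := by
      rw [← sq, hUpow 2 e he, hY3, sq, hYY, ← p.cB.q_central e, mul_inv_cancel_right]
    have hW : Commute ((q zB zA * U) * (q zB zA * U)) e := by
      rw [hSU.symm.mul_mul_mul_comm, hS2, one_mul]
      exact mul_inv_eq_iff_eq_mul.1 h2
    obtain ⟨t, ht⟩ := exists_two_mul_zpow (show Odd (orderOf (q zB zA * U)) from hN.symm ▸ hodd)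
    have hWc : Commute (q zB zA * U) e := by
      rw [← ht, zpow_mul, zpow_two]
      exact hW.zpow_left t
    have h3 := mul_inv_eq_iff_eq_mul.2 hWc.eq
    rw [← hY3, ← hUact e he]
    calc q zB zA * e * (q zB zA)⁻¹
        = q zB zA * (q zB zA * U * e * (q zB zA * U)⁻¹) * (q zB zA)⁻¹ := by rw [h3]
      _ = (q zB zA * q zB zA) * (U * e * U⁻¹) * (q zB zA * q zB zA)⁻¹ := by group
      _ = _ := by rw [hS2, one_mul, inv_one, mul_one]
  have hzAB : zA ∈ normalizer (B : Set G) := by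
    refine p.cB.normalizes p.comm_symm ?_
    rw [cj_eq_self]
    refine mem_normalizer_iff.2 fun e => ⟨fun he => ?_, fun he => ?_⟩
    · rw [hSact e he]
      exact mul_mem (mul_mem hYbF he) (inv_mem hYbF)
    · have := hSact _ he
      have e' : e = q zB zA * (q zB zA * e * (q zB zA)⁻¹) * (q zB zA)⁻¹ := by
        rw [p.symm.sigma_inv]
        calc e = (q zB zA * q zB zA) * e * (q zB zA * q zB zA) := by rw [hS2, one_mul, mul_one]
          _ = _ := by group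
      rw [e', this]
      exact mul_mem (mul_mem hYbF he) (inv_mem hYbF)
  have h11 : x₁ * x₁ = zA := p.cA.sq_eq h1A h12 (by rw [h1q, hii])
  have hmv : Mover zB B A x₁ :=
    ⟨h1A, h1B, h12, by rw [h11]; exact p.cA.ne_one, h1n, by rw [h11]; exact hzAB⟩
  obtain ⟨x₀, hx₀, hk⟩ := p.cB.isUQ.exists_anticommute hYbF hYY
  set k := x₀ * Yb * x₀⁻¹ with hkdef
  have hkF : k ∈ F := mul_mem (mul_mem hx₀ hYbF) (inv_mem hx₀)
  have hkk : k * k = q zB zB := by
    rw [hkdef, show x₀ * Yb * x₀⁻¹ * (x₀ * Yb * x₀⁻¹) = x₀ * (Yb * Yb) * x₀⁻¹ by group, hYY,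
      p.cB.q_central x₀, mul_inv_cancel_right]
  have hneg : q zB zA * k * (q zB zA)⁻¹ = k * q zB zB := by
    rw [hSact k hkF]
    have : Yb * k = q zB zB * (k * Yb) := by rw [hk, ← mul_assoc (q zB zB) (q zB zB), p.cB.q_mul_self, one_mul]
    rw [this, ← mul_assoc, mul_inv_cancel_right, p.cB.q_central k]
  have hzk : q zB x₁ * q zB x₁ * k * (q zB x₁ * q zB x₁)⁻¹ ∈ zpowers k := by
    rw [← q_mul h1B h1B, h11, hneg, ← hkk]
    exact mul_mem (mem_zpowers k) (mul_mem (mem_zpowers k) (mem_zpowers k))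
  have hk4 : k ^ 4 = 1 := by
    rw [show 4 = 2 * 2 from rfl, pow_mul, sq, sq, hkk, p.cB.q_mul_self]
  obtain ⟨h1sq, x', hx'B, hx'A, hx'n, hA⟩ := p.symm.stepG hmv hkF hkk hneg
    (P := zpowers k) (by
      rintro ⟨_, r, rfl⟩
      refine ⟨2, Subtype.ext ?_⟩
      show (k ^ r) ^ 2 ^ 2 = 1
      rw [← zpow_natCast (k ^ r), ← zpow_mul, mul_comm, zpow_mul, zpow_natCast,
        show (2 : ℕ) ^ 2 = 4 from rfl, hk4, one_zpow])
    (zpowers_le.2 hkF) (mem_zpowers k) hzk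
  have := p.symm.act_eq h1A h1sq hx'A hx'n hA (hP.le hj)
  rw [h1q, hij, hnt j hj, mul_inv_cancel_right] at this
  exact hjz j this.symm

end Pair

end CfsgLib.SLPair
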